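import Groth.Agent.CalgC.DimFT
import Mathlib.RingTheory.Nullstellensatz
import Mathlib.RingTheory.Ideal.KrullsHeightTheorem
import Mathlib.RingTheory.MvPolynomial.Homogeneous

/-!
# Common zeros of few forms over an algebraically closed field

`exists_ne_zero`: fewer than `N` forms of positive degrees in `N` variables have a nonzero common zero.
-/

set_option autoImplicit false

namespace K714.Zeros

open MvPolynomial

variable {k : Type*} [Field k] [IsAlgClosed k]

omit [IsAlgClosed k] in
theorem eval_zero_of_isHomogeneous {σ : Type*} {p : MvPolynomial σ k} {n : ℕ} (hp : p.IsHomogeneous n)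
    (hn : 0 < n) : eval (0 : σ → k) p = 0 := by
  rw [eval_zero, constantCoeff_eq]
  exact hp.coeff_eq_zero (by simpa using hn.ne)

/-- Fewer than `N` forms of positive degree in `N` variables have a nonzero common zero. -/
theorem exists_ne_zero {N : ℕ} {ι : Type*} [Fintype ι] (hι : Fintype.card ι < N)
    (e : ι → ℕ) (he : ∀ i, 0 < e i) (g : ι → MvPolynomial (Fin N) k)
    (hg : ∀ i, (g i).IsHomogeneous (e i)) :
    ∃ v : Fin N → k, v ≠ 0 ∧ ∀ i, eval v (g i) = 0 := by
  by_contra hcon
  push Not at hcon
  set I : Ideal (MvPolynomial (Fin N) k) := Ideal.span (Set.range g) with hI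
  have hz : zeroLocus k I = {0} := by
    rw [hI, zeroLocus_span]
    ext v
    simp only [Set.mem_range, forall_exists_index, forall_apply_eq_imp_iff, Set.mem_ofPred_eq,
      Set.mem_singleton_iff]
    constructor
    · intro h
      by_contra hv
      obtain ⟨i, hi⟩ := hcon v hv
      exact hi (h i)
    · rintro rfl i
      exact eval_zero_of_isHomogeneous (hg i) (he i)
  have hrad : I.radical = vanishingIdeal k ({0} : Set (Fin N → k)) := by
    rw [← hz, vanishingIdeal_zeroLocus_eq_radical]
  have hmax : (vanishingIdeal k ({0} : Set (Fin N → k))).IsMaximal := inferInstance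
  have hmin : vanishingIdeal k ({0} : Set (Fin N → k)) ∈ I.minimalPrimes := by
    rw [← Ideal.radical_minimalPrimes, hrad]
    rw [Ideal.minimalPrimes_eq_subsingleton_self]
    rfl
  have h1 := Ideal.height_le_card_of_mem_minimalPrimes_span (Set.finite_range g) hmin
  rw [Groth.Agent.CalgC.DimFT.height_mvPolynomial_isMaximal] at h1
  have h2 : (Set.range g).ncard ≤ Fintype.card ι := by
    rw [← Nat.card_eq_fintype_card, ← Nat.card_coe_set_eq]
    exact Finite.card_range_le g
  have h3 : N ≤ (Set.range g).ncard := by exact_mod_cast h1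
  omega

end K714.Zeros
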