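import Groth.Agent.Desc.K390.PnSec
import Groth.Agent.VBPn.K699.TwHom
import Groth.Prelude.Def_LefPen
import Groth.Prelude.Def_FGA
import Groth.Prelude.Def_Omega2

/-!
# Parametrised rational curves on a cubic threefold (definitions)

* `Fano.K714.Rat.Xf f`, `ps f`: the hypersurface `V_+(f) ⊂ P^4` and its structure morphism.
* `cpt c s t = ∑ s^(d-m) t^m c_m`: the point with parameters `(s,t)` of the parametrised curve with
  coefficient vectors `c : Fin (d+1) → (Fin 5 → k)`.
* `Par f d`: linearly independent systems `c` with `f (cpt c s t) = 0` for all `s, t`.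
* `bform c j`: the `j`-th coordinate as a binary form of degree `d`.
* `IsPar f d c i`: the morphism `i : P^1 → V_+(f)` over `k` has homogeneous coordinates `c`.
* `IsClass f H Z d c x`: `x` is the point of the Hilbert scheme given by the curve with coordinates `c`.
-/

set_option autoImplicit false
universe u
open CategoryTheory CategoryTheory.Limits AlgebraicGeometry TopologicalSpace Opposite

namespace Groth.Agent.Fano.K714.Rat

variable {k : Type u} [Field k]

/-- The hypersurface `V_+(f) ⊂ P^4`. -/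
noncomputable abbrev Xf (f : LefPen.Form 4 k 3) : Scheme.{u} := (LefPen.hypIdeal f).subscheme

/-- Its embedding in `P^4`. -/
noncomputable abbrev emb (f : LefPen.Form 4 k 3) : Xf f ⟶ CohB1.ProjSpace 4 k := (LefPen.hypIdeal f).subschemeι

/-- Its structure morphism. -/
noncomputable abbrev ps (f : LefPen.Form 4 k 3) : Xf f ⟶ Spec (CommRingCat.of k) :=
  (LefPen.hypIdeal f).subschemeι ≫ CohB1.ProjSpace.toSpec 4 k

/-- The point with parameters `(s, t)`. -/
def cpt {d : ℕ} (c : Fin (d + 1) → Fin 5 → k) (s t : k) : Fin 5 → k :=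
  ∑ m : Fin (d + 1), (s ^ (d - (m : ℕ)) * t ^ (m : ℕ)) • c m

/-- Parametrised rational normal curves of degree `d` on `V_+(f)`. -/
def Par (f : LefPen.Form 4 k 3) (d : ℕ) : Set (Fin (d + 1) → Fin 5 → k) :=
  {c | LinearIndependent k c ∧ ∀ s t : k, MvPolynomial.eval (cpt c s t) f.1 = 0}

/-- The `j`-th coordinate as a binary form of degree `d`. -/
noncomputable def bform {d : ℕ} (c : Fin (d + 1) → Fin 5 → k) (j : Fin 5) : LefPen.Form 1 k d :=
  ⟨∑ m : Fin (d + 1), MvPolynomial.C (c m j) *
      (MvPolynomial.X 0 ^ (d - (m : ℕ)) * MvPolynomial.X 1 ^ (m : ℕ)), by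
    refine Submodule.sum_mem _ fun m _ => (MvPolynomial.mem_homogeneousSubmodule _ _).mpr ?_
    have h1 := ((MvPolynomial.isHomogeneous_X k (0 : Fin 2)).pow (d - (m : ℕ))).mul
      ((MvPolynomial.isHomogeneous_X k (1 : Fin 2)).pow (m : ℕ))
    have h2 := (MvPolynomial.isHomogeneous_C (Fin 2) (c m j)).mul h1
    have e : 0 + (1 * (d - (m : ℕ)) + 1 * (m : ℕ)) = d := by have := m.2; omega
    rw [e] at h2
    exact h2⟩

theorem eval_bform {d : ℕ} (c : Fin (d + 1) → Fin 5 → k) (j : Fin 5) (x : Fin 2 → k) :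
    MvPolynomial.eval x (bform c j).1 = cpt c (x 0) (x 1) j := by
  simp only [bform, cpt, map_sum, map_mul, map_pow, MvPolynomial.eval_C, MvPolynomial.eval_X,
    Finset.sum_apply, Pi.smul_apply, smul_eq_mul]
  exact Finset.sum_congr rfl fun m _ => mul_comm _ _

/-- The morphism `i : P^1 → V_+(f)` over `k` has homogeneous coordinates `c`. -/
def IsPar (f : LefPen.Form 4 k 3) (d : ℕ) (c : Fin (d + 1) → Fin 5 → k)
    (i : CohB1.ProjSpace 1 k ⟶ Xf f) : Prop :=
  i ≫ ps f = CohB1.ProjSpace.toSpec 1 k ∧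
    K390.PnSec.GivenBy (i ≫ emb f) (Twist.twistProjSpace 1 k (d : ℤ))
      (fun j => (Twist.globalOf (CohB1.polyGrading 1 k) (bform c j) : Γ(Twist.twistProjSpace 1 k (d : ℤ), ⊤)))

/-- The final object of `Over (Spec k)` used for `k`-points. -/
noncomputable abbrev pt (k : Type u) [Field k] : Over (Spec (CommRingCat.of k)) :=
  Over.mk (𝟙 (Spec (CommRingCat.of k)))

/-- `x` is the point of the Hilbert scheme given by the curve with homogeneous coordinates `c`. -/
def IsClass (f : LefPen.Form 4 k 3) (H : Over (Spec (CommRingCat.of k))) (Z : FGA.HilbSet (ps f) H)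
    (d : ℕ) (c : Fin (d + 1) → Fin 5 → k) (x : ↥H.left) : Prop :=
  ∃ (h : pt k ⟶ H) (i : CohB1.ProjSpace 1 k ⟶ Xf f),
    x = h.left.base (IsLocalRing.closedPoint k) ∧ IsPar f d c i ∧
      FGA.hilbPull (ps f) h Z.1 = i.ker.comap (pullback.fst (ps f) (pt k).hom)

end Groth.Agent.Fano.K714.Rat
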