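import Groth.Agent.Fano.K714.Zeros
import Mathlib.Algebra.MvPolynomial.PDeriv
import Mathlib.RingTheory.MvPolynomial.EulerIdentity
import Mathlib.Algebra.Module.Submodule.Union
import Mathlib.LinearAlgebra.Dual.Lemmas

/-!
# Linear subspaces of hypersurfaces, elementary

* `two_mul_finrank_le`: a linear subspace of a hypersurface of degree `≥ 2` smooth along it has dimension at most
  half of the ambient one.
* `finite_hyperplanes`: a polynomial not vanishing identically on `P` vanishes on finitely many hyperplanes of `P`.
-/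

set_option autoImplicit false

namespace K714.LinSp

open MvPolynomial Module

variable {k : Type*} [Field k]

/-- The restriction of a polynomial to the line `u + t v`. -/
noncomputable def lineP {σ : Type*} (u v : σ → k) (f : MvPolynomial σ k) : Polynomial k :=
  aeval (fun i => Polynomial.C (u i) + Polynomial.C (v i) * Polynomial.X) f

theorem eval_lineP {σ : Type*} (u v : σ → k) (f : MvPolynomial σ k) (t : k) :
    (lineP u v f).eval t = eval (u + t • v) f := by
  induction f using MvPolynomial.induction_on with
  | C a => simp [lineP]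
  | add p q hp hq =>
    simp only [lineP, map_add, Polynomial.eval_add] at hp hq ⊢
    rw [hp, hq]
  | mul_X p j hp =>
    simp only [lineP, map_mul, aeval_X, Polynomial.eval_mul] at hp ⊢
    rw [hp]
    simp [mul_comm (v j) t]

theorem natDegree_lineP_le {σ : Type*} (u v : σ → k) (f : MvPolynomial σ k) {d : ℕ}
    (hf : f.totalDegree ≤ d) : (lineP u v f).natDegree ≤ d := by
  refine (aeval_natDegree_le f hf _ (n := 1) fun i => ?_).trans (by simp)
  compute_degree

theorem eval_derivative_lineP {σ : Type*} [Fintype σ] (u v : σ → k) (f : MvPolynomial σ k) :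
    (lineP u v f).derivative.eval 0 = ∑ i, v i * eval u (pderiv i f) := by
  classical
  induction f using MvPolynomial.induction_on with
  | C a => simp [lineP]
  | add p q hp hq =>
    simp only [lineP, map_add, Polynomial.eval_add] at hp hq ⊢
    rw [hp, hq, ← Finset.sum_add_distrib]
    exact Finset.sum_congr rfl fun i _ => by ring
  | mul_X p j hp =>
    have h0 : (lineP u v p).eval 0 = eval u p := by simp [eval_lineP]
    simp only [lineP, map_mul, aeval_X, Polynomial.derivative_mul, Polynomial.eval_add,
      Polynomial.eval_mul, Derivation.leibniz, smul_eq_mul] at hp h0 ⊢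
    rw [hp, h0]
    simp only [Polynomial.eval_C, Polynomial.eval_X, mul_zero, add_zero, map_add,
      Polynomial.derivative_C, zero_add, pderiv_X, map_mul, eval_X, mul_add,
      Finset.sum_add_distrib, Polynomial.derivative_mul, Polynomial.derivative_X, mul_one, zero_mul]
    rw [add_comm]
    congr 1
    · rw [Finset.sum_eq_single j]
      · simp; ring
      · intro i _ hi
        simp [hi.symm]
      · simp
    · rw [Finset.sum_mul]
      exact Finset.sum_congr rfl fun i _ => by ring

/-- If `f` vanishes on the line `u + k v`, its derivative at `u` in the direction `v` is zero. -/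
theorem sum_pderiv_eq_zero [Infinite k] {σ : Type*} [Fintype σ] (u v : σ → k) (f : MvPolynomial σ k)
    (h : ∀ t : k, eval (u + t • v) f = 0) : ∑ i, v i * eval u (pderiv i f) = 0 := by
  have h1 : lineP u v f = 0 := Polynomial.funext fun t => by
    rw [eval_lineP, h, Polynomial.eval_zero]
  rw [← eval_derivative_lineP, h1]
  simp

/-- The substitution of the coordinates with respect to a family of vectors. -/
noncomputable def sub {σ τ : Type*} [Fintype τ] (b : τ → σ → k) :
    MvPolynomial σ k →ₐ[k] MvPolynomial τ k :=
  aeval fun i => ∑ l, C (b l i) * X l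

theorem eval_sub {σ τ : Type*} [Fintype τ] (b : τ → σ → k) (f : MvPolynomial σ k) (x : τ → k) :
    eval x (sub b f) = eval (∑ l, x l • b l) f := by
  induction f using MvPolynomial.induction_on with
  | C a => simp [sub]
  | add p q hp hq => simp only [map_add] at hp hq ⊢; rw [hp, hq]
  | mul_X p j hp =>
    simp only [map_mul] at hp ⊢
    rw [hp]
    simp [sub, mul_comm]

theorem isHomogeneous_sub {σ τ : Type*} [Fintype τ] (b : τ → σ → k) (f : MvPolynomial σ k) {d : ℕ}
    (hf : f.IsHomogeneous d) : (sub b f).IsHomogeneous d := by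
  have h := hf.aeval (fun i => ∑ l, C (b l i) * X l) (n := 1) fun i => by
    refine IsHomogeneous.sum _ _ _ fun l _ => ?_
    simpa using (isHomogeneous_C τ (b l i)).mul (isHomogeneous_X k l)
  rw [one_mul] at h
  exact h

theorem two_mul_finrank_le [IsAlgClosed k] {n d : ℕ} (hd : 2 ≤ d)
    (f : MvPolynomial (Fin n) k) (hf : f.IsHomogeneous d)
    (U : Submodule k (Fin n → k))
    (hU : ∀ u ∈ U, MvPolynomial.eval u f = 0)
    (hsm : ∀ u ∈ U, u ≠ 0 → ∃ i : Fin n, MvPolynomial.eval u (MvPolynomial.pderiv i f) ≠ 0) :
    2 * Module.finrank k ↥U ≤ n := by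
  by_contra hlt
  push Not at hlt
  obtain ⟨W, hW⟩ := U.exists_isCompl
  have hsum := Submodule.finrank_add_eq_of_isCompl hW
  rw [Module.finrank_fin_fun] at hsum
  let bU := Module.finBasis k U
  let bW := Module.finBasis k W
  -- the derivatives in the directions of `W`, restricted to `U`
  let g : Fin (finrank k W) → MvPolynomial (Fin (finrank k U)) k := fun j =>
    sub (fun l => (bU l : Fin n → k)) (∑ i, C ((bW j : Fin n → k) i) * pderiv i f)
  obtain ⟨x, hx0, hx⟩ := Zeros.exists_ne_zero (by simpa using (by omega)) (fun _ => d - 1)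
    (fun _ => by omega) g (fun j => by
      refine isHomogeneous_sub _ _ (IsHomogeneous.sum _ _ _ fun i _ => ?_)
      simpa using (isHomogeneous_C _ _).mul (hf.pderiv (i := i)))
  let u : U := ∑ l, x l • bU l
  have hu0 : u ≠ 0 := by
    intro h0
    apply hx0
    have := Fintype.linearIndependent_iff.mp bU.linearIndependent x h0
    exact funext this
  obtain ⟨i, hi⟩ := hsm u u.2 (by simpa using hu0)
  -- all directional derivatives vanish
  have hdir : ∀ v : Fin n → k, ∑ i, v i * eval (u : Fin n → k) (pderiv i f) = 0 := by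
    have h1 : ∀ v ∈ U, ∑ i, v i * eval (u : Fin n → k) (pderiv i f) = 0 := fun v hv =>
      sum_pderiv_eq_zero _ _ _ fun t => hU _ (U.add_mem u.2 (U.smul_mem t hv))
    have h2 : ∀ v ∈ W, ∑ i, v i * eval (u : Fin n → k) (pderiv i f) = 0 := by
      intro v hv
      have hv' : v = ∑ j, bW.repr ⟨v, hv⟩ j • (bW j : Fin n → k) := by
        have := congrArg (W.subtype) (bW.sum_repr ⟨v, hv⟩)
        rw [map_sum] at this
        simpa only [map_smul, Submodule.subtype_apply] using this.symm
      have h3 : ∀ j, ∑ i, (bW j : Fin n → k) i * eval (u : Fin n → k) (pderiv i f) = 0 := by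
        intro j
        have h4 := hx j
        rw [eval_sub] at h4
        simpa [u] using h4
      calc ∑ i, v i * eval (u : Fin n → k) (pderiv i f)
          = ∑ j, bW.repr ⟨v, hv⟩ j * ∑ i, (bW j : Fin n → k) i * eval (u : Fin n → k) (pderiv i f) := by
            simp_rw [Finset.mul_sum]
            rw [Finset.sum_comm]
            refine Finset.sum_congr rfl fun i _ => ?_
            conv_lhs => rw [hv']
            simp only [Finset.sum_apply, Pi.smul_apply, smul_eq_mul, Finset.sum_mul]
            exact Finset.sum_congr rfl fun j _ => by ring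
        _ = 0 := by simp [h3]
    intro v
    obtain ⟨a, ha, b, hb, rfl⟩ := Submodule.mem_sup.mp (hW.sup_eq_top ▸ Submodule.mem_top : v ∈ U ⊔ W)
    simp only [Pi.add_apply, add_mul, Finset.sum_add_distrib, h1 a ha, h2 b hb, add_zero]
  apply hi
  have := hdir (Pi.single i 1)
  simpa [Pi.single_apply] using this

/-- A polynomial which does not vanish identically on a subspace `P` vanishes on only finitely many hyperplanes
of `P`. -/
theorem finite_hyperplanes [Infinite k] {σ : Type*} [Finite σ] (f : MvPolynomial σ k) (P : Submodule k (σ → k))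
    (u : σ → k) (huP : u ∈ P) (hu : eval u f ≠ 0) :
    {M : Submodule k (σ → k) | M ≤ P ∧ finrank k M + 1 = finrank k P ∧ ∀ x ∈ M, eval x f = 0}.Finite := by
  set S := {M : Submodule k (σ → k) | M ≤ P ∧ finrank k M + 1 = finrank k P ∧ ∀ x ∈ M, eval x f = 0} with hS
  by_contra hinf
  obtain ⟨t, htS, htc⟩ := Set.Infinite.exists_subset_card_eq hinf (f.totalDegree + 1)
  have hψ : ∀ M : t, ∃ ψ : Dual k (σ → k), ψ u = 1 ∧ M.1 ≤ LinearMap.ker ψ := by
    intro M
    have huM : u ∉ M.1 := fun h => hu ((htS M.2).2.2 u h)
    obtain ⟨ψ, h1, h2⟩ := Submodule.exists_le_ker_of_notMem huM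
    refine ⟨(ψ u)⁻¹ • ψ, by simp [h1], fun x hx => ?_⟩
    have := h2 hx
    simp only [LinearMap.mem_ker] at this
    simp [this]
  choose ψ hψu hψM using hψ
  have hM : ∀ M : t, M.1 = P ⊓ LinearMap.ker (ψ M) := by
    intro M
    have hle : M.1 ≤ P ⊓ LinearMap.ker (ψ M) := le_inf (htS M.2).1 (hψM M)
    have hlt : P ⊓ LinearMap.ker (ψ M) < P := by
      refine lt_of_le_of_ne inf_le_left fun h => ?_
      have : u ∈ P ⊓ LinearMap.ker (ψ M) := h.symm.le huP
      have := (Submodule.mem_inf.mp this).2
      rw [LinearMap.mem_ker, hψu] at this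
      exact one_ne_zero this
    have h1 := Submodule.finrank_lt_finrank_of_lt hlt
    have h2 := (htS M.2).2.1
    exact Submodule.eq_of_le_of_finrank_le hle (by omega)
  -- the forms `ψ M - ψ M'` and `ψ M` do not vanish identically on `P`
  obtain ⟨v, hvP, hv⟩ := Module.Dual.exists_forall_mem_ne_zero_of_forall_exists P
    (fun x : {x : t × t // x.1 ≠ x.2} ⊕ t =>
      Sum.elim (fun x : {x : t × t // x.1 ≠ x.2} => ψ x.1.1 - ψ x.1.2) (fun M => ψ M) x) (by
    rintro (⟨⟨M, M'⟩, hne⟩ | M)
    · by_contra hcon
      push Not at hcon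
      apply hne
      apply Subtype.ext
      rw [hM M, hM M']
      ext x
      simp only [Submodule.mem_inf, LinearMap.mem_ker]
      refine and_congr_right fun hx => ?_
      have := hcon x hx
      simp only [Sum.elim_inl, LinearMap.sub_apply, sub_eq_zero] at this
      rw [this]
    · exact ⟨u, huP, by simp [hψu]⟩)
  have h1 : ∀ M M' : t, M ≠ M' → ψ M v ≠ ψ M' v := by
    intro M M' h h'
    exact hv (Sum.inl ⟨(M, M'), h⟩) (by simp [h'])
  have h2 : ∀ M : t, ψ M v ≠ 0 := fun M => hv (Sum.inr M)
  have h3 := Polynomial.eq_zero_of_natDegree_lt_card_of_eval_eq_zero (lineP u v f) (ι := t)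
    (f := fun M => - (ψ M v)⁻¹) (fun M M' h => by
      by_contra hne
      have : ψ M v = ψ M' v := by simpa using h
      exact h1 M M' hne this) (fun M => by
      rw [eval_lineP]
      apply (htS M.2).2.2
      rw [hM M]
      refine Submodule.mem_inf.mpr ⟨P.add_mem huP (P.smul_mem _ hvP), ?_⟩
      rw [LinearMap.mem_ker, map_add, map_smul, hψu, smul_eq_mul]
      field_simp [h2 M]
      simp) (by
      refine (natDegree_lineP_le u v f le_rfl).trans_lt ?_
      simp [htc])
  apply hu
  have := eval_lineP u v f 0
  rw [h3] at this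
  simpa using this.symm

end K714.LinSp
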