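import Groth.Agent.Fano.K714.Cone

/-!
# Lines through a point of a general hypersurface: the bound on the dimension
-/

set_option autoImplicit false

universe u

namespace K714.ConeMain

open MvPolynomial LefPen Groth.Agent.Lefpen.H703.ZOpen Groth.Agent.Lefpen.H703.NondegOpen K714.Codim
  K714.HypSeq K714.Taylor K714.Cone

variable {k : Type u} [Field k] [IsAlgClosed k] {m d : ℕ}

/-- A finite product of nonzero polynomial functions is nonzero. -/
theorem exists_prod_ne_zero {V : Type u} [AddCommGroup V] [Module k V] {ι : Type*} (s : Finset ι)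
    {f : ι → V → k} (hf : ∀ i ∈ s, IsPolyFun k (f i)) (h0 : ∀ i ∈ s, ∃ v, f i v ≠ 0) :
    ∃ v, ∏ i ∈ s, f i v ≠ 0 := by
  classical
  have : Infinite k := IsAlgClosed.instInfinite
  induction s using Finset.induction_on with
  | empty => exact ⟨0, by simp⟩
  | insert a s ha ih =>
    simp only [Finset.prod_insert ha]
    refine exists_mul_ne_zero (hf a (Finset.mem_insert_self _ _)) (pf_prod s fun i hi =>
      hf i (Finset.mem_insert_of_mem hi)) (h0 a (Finset.mem_insert_self _ _)) ?_
    exact ih (fun i hi => hf i (Finset.mem_insert_of_mem hi)) fun i hi => h0 i (Finset.mem_insert_of_mem hi)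

/-- An algebraic subset of affine `n`-space whose coordinate ring has dimension `≤ e` has codimension `≥ n - e`. -/
theorem codimGE_of_dim {n : ℕ} {I : Ideal (MvPolynomial (Fin n) k)} {e c : ℕ} (hec : e + c ≤ n)
    (h : ringKrullDim (MvPolynomial (Fin n) k ⧸ I) ≤ e) {A : Set (Fin n → k)}
    (hA : ∀ y ∈ A, ∀ p ∈ I, eval y p = 0) : CodimGE k A c := by
  have : Infinite k := IsAlgClosed.instInfinite
  rw [codimGE_iff (Pi.basisFun k (Fin n)), le_height_iff]
  intro P hP hle
  have hIP : I ≤ P := by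
    refine le_trans ?_ hle
    rintro p hp _ ⟨y, hy, rfl⟩
    rw [aeval_eq_eval]
    have h1 : (Pi.basisFun k (Fin n)).equivFun y = y := by ext i; simp
    rw [h1]
    exact hA y hy p hp
  obtain ⟨d', a', hd', -, ha', had'⟩ := DimMv.exists_nat_dim P
  have h1 : ringKrullDim (MvPolynomial (Fin n) k ⧸ P) ≤ e :=
    (ringKrullDim_le_of_surjective (Ideal.Quotient.factor hIP) (Ideal.Quotient.factor_surjective hIP)).trans h
  rw [hd'] at h1
  have h2 : d' ≤ e := by exact_mod_cast h1
  rw [ha']
  rw [Nat.card_eq_fintype_card, Fintype.card_fin] at had'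
  have h3 : c ≤ a' := by omega
  exact_mod_cast h3

omit [IsAlgClosed k] in
/-- The projection along `v` to the hyperplane `w_i = 0`, and the `i`-th coordinate. -/
noncomputable def projEquiv (i : Fin (m + 2)) (v : Fin (m + 1) → k) :
    (Fin (m + 2) → k) ≃ₗ[k] (Fin (m + 1) → k) × k where
  toFun w := (fun l => w (i.succAbove l) - v l * w i, w i)
  map_add' w w' := by
    refine Prod.ext ?_ rfl
    ext l
    simp only [Pi.add_apply, Prod.mk_add_mk]
    ring
  map_smul' c w := by
    refine Prod.ext ?_ rfl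
    ext l
    simp only [Pi.smul_apply, smul_eq_mul, RingHom.id_apply, Prod.smul_mk]
    ring
  invFun p := i.insertNth p.2 (fun l => p.1 l + v l * p.2)
  left_inv w := by
    ext l
    refine Fin.succAboveCases i ?_ (fun l => ?_) l
    · simp
    · simp
  right_inv p := by
    refine Prod.ext ?_ ?_
    · ext l
      simp
    · simp

theorem isGeneric_cone (hd : d + 2 ≤ m) :
    IsGeneric k {Φ : Form (m + 1) k d |
      ∀ v : Fin (m + 1 + 1) → k, v ≠ 0 → eval v Φ.1 = 0 →
        CodimGE k {w : Fin (m + 1 + 1) → k | ∀ s t : k, eval (s • v + t • w) Φ.1 = 0} d} := by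
  have : Infinite k := IsAlgClosed.instInfinite
  have hbad := codimGE_bad (k := k) m d (by omega)
  have hZ := Codim2.codimGE_zero_prod (V := k) hbad
  rw [Module.finrank_self] at hZ
  have hf : ∀ i : Fin (m + 2), ∃ f : Form (m + 1) k d → k, IsPolyFun k f ∧ (∃ Φ, f Φ ≠ 0) ∧
      ∀ u : Fin (m + 1) → k, ∀ w ∈ {p : k × Sq k m d | p.1 = 0 ∧ p.2 ∈ bad k m d}, f (T' i u w) = 0 := by
    intro i
    refine Codim2.exists_polyFun_vanishing (U := Fin (m + 1) → k) (W := k × Sq k m d)
      (V := Form (m + 1) k d) hZ (μ := fun p => T' i p.1 p.2) (isPolyMap_T' i) ?_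
    rw [finrank_eq, Module.finrank_fin_fun]
    omega
  choose f hf hf0 hfv using hf
  refine ⟨fun Φ => ∏ i, f i Φ, pf_prod _ fun i _ => hf i, exists_prod_ne_zero _ (fun i _ => hf i)
    fun i _ => hf0 i, ?_⟩
  intro Φ hΦ v hv hΦv
  rw [Finset.prod_ne_zero_iff] at hΦ
  obtain ⟨i, hi⟩ := Function.ne_iff.mp hv
  rw [Pi.zero_apply] at hi
  set v' : Fin (m + 1) → k := fun l => (v i)⁻¹ * v (i.succAbove l) with hv'
  have hins : (i.insertNth 1 v' : Fin (m + 2) → k) = (v i)⁻¹ • v := by
    ext l
    refine Fin.succAboveCases i ?_ (fun l => ?_) l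
    · simp [hi]
    · simp [hv']
  obtain ⟨p, hp⟩ := T'_surjective (d := d) i v' Φ
  have hpT : T i v' p = Φ.1 := congrArg Subtype.val hp
  -- the constant term vanishes
  have hp1 : p.1 = 0 := by
    have h1 := eval_T_line i v' p 0 1
    rw [hpT] at h1
    have h2 : ((1 : k) - (0 : Fin (m + 2) → k) i) • (i.insertNth 1 v' : Fin (m + 2) → k) + 0 = (v i)⁻¹ • v := by
      rw [hins]; simp
    rw [h2, Groth.Agent.Lefpen.H703.Elim.eval_smul_of_isHomogeneous
      ((mem_homogeneousSubmodule _ _).1 Φ.2), hΦv, mul_zero] at h1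
    have h3 : ∀ j : Fin d, eval (fun l => (0 : Fin (m + 2) → k) (i.succAbove l) -
        v' l * (0 : Fin (m + 2) → k) i) (p.2 j).1 = 0 := by
      intro j
      have h4 : (fun l => (0 : Fin (m + 2) → k) (i.succAbove l) - v' l * (0 : Fin (m + 2) → k) i) =
        (0 : Fin (m + 1) → k) := by
        ext l; simp
      rw [h4, eval_zero, constantCoeff_eq]
      exact ((mem_homogeneousSubmodule _ _).1 (p.2 j).2).coeff_eq_zero (by simp)
    simp only [h3] at h1
    simpa using h1.symm
  have hgood : p.2 ∉ bad k m d := by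
    intro hb
    apply hΦ i (Finset.mem_univ i)
    rw [← hp]
    exact hfv i v' p ⟨hp1, hb⟩
  -- the locus in the hyperplane
  set I := Ideal.span (Set.range fun j : Fin d => (p.2 j).1) with hI
  have hdim : ringKrullDim (MvPolynomial (Fin (m + 1)) k ⧸ I) ≤ (m + 1 - d : ℕ) := by
    rw [← not_le_iff]
    intro h
    apply hgood
    change ((m + 2 - d : ℕ) : WithBot ℕ∞) ≤ _
    rwa [show m + 2 - d = m + 1 - d + 1 by omega]
  set A : Set (Fin (m + 1) → k) := {y | ∀ j, eval y (p.2 j).1 = 0} with hA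
  have hAc : CodimGE k A d := by
    refine codimGE_of_dim (e := m + 1 - d) (by omega) hdim ?_
    intro y hy q hq
    have h2 : I ≤ RingHom.ker (eval y) := by
      rw [hI, Ideal.span_le]
      rintro _ ⟨j, rfl⟩
      exact hy j
    exact h2 hq
  have h5 := codimGE_cylinder (W := k) hAc
  rw [← codimGE_preimage (projEquiv i v')] at h5
  refine codimGE_mono ?_ h5
  intro w hw j
  -- expansion along the lines
  refine (coeffs_eq_zero p.1 (fun j => eval (projEquiv i v' w).1 (p.2 j).1) fun s => ?_).2 j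
  have h6 := eval_T_line i v' p w s
  rw [hpT, hins] at h6
  rw [show (projEquiv i v' w).1 = fun l => w (i.succAbove l) - v' l * w i from rfl]
  rw [← h6]
  have h7 := hw ((s - w i) * (v i)⁻¹) 1
  rwa [one_smul, ← smul_smul] at h7

end K714.ConeMain
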