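import Groth.Agent.Fano.K714.DimMv
import Groth.Agent.Lefpen.H703.NondegOpen
import Mathlib.RingTheory.GradedAlgebra.Radical
import Mathlib.Algebra.Module.Submodule.Union

/-!
# Dimension of homogeneous ideals through linear sections

`dim_le_iff`: for a homogeneous ideal `I` of `k[x_0, …, x_m]`, `k` algebraically closed, `dim k[x]/I ≤ t` iff there are
`t` linear forms such that the only common zero of `I` and of these forms is the origin.
-/

set_option autoImplicit false

universe u

namespace K714.HomDim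

open MvPolynomial LefPen Groth.Agent.Lefpen.H703.ZOpen

variable {k : Type u} [Field k] {m : ℕ}

theorem isHomogeneous_of_mem_minimalPrimes {I P : Ideal (MvPolynomial (Fin (m + 1)) k)}
    (hI : I.IsHomogeneous (CohB1.polyGrading m k)) (hP : P ∈ I.minimalPrimes) :
    P.IsHomogeneous (CohB1.polyGrading m k) := by
  have hPp : P.IsPrime := hP.1.1
  have h1 := hPp.homogeneousCore (𝒜 := CohB1.polyGrading m k)
  have h2 : I ≤ (P.homogeneousCore (CohB1.polyGrading m k)).toIdeal := by
    rw [← hI.toIdeal_homogeneousCore_eq_self]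
    exact Ideal.homogeneousCore_mono _ hP.1.2
  have h3 : (P.homogeneousCore (CohB1.polyGrading m k)).toIdeal ≤ P := Ideal.toIdeal_homogeneousCore_le _ _
  have h4 := hP.2 ⟨h1, h2⟩ h3
  have h5 : (P.homogeneousCore (CohB1.polyGrading m k)).toIdeal = P := le_antisymm h3 h4
  rw [← h5]
  exact (P.homogeneousCore (CohB1.polyGrading m k)).isHomogeneous

/-- The dimension of a quotient is detected on the minimal primes. -/
theorem ringKrullDim_quotient_le_iff {R : Type*} [CommRing R] (I : Ideal R) (t : WithBot ℕ∞) :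
    ringKrullDim (R ⧸ I) ≤ t ↔ ∀ P ∈ I.minimalPrimes, ringKrullDim (R ⧸ P) ≤ t := by
  constructor
  · intro h P hP
    refine le_trans ?_ h
    exact ringKrullDim_le_of_surjective (Ideal.Quotient.factor hP.1.2) (Ideal.Quotient.factor_surjective hP.1.2)
  · intro h
    rw [ringKrullDim_quotient]
    refine iSup_le fun l => ?_
    have hp := l.head.2
    rw [PrimeSpectrum.mem_zeroLocus] at hp
    obtain ⟨P, hP, hPle⟩ := Ideal.exists_minimalPrimes_le (I := I) (J := l.head.1.asIdeal) hp
    refine le_trans ?_ (h P hP)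
    rw [ringKrullDim_quotient]
    let l' : LTSeries (PrimeSpectrum.zeroLocus (P : Set R)) :=
      { length := l.length
        toFun := fun i => ⟨(l i).1, by
          rw [PrimeSpectrum.mem_zeroLocus]
          have h1 : l.head ≤ l i := LTSeries.head_le l i
          exact hPle.trans h1⟩
        step := fun i => l.step i }
    exact Order.LTSeries.length_le_krullDim l'

theorem homogeneousComponent_mem {I : Ideal (MvPolynomial (Fin (m + 1)) k)}
    (hI : I.IsHomogeneous (CohB1.polyGrading m k)) {p : MvPolynomial (Fin (m + 1)) k} (hp : p ∈ I) (n : ℕ) :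
    homogeneousComponent n p ∈ I := by
  have := hI n hp
  rwa [← decomposition.decompose'_apply]

theorem le_origin {I : Ideal (MvPolynomial (Fin (m + 1)) k)}
    (hI : I.IsHomogeneous (CohB1.polyGrading m k)) (h : I ≠ ⊤) :
    I ≤ vanishingIdeal k {(0 : Fin (m + 1) → k)} := by
  intro p hp x hx
  rw [Set.mem_singleton_iff.mp hx]
  have h1 := homogeneousComponent_mem hI hp 0
  rw [homogeneousComponent_zero] at h1
  by_contra hne
  apply h
  rw [aeval_eq_eval] at hne
  have h2 : eval (0 : Fin (m + 1) → k) p = coeff 0 p := by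
    rw [eval_zero, constantCoeff_eq]
  refine Ideal.eq_top_of_isUnit_mem _ h1 ?_
  rw [← h2]
  exact (isUnit_iff_ne_zero.mpr hne).map C

variable [IsAlgClosed k]

/-- If the only common zero of the homogeneous ideal `I` and of `t` linear forms is the origin, then
`dim k[x]/I ≤ t`. -/
theorem dim_le_of_sections {I : Ideal (MvPolynomial (Fin (m + 1)) k)}
    (hI : I.IsHomogeneous (CohB1.polyGrading m k)) (t : ℕ) (ℓ : Fin t → Form m k 1)
    (h : ∀ x : Fin (m + 1) → k, x ≠ 0 → (∃ p ∈ I, eval x p ≠ 0) ∨ ∃ j, eval x (ℓ j).1 ≠ 0) :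
    ringKrullDim (MvPolynomial (Fin (m + 1)) k ⧸ I) ≤ t := by
  classical
  set S := MvPolynomial (Fin (m + 1)) k with hS
  -- it is enough to bound the dimension of `S/P` for the minimal primes
  have key : ∀ P ∈ I.minimalPrimes, ringKrullDim (S ⧸ P) ≤ t := by
    intro P hP
    have hPp : P.IsPrime := hP.1.1
    have hPh := isHomogeneous_of_mem_minimalPrimes hI hP
    have hP0 := le_origin hPh hPp.ne_top
    set M : Ideal S := vanishingIdeal k {(0 : Fin (m + 1) → k)} with hM
    have hMmax : M.IsMaximal := inferInstance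
    set M1 : Ideal (S ⧸ P) := M.map (Ideal.Quotient.mk P) with hM1
    have hker : RingHom.ker (Ideal.Quotient.mk P) ≤ M := by rw [Ideal.mk_ker]; exact hP0
    have hM1max : M1.IsMaximal := by
      refine (Ideal.map_eq_top_or_isMaximal_of_surjective (Ideal.Quotient.mk P)
        Ideal.Quotient.mk_surjective hMmax).resolve_left fun h => ?_
      have h' := congrArg (Ideal.comap (Ideal.Quotient.mk P)) h
      rw [Ideal.comap_map_mk hP0, Ideal.comap_top] at h'
      exact hMmax.ne_top h'
    rw [← Groth.Agent.CalgC.DimFT.height_eq_ringKrullDim_of_isMaximal k (S ⧸ P) M1]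
    -- `M1` is minimal over the linear forms
    have hmin : M ∈ (P ⊔ Ideal.span (Set.range fun j => (ℓ j).1)).minimalPrimes := by
      have hz : zeroLocus k (P ⊔ Ideal.span (Set.range fun j => (ℓ j).1)) = {0} := by
        ext x
        rw [Set.mem_singleton_iff]
        constructor
        · intro hx
          by_contra hx0
          rcases h x hx0 with ⟨p, hp, hne⟩ | ⟨j, hne⟩
          · have h6 := hx p (Ideal.mem_sup_left (hP.1.2 hp))
            rw [aeval_eq_eval] at h6
            exact hne h6
          · have h6 := hx (ℓ j).1 (Ideal.mem_sup_right (Ideal.subset_span ⟨j, rfl⟩))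
            rw [aeval_eq_eval] at h6
            exact hne h6
        · rintro rfl
          intro p hp
          have : P ⊔ Ideal.span (Set.range fun j => (ℓ j).1) ≤ M := by
            refine sup_le hP0 ?_
            rw [Ideal.span_le]
            rintro _ ⟨j, rfl⟩ x hx
            rw [Set.mem_singleton_iff.mp hx, aeval_eq_eval]
            rw [eval_zero, constantCoeff_eq]
            exact ((mem_homogeneousSubmodule _ _).1 (ℓ j).2).coeff_eq_zero (by simp)
          exact this hp _ rfl
      rw [← Ideal.radical_minimalPrimes, ← vanishingIdeal_zeroLocus_eq_radical (K := k), hz, ← hM,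
        Ideal.minimalPrimes_eq_subsingleton_self]
      rfl
    have h3 : M1 ∈ (Ideal.span (Ideal.Quotient.mk P '' (Set.range fun j => (ℓ j).1))).minimalPrimes := by
      rw [← Ideal.map_span, Ideal.minimalPrimes_map_of_surjective Ideal.Quotient.mk_surjective,
        Ideal.mk_ker]
      exact ⟨M, by rwa [sup_comm], rfl⟩
    have hfin : (Set.range fun j => (ℓ j).1).Finite := Set.finite_range _
    have h4 := Ideal.height_le_card_of_mem_minimalPrimes_span (hfin.image _) h3
    have h5 : (Ideal.Quotient.mk P '' (Set.range fun j => (ℓ j).1)).ncard ≤ t := by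
      refine (Set.ncard_image_le hfin).trans ?_
      rw [← Nat.card_coe_set_eq]
      exact (Finite.card_range_le _).trans (by simp)
    exact_mod_cast h4.trans (by exact_mod_cast h5)
  exact (ringKrullDim_quotient_le_iff I _).mpr key

omit [IsAlgClosed k] in
theorem eval_smul_eq_zero {I : Ideal (MvPolynomial (Fin (m + 1)) k)}
    (hI : I.IsHomogeneous (CohB1.polyGrading m k)) (x : Fin (m + 1) → k)
    (hx : ∀ p ∈ I, eval x p = 0) (c : k) (p : MvPolynomial (Fin (m + 1)) k) (hp : p ∈ I) :
    eval (c • x) p = 0 := by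
  rw [← sum_homogeneousComponent p, map_sum]
  refine Finset.sum_eq_zero fun n _ => ?_
  rw [Groth.Agent.Lefpen.H703.Elim.eval_smul_of_isHomogeneous (homogeneousComponent_isHomogeneous n p),
    hx _ (homogeneousComponent_mem hI hp n), mul_zero]

/-- The ideal of the line through a point. -/
noncomputable def lineIdeal (x : Fin (m + 1) → k) : Ideal (MvPolynomial (Fin (m + 1)) k) :=
  vanishingIdeal k {y : Fin (m + 1) → k | ∃ c : k, y = c • x}

theorem lineIdeal_isPrime (x : Fin (m + 1) → k) : (lineIdeal x).IsPrime := by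
  have : Infinite k := IsAlgClosed.instInfinite
  let φ : MvPolynomial (Fin (m + 1)) k →ₐ[k] Polynomial k :=
    aeval fun i => Polynomial.C (x i) * Polynomial.X
  have hφ : ∀ p c, (φ p).eval c = eval (c • x) p := by
    intro p c
    induction p using MvPolynomial.induction_on with
    | C a => simp [φ]
    | add p q hp hq => simp only [map_add, Polynomial.eval_add, hp, hq]
    | mul_X p j hp => simp only [map_mul, Polynomial.eval_mul, hp]; simp [φ, mul_comm c]
  have h : lineIdeal x = RingHom.ker φ := by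
    ext p
    rw [lineIdeal, mem_vanishingIdeal_iff, RingHom.mem_ker]
    constructor
    · intro h
      refine Polynomial.funext fun c => ?_
      rw [hφ, Polynomial.eval_zero]
      have := h _ ⟨c, rfl⟩
      rwa [aeval_eq_eval] at this
    · rintro h _ ⟨c, rfl⟩
      rw [aeval_eq_eval]
      change eval (c • x) p = 0
      rw [← hφ, h, Polynomial.eval_zero]
  rw [h]
  exact RingHom.ker_isPrime φ.toRingHom

omit [IsAlgClosed k] in
theorem lineIdeal_lt (x : Fin (m + 1) → k) (hx : x ≠ 0) :
    lineIdeal x < vanishingIdeal k {(0 : Fin (m + 1) → k)} := by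
  refine lt_of_le_of_ne (vanishingIdeal_anti_mono ?_) fun h => ?_
  · rintro _ rfl
    exact ⟨0, by simp⟩
  · obtain ⟨i, hi⟩ := Function.ne_iff.mp hx
    have h1 : (X i : MvPolynomial (Fin (m + 1)) k) ∈ lineIdeal x := by
      rw [h]
      intro y hy
      rw [Set.mem_singleton_iff.mp hy]
      simp
    have := h1 x ⟨1, by simp⟩
    apply hi
    simpa using this

omit [IsAlgClosed k] in
theorem lt_of_lt {P Q : Ideal (MvPolynomial (Fin (m + 1)) k)} [P.IsPrime] [Q.IsPrime] (h : P < Q) (t : ℕ)
    (hP : ringKrullDim (MvPolynomial (Fin (m + 1)) k ⧸ P) ≤ (t + 1 : ℕ)) :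
    ringKrullDim (MvPolynomial (Fin (m + 1)) k ⧸ Q) ≤ t := by
  obtain ⟨d, a, hd, -, ha, had⟩ := DimMv.exists_nat_dim P
  obtain ⟨d', a', hd', -, ha', had'⟩ := DimMv.exists_nat_dim Q
  have h1 := Ideal.height_strict_mono_of_isPrime_of_isPrime h
  rw [ha, ha'] at h1
  have h2 : a < a' := by exact_mod_cast h1
  rw [hd] at hP
  have h3 : d ≤ t + 1 := by exact_mod_cast hP
  rw [hd']
  have h4 : d' ≤ t := by omega
  exact_mod_cast h4

/-- If `dim k[x]/I ≤ t` then there are `t` linear forms whose only common zero with `I` is the origin. -/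
theorem exists_sections (t : ℕ) {I : Ideal (MvPolynomial (Fin (m + 1)) k)}
    (hI : I.IsHomogeneous (CohB1.polyGrading m k))
    (h : ringKrullDim (MvPolynomial (Fin (m + 1)) k ⧸ I) ≤ t) :
    ∃ ℓ : Fin t → Form m k 1,
      ∀ x : Fin (m + 1) → k, x ≠ 0 → (∃ p ∈ I, eval x p ≠ 0) ∨ ∃ j, eval x (ℓ j).1 ≠ 0 := by
  have : Infinite k := IsAlgClosed.instInfinite
  induction t generalizing I with
  | zero =>
    refine ⟨Fin.elim0, fun x hx => Or.inl ?_⟩
    by_contra hcon
    push Not at hcon
    have hle : I ≤ lineIdeal x := by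
      rintro p hp _ ⟨c, rfl⟩
      rw [aeval_eq_eval]
      exact eval_smul_eq_zero hI x hcon c p hp
    have hp := lineIdeal_isPrime x
    have hlt := lineIdeal_lt x hx
    obtain ⟨d, a, hd, -, ha, had⟩ := DimMv.exists_nat_dim (lineIdeal x)
    obtain ⟨d', a', hd', -, ha', had'⟩ := DimMv.exists_nat_dim (vanishingIdeal k {(0 : Fin (m + 1) → k)})
    have h1 := Ideal.height_strict_mono_of_isPrime_of_isPrime hlt
    rw [ha, ha'] at h1
    have h2 : a < a' := by exact_mod_cast h1
    have h3 : ringKrullDim (MvPolynomial (Fin (m + 1)) k ⧸ lineIdeal x) ≤ ((0 : ℕ) : WithBot ℕ∞) :=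
      le_trans (ringKrullDim_le_of_surjective (Ideal.Quotient.factor hle) (Ideal.Quotient.factor_surjective hle)) h
    rw [hd] at h3
    have h4 : d ≤ 0 := by exact_mod_cast h3
    omega
  | succ t ih =>
    classical
    set M : Ideal (MvPolynomial (Fin (m + 1)) k) := vanishingIdeal k {(0 : Fin (m + 1) → k)} with hM
    have hMmax : M.IsMaximal := inferInstance
    have hfin : {P | P ∈ I.minimalPrimes ∧ P ≠ M}.Finite :=
      (Ideal.finite_minimalPrimes_of_isNoetherianRing _ I).subset fun P hP => hP.1
    have : Finite {P | P ∈ I.minimalPrimes ∧ P ≠ M} := hfin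
    obtain ⟨ℓ₀, hℓ₀⟩ := Submodule.exists_forall_notMem_of_forall_ne_top
      (fun P : {P | P ∈ I.minimalPrimes ∧ P ≠ M} =>
        (Submodule.restrictScalars k P.1).comap (Submodule.subtype (CohB1.polyGrading m k 1))) (by
      rintro ⟨P, hP, hPM⟩ htop
      apply hPM
      have hPp : P.IsPrime := hP.1.1
      refine (hMmax.eq_of_le hPp.ne_top ?_).symm
      have h1 : ∀ i, (X i : MvPolynomial (Fin (m + 1)) k) ∈ P := by
        intro i
        have : (⟨X i, X_mem m k i⟩ : Form m k 1) ∈
            (Submodule.restrictScalars k P).comap (Submodule.subtype (CohB1.polyGrading m k 1)) := by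
          rw [htop]; trivial
        exact this
      have h2 : M ≤ idealOfVars (Fin (m + 1)) k := by
        intro p hp
        rw [← pow_one (idealOfVars (Fin (m + 1)) k), mem_pow_idealOfVars_iff']
        intro e he
        have he0 : e = 0 := by
          rw [← Finsupp.degree_eq_zero_iff]
          omega
        have h3 := hp 0 rfl
        rw [aeval_eq_eval] at h3
        change eval 0 p = 0 at h3
        rw [eval_zero, constantCoeff_eq] at h3
        rw [he0, h3]
      refine h2.trans ?_
      rw [idealOfVars, Ideal.span_le]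
      rintro _ ⟨i, rfl⟩
      exact h1 i)
    set J := I ⊔ Ideal.span {ℓ₀.1} with hJ
    have hJh : J.IsHomogeneous (CohB1.polyGrading m k) := by
      refine hI.sup (Ideal.homogeneous_span _ _ ?_)
      rintro _ rfl
      exact ⟨1, ℓ₀.2⟩
    have hJd : ringKrullDim (MvPolynomial (Fin (m + 1)) k ⧸ J) ≤ t := by
      rw [ringKrullDim_quotient_le_iff] at h ⊢
      intro Q hQ
      have hQp : Q.IsPrime := hQ.1.1
      have hIQ : I ≤ Q := le_sup_left.trans hQ.1.2
      obtain ⟨P, hP, hPQ⟩ := Ideal.exists_minimalPrimes_le hIQ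
      have hPp : P.IsPrime := hP.1.1
      by_cases hPM : P = M
      · have hQM : Q = M := (hMmax.eq_of_le hQp.ne_top (hPM ▸ hPQ)).symm
        rw [hQM]
        have : ringKrullDim (MvPolynomial (Fin (m + 1)) k ⧸ M) = 0 := by
          let _ : Field (MvPolynomial (Fin (m + 1)) k ⧸ M) := Ideal.Quotient.field M
          exact ringKrullDim_eq_zero_of_field _
        rw [this]
        exact_mod_cast Nat.zero_le t
      · refine lt_of_lt (lt_of_le_of_ne hPQ fun h => ?_) t (h P hP)
        apply hℓ₀ ⟨P, hP, hPM⟩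
        change ℓ₀.1 ∈ P
        rw [h]
        exact hQ.1.2 (Ideal.mem_sup_right (Ideal.mem_span_singleton_self _))
    obtain ⟨ℓ, hℓ⟩ := ih hJh hJd
    refine ⟨Fin.cons ℓ₀ ℓ, fun x hx => ?_⟩
    rcases hℓ x hx with ⟨p, hp, hne⟩ | ⟨j, hne⟩
    · by_cases h0 : eval x ℓ₀.1 = 0
      · left
        by_contra hcon
        push Not at hcon
        apply hne
        obtain ⟨a, ha, b, hb, rfl⟩ := Submodule.mem_sup.mp hp
        obtain ⟨c, rfl⟩ := Ideal.mem_span_singleton'.mp hb
        rw [map_add, map_mul, hcon a ha, h0, mul_zero, add_zero]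
      · exact Or.inr ⟨0, by simpa using h0⟩
    · exact Or.inr ⟨j.succ, by simpa using hne⟩

theorem dim_le_iff {I : Ideal (MvPolynomial (Fin (m + 1)) k)}
    (hI : I.IsHomogeneous (CohB1.polyGrading m k)) (t : ℕ) :
    ringKrullDim (MvPolynomial (Fin (m + 1)) k ⧸ I) ≤ t ↔
      ∃ ℓ : Fin t → Form m k 1,
        ∀ x : Fin (m + 1) → k, x ≠ 0 → (∃ p ∈ I, eval x p ≠ 0) ∨ ∃ j, eval x (ℓ j).1 ≠ 0 :=
  ⟨exists_sections t hI, fun ⟨ℓ, hℓ⟩ => dim_le_of_sections hI t ℓ hℓ⟩

end K714.HomDim
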