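import Mathlib.Tactic

/-!
# Two-colourings of the lines of a cubic surface

An abstract incidence structure `Tri` (the tritangent planes of a smooth cubic surface, as triples of lines)
satisfying the axioms of a generalized quadrangle of order `(2, 4)` and a bound on common transversals; a
2-colouring such that the colours of the two residual lines of a plane through a line `x` do not depend on the
plane is monochromatic on every plane.
-/

set_option autoImplicit false

universe u

namespace K714.GQ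

/-- The incidence geometry of the lines of a smooth cubic surface. -/
structure Geo (Λ : Type u) where
  /-- three different lines in one plane -/
  tri : Λ → Λ → Λ → Prop
  swap12 : ∀ {x y z}, tri x y z → tri y x z
  swap23 : ∀ {x y z}, tri x y z → tri x z y
  ne12 : ∀ {x y z}, tri x y z → x ≠ y
  third_unique : ∀ {x y z z'}, tri x y z → tri x y z' → z = z'
  /-- a line outside a plane meets one of its three lines -/
  exists_meet : ∀ {x y z w}, tri x y z → w ≠ x → w ≠ y → w ≠ z →
    (∃ u, tri w x u) ∨ (∃ u, tri w y u) ∨ (∃ u, tri w z u)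
  /-- and only one of them -/
  meet_unique : ∀ {x y z w}, tri x y z → w ≠ z → (∃ u, tri w x u) → (∃ u, tri w y u) → False
  /-- at least five planes through each line -/
  five : ∀ x, ∃ y z : Fin 5 → Λ, (∀ i, tri x (y i) (z i)) ∧ ∀ i j, i ≠ j → y i ≠ y j ∧ y i ≠ z j
  /-- three disjoint lines do not have five common transversals -/
  few : ∀ {x y z : Λ}, x ≠ y → y ≠ z → x ≠ z → (¬ ∃ u, tri x y u) → (¬ ∃ u, tri y z u) →
    (¬ ∃ u, tri x z u) → ∀ t : Fin 5 → Λ, Function.Injective t → (∀ i, ∃ u, tri x (t i) u) →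
      (∀ i, ∃ u, tri y (t i) u) → (∀ i, ∃ u, tri z (t i) u) → False

namespace Geo

variable {Λ : Type u} (G : Geo Λ)

/-- incidence of different lines -/
def Inc (x y : Λ) : Prop := ∃ z, G.tri x y z

variable {G}

theorem Inc.symm {x y : Λ} (h : G.Inc x y) : G.Inc y x := by
  obtain ⟨z, hz⟩ := h
  exact ⟨z, G.swap12 hz⟩

theorem Inc.ne {x y : Λ} (h : G.Inc x y) : x ≠ y := by
  obtain ⟨z, hz⟩ := h
  exact G.ne12 hz

theorem ne13 {x y z : Λ} (h : G.tri x y z) : x ≠ z := G.ne12 (G.swap23 h)

theorem ne23 {x y z : Λ} (h : G.tri x y z) : y ≠ z := ne13 (G.swap12 h)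

theorem inc12 {x y z : Λ} (h : G.tri x y z) : G.Inc x y := ⟨z, h⟩

theorem inc13 {x y z : Λ} (h : G.tri x y z) : G.Inc x z := ⟨y, G.swap23 h⟩

theorem inc23 {x y z : Λ} (h : G.tri x y z) : G.Inc y z := ⟨x, G.swap23 (G.swap12 h)⟩

theorem rot {x y z : Λ} (h : G.tri x y z) : G.tri y z x := G.swap23 (G.swap12 h)

theorem rot' {x y z : Λ} (h : G.tri x y z) : G.tri z x y := G.swap12 (G.swap23 h)

theorem exists_meet' {x y z w : Λ} (h : G.tri x y z) (h1 : w ≠ x) (h2 : w ≠ y) (h3 : w ≠ z) :
    G.Inc w x ∨ G.Inc w y ∨ G.Inc w z := G.exists_meet h h1 h2 h3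

/-- a line meeting the first line of a plane it is not contained in misses the second -/
theorem not_inc {x y z w : Λ} (h : G.tri x y z) (hz : w ≠ z) (hx : G.Inc w x) :
    ¬ G.Inc w y := fun hy => G.meet_unique h hz hx hy

/-- a line missing the first two lines of a plane (and different from them and the third) meets the third -/
theorem inc_third {x y z w : Λ} (h : G.tri x y z) (h1 : w ≠ x) (h2 : w ≠ y) (h3 : w ≠ z)
    (hx : ¬ G.Inc w x) (hy : ¬ G.Inc w y) : G.Inc w z := by
  rcases exists_meet' h h1 h2 h3 with h' | h' | h'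
  · exact absurd h' hx
  · exact absurd h' hy
  · exact h'

end Geo

open Geo

variable {Λ : Type u} {G : Geo Λ}

/-- Codes determine lines: two lines disjoint from `L` meeting the same five (pairwise disjoint) lines which meet `L`
coincide. -/
theorem eq_of_code {L r n : Λ} {t : Fin 5 → Λ} (ht : Function.Injective t)
    (hL : ∀ i, G.Inc L (t i)) (hr : ∀ i, G.Inc r (t i)) (hn : ∀ i, G.Inc n (t i))
    (hLr : ¬ G.Inc L r) (hLn : ¬ G.Inc L n) (hLr' : L ≠ r) (hLn' : L ≠ n) : r = n := by
  by_contra hne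
  by_cases hrn : G.Inc r n
  · obtain ⟨w, hw⟩ := hrn
    -- every `t i` is `w`
    have key : ∀ i, t i = w := by
      intro i
      by_contra hi
      exact G.meet_unique hw hi (hr i).symm (hn i).symm
    have : (0 : Fin 5) = 1 := ht ((key 0).trans (key 1).symm)
    exact absurd this (by decide)
  · exact G.few hLr' hne hLn' hLr hrn hLn t ht hL hr hn

/-- a line meeting the first line of a plane misses the other two -/
theorem miss {x y z w : Λ} (h : G.tri x y z) (hx : G.Inc w x) (hy : w ≠ y) (hz : w ≠ z) :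
    ¬ G.Inc w y ∧ ¬ G.Inc w z :=
  ⟨not_inc h hz hx, not_inc (G.swap23 h) hy hx⟩

/-- `n` in the plane of `a`, `b`; `p` meets `a`; then `n` meets `q` where `L, p, q` is a plane and `L` misses `n`. -/
theorem code_step {a b n L p q : Λ} (h : G.tri a b n) (hLn : ¬ G.Inc L n) (hLn' : L ≠ n)
    (hpq : G.tri L p q) (hp : G.Inc p a) (hpb : p ≠ b) (hpn : p ≠ n) (hqn : q ≠ n) :
    G.Inc n q := by
  have h1 := (miss h hp hpb hpn).2
  exact inc_third hpq hLn'.symm hpn.symm hqn.symm (fun h => hLn h.symm) (fun h => h1 h.symm)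

/-- The core of the argument: no colouring with a plane `L, t₁, t₁'` with `c t₁`, `c t₁'` and not `c L`. -/
theorem no_pattern (c : Λ → Prop)
    (hc1 : ∀ {x y z y' z'}, G.tri x y z → G.tri x y' z' → c y → c z → (c y' ∧ c z'))
    (hc2 : ∀ {x y z y' z'}, G.tri x y z → G.tri x y' z' → ¬ c y → ¬ c z → (¬ c y' ∧ ¬ c z'))
    {L a b : Λ} (h : G.tri L a b) (hL : ¬ c L) (ha : c a) (hb : c b) : False := by
  classical
  -- mixed planes propagate
  have mix1 : ∀ {x y z y' z'}, G.tri x y z → G.tri x y' z' → c y → ¬ c z → ¬ c y' → c z' := by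
    intro x y z y' z' h1 h2 h3 h4 h5
    by_contra h6
    exact (hc2 h2 h1 h5 h6).1 h3
  have mix2 : ∀ {x y z y' z'}, G.tri x y z → G.tri x y' z' → c y → ¬ c z → c y' → ¬ c z' := by
    intro x y z y' z' h1 h2 h3 h4 h5 h6
    exact h4 (hc1 h2 h1 h5 h6).2
  obtain ⟨y, z, hyz, hne⟩ := G.five L
  have hcy : ∀ i, c (y i) ∧ c (z i) := fun i => hc1 h (hyz i) ha hb
  -- another plane through `y 0`
  obtain ⟨M, hM1, hM2, hMc⟩ : ∃ M, G.Inc (y 0) M ∧ (M ≠ L ∧ M ≠ z 0) ∧ ¬ c M := by
    obtain ⟨u, v, huv, hne'⟩ := G.five (y 0)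
    -- one of the planes number 0 and 1 does not contain `L`
    obtain ⟨i, hi1, hi2⟩ : ∃ i, u i ≠ L ∧ v i ≠ L := by
      by_contra hcon
      push Not at hcon
      -- the plane containing L is unique
      have hz : ∀ i, (u i = L ∧ v i = z 0) ∨ (v i = L ∧ u i = z 0) := by
        intro i
        by_cases hu : u i = L
        · left
          refine ⟨hu, ?_⟩
          have h1 := huv i
          rw [hu] at h1
          exact G.third_unique h1 (G.swap12 (hyz 0))
        · right
          have hv := hcon i hu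
          refine ⟨hv, ?_⟩
          have h1 := G.swap23 (huv i)
          rw [hv] at h1
          exact G.third_unique h1 (G.swap12 (hyz 0))
      rcases hz 0 with h0 | h0 <;> rcases hz 1 with h1 | h1 <;> rcases hz 2 with h2 | h2
      · exact (hne' 0 1 (by decide)).1 (h0.1.trans h1.1.symm)
      · exact (hne' 0 1 (by decide)).1 (h0.1.trans h1.1.symm)
      · exact (hne' 0 2 (by decide)).1 (h0.1.trans h2.1.symm)
      · exact (hne' 1 2 (by decide)).1 (h1.2.trans h2.2.symm)
      · exact (hne' 1 2 (by decide)).1 (h1.1.trans h2.1.symm)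
      · exact (hne' 0 2 (by decide)).1 (h0.2.trans h2.2.symm)
      · exact (hne' 0 1 (by decide)).1 (h0.2.trans h1.2.symm)
      · exact (hne' 0 1 (by decide)).1 (h0.2.trans h1.2.symm)
    have h0 := G.swap23 (G.swap12 (hyz 0))
    -- `tri (y 0) (z 0) L`, mixed
    have hzi : u i ≠ z 0 ∧ v i ≠ z 0 := by
      constructor
      · intro hu
        have h1 := huv i
        rw [hu] at h1
        exact hi2 (G.third_unique h1 h0)
      · intro hv
        have h1 := G.swap23 (huv i)
        rw [hv] at h1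
        exact hi1 (G.third_unique h1 h0)
    by_cases hcu : c (u i)
    · exact ⟨v i, inc13 (huv i), ⟨hi2, hzi.2⟩, mix2 h0 (huv i) (hcy 0).2 hL hcu⟩
    · exact ⟨u i, inc12 (huv i), ⟨hi1, hzi.1⟩, hcu⟩
  -- `M` misses `L`
  have hML : ¬ G.Inc M L := by
    exact not_inc (G.swap12 (hyz 0)) hM2.2 hM1.symm
  -- choose `t`, `t'`
  have hex : ∀ i, ∃ t t', G.tri L t t' ∧ G.Inc M t ∧ ¬ G.Inc M t' ∧ (t = y i ∨ t = z i) ∧
      (t' = y i ∨ t' = z i) := by
    intro i
    have hMy : M ≠ y i := fun he => hML (he ▸ (inc12 (hyz i)).symm)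
    have hMz : M ≠ z i := fun he => hML (he ▸ (inc13 (hyz i)).symm)
    rcases exists_meet' (hyz i) hM2.1 hMy hMz with h1 | h1 | h1
    · exact absurd h1 hML
    · exact ⟨y i, z i, hyz i, h1, not_inc (G.swap23 (G.swap12 (hyz i))) hM2.1 h1, Or.inl rfl,
        Or.inr rfl⟩
    · exact ⟨z i, y i, G.swap23 (hyz i), h1,
        not_inc (G.swap23 (G.swap12 (G.swap23 (hyz i)))) hM2.1 h1, Or.inr rfl, Or.inl rfl⟩
  choose t t' htt hMt hMt' ht ht' using hex
  -- lines of different planes through `L` are different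
  have hdiff : ∀ i j, i ≠ j → ∀ {a b : Λ}, (a = y i ∨ a = z i) → (b = y j ∨ b = z j) → a ≠ b := by
    intro i j hij a b h1 h2 hab
    rcases h1 with h1 | h1 <;> rcases h2 with h2 | h2
    · exact (hne i j hij).1 (by rw [← h1, ← h2, hab])
    · exact (hne i j hij).2 (by rw [← h1, ← h2, hab])
    · exact (hne j i hij.symm).2 (by rw [← h1, ← h2, hab])
    · -- `z i = z j` gives `y i = y j`
      have h3 : z i = z j := by rw [← h1, ← h2, hab]
      have h4 := G.swap23 (hyz i)
      rw [h3] at h4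
      exact (hne i j hij).1 (G.third_unique h4 (G.swap23 (hyz j)))
  have hct : ∀ i, c (t i) := fun i => by
    rcases ht i with h1 | h1 <;> rw [h1]
    · exact (hcy i).1
    · exact (hcy i).2
  have hct' : ∀ i, c (t' i) := fun i => by
    rcases ht' i with h1 | h1 <;> rw [h1]
    · exact (hcy i).1
    · exact (hcy i).2
  -- lines of different planes through `L` do not meet
  have hdisj : ∀ i j, i ≠ j → ∀ {a b : Λ}, (a = t i ∨ a = t' i) → (b = t j ∨ b = t' j) →
      ¬ G.Inc a b := by
    intro i j hij a b h1 h2 h3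
    have hab' : ∀ {a'}, (a = t i ∧ a' = t' i ∨ a = t' i ∧ a' = t i) → b ≠ a' := by
      intro a' h5 hb
      refine hdiff j i hij.symm (a := b) (b := a') ?_ ?_ hb
      · rcases h2 with h2 | h2 <;> rw [h2]
        · exact ht j
        · exact ht' j
      · rcases h5 with ⟨-, h5⟩ | ⟨-, h5⟩ <;> rw [h5]
        · exact ht' i
        · exact ht i
    have hbL : G.Inc b L := by
      rcases h2 with h2 | h2 <;> rw [h2]
      · exact (inc12 (htt j)).symm
      · exact (inc13 (htt j)).symm
    rcases h1 with h1 | h1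
    · refine G.meet_unique (G.swap12 (htt i)) (hab' (Or.inl ⟨h1, rfl⟩)) ?_ hbL
      exact h1 ▸ h3.symm
    · refine G.meet_unique (G.swap12 (G.swap23 (htt i))) (hab' (Or.inr ⟨h1, rfl⟩)) ?_ hbL
      exact h1 ▸ h3.symm
  -- third lines `t'' i` of the planes `M, t i`
  choose s hs using fun i => hMt i
  -- `hs i : tri M (t i) (s i)`
  have hcs : ∀ i, c (s i) := fun i => by
    -- planes through `t i`: `t' i` (c), `L` (not c); `M` (not c), `s i`
    exact mix1 (G.swap23 (G.swap12 (htt i))) (G.swap12 (hs i)) (hct' i) hL hMc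
  have htL : ∀ i, G.Inc L (t i) := fun i => inc12 (htt i)
  have ht'L : ∀ i, G.Inc L (t' i) := fun i => inc13 (htt i)
  have hLs : ∀ i, L ≠ s i := by
    intro i he
    exact hML (he ▸ inc13 (hs i))
  have hLsn : ∀ i, ¬ G.Inc L (s i) := fun i =>
    (miss (G.swap12 (hs i)) (htL i) hM2.1.symm (hLs i)).2
  have hst : ∀ i j, t j ≠ s i := by
    intro i j he
    exact hLsn i (he ▸ htL j)
  have hst2 : ∀ i j, t' j ≠ s i := by
    intro i j he
    exact hLsn i (he ▸ ht'L j)
  have hti : ∀ i j, i ≠ j → t i ≠ t j := fun i j hij => hdiff i j hij (ht i) (ht j)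
  have hti' : ∀ i j, i ≠ j → t' i ≠ t' j := fun i j hij => hdiff i j hij (ht' i) (ht' j)
  have htt' : ∀ i j, t i ≠ t' j := by
    intro i j
    by_cases hij : i = j
    · subst hij; exact ne23 (htt i)
    · exact hdiff i j hij (ht i) (ht' j)
  -- `s i` meets `t' j` for `j ≠ i`
  have hst' : ∀ i j, i ≠ j → G.Inc (s i) (t' j) := by
    intro i j hij
    exact code_step (hs i) (hLsn i) (hLs i) (htt j) (hMt j).symm (hti j i hij.symm) (hst i j)
      (hst2 i j)
  -- the lines `n i j`
  have hn : ∀ i j, i ≠ j → ∃ n, G.tri (t' i) (s j) n ∧ ¬ c n ∧ L ≠ n ∧ ¬ G.Inc L n ∧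
      G.Inc n (t' i) ∧ G.Inc n (t' j) ∧ ∀ m, m ≠ i → m ≠ j → G.Inc n (t m) := by
    intro i j hij
    obtain ⟨n, hn⟩ := (hst' j i hij.symm).symm
    have h1 : ¬ c n := mix2 (G.swap23 (G.swap12 (G.swap23 (htt i)))) hn (hct i) hL (hcs j)
    have h2 : L ≠ n := by
      rintro rfl
      exact hLsn j (inc23 hn).symm
    have h3 : ¬ G.Inc L n := (miss hn (ht'L i) (hLs j) h2).2
    have h4 : ∀ m, m ≠ i → t m ≠ n ∧ t' m ≠ n := by
      intro m hm
      constructor
      · rintro he
        exact hdisj m i hm (Or.inl rfl) (Or.inr rfl) (he ▸ (inc13 hn).symm)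
      · rintro he
        exact hdisj m i hm (Or.inr rfl) (Or.inr rfl) (he ▸ (inc13 hn).symm)
    refine ⟨n, hn, h1, h2, h3, (inc13 hn).symm, ?_, ?_⟩
    · exact code_step (G.swap12 hn) h3 h2 (htt j) (inc23 (hs j)) (htt' j i) (h4 j hij.symm).1
        (h4 j hij.symm).2
    · intro m hmi hmj
      exact code_step (G.swap12 hn) h3 h2 (G.swap23 (htt m)) (hst' j m hmj.symm).symm
        (hti' m i hmi) (h4 m hmi).2 (h4 m hmi).1
  obtain ⟨n, hn1, hn2, hn3, hn4, hn5, hn6, hn7⟩ := hn 0 1 (by decide)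
  obtain ⟨n', hn1', hn2', hn3', hn4', hn5', hn6', hn7'⟩ := hn 2 3 (by decide)
  obtain ⟨r, hr⟩ := hn7 4 (by decide) (by decide)
  have hcr : c r := by
    by_contra h1
    exact (hc2 (G.swap12 hr) (G.swap12 (htt 4)) hn2 h1).2 (hct' 4)
  have hLr : L ≠ r := by
    rintro rfl
    exact hn4 (inc13 hr).symm
  have hLr' : ¬ G.Inc L r := (miss (G.swap12 hr) (htL 4) hn3 hLr).2
  have h5 : ∀ m, m ≠ 4 → t m ≠ r ∧ t' m ≠ r := by
    intro m hm
    constructor
    · rintro he
      exact hdisj m 4 hm (Or.inl rfl) (Or.inl rfl) (he ▸ (inc23 hr).symm)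
    · rintro he
      exact hdisj m 4 hm (Or.inr rfl) (Or.inl rfl) (he ▸ (inc23 hr).symm)
  -- the code of `r`
  have hr0 : G.Inc r (t 0) :=
    code_step hr hLr' hLr (G.swap23 (htt 0)) hn5.symm (htt' 4 0).symm (h5 0 (by decide)).2
      (h5 0 (by decide)).1
  have hr1 : G.Inc r (t 1) :=
    code_step hr hLr' hLr (G.swap23 (htt 1)) hn6.symm (htt' 4 1).symm (h5 1 (by decide)).2
      (h5 1 (by decide)).1
  have hr2 : G.Inc r (t' 2) :=
    code_step hr hLr' hLr (htt 2) (hn7 2 (by decide) (by decide)).symm (hti 2 4 (by decide))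
      (h5 2 (by decide)).1 (h5 2 (by decide)).2
  have hr3 : G.Inc r (t' 3) :=
    code_step hr hLr' hLr (htt 3) (hn7 3 (by decide) (by decide)).symm (hti 3 4 (by decide))
      (h5 3 (by decide)).1 (h5 3 (by decide)).2
  have hr4 : G.Inc r (t 4) := (inc23 hr).symm
  let T : Fin 5 → Λ := ![t 0, t 1, t' 2, t' 3, t 4]
  have hT : Function.Injective T := by
    intro i j hij
    by_contra hne2
    have hT' : ∀ i, T i = t i ∨ T i = t' i := by
      intro i
      fin_cases i
      · exact Or.inl rfl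
      · exact Or.inl rfl
      · exact Or.inr rfl
      · exact Or.inr rfl
      · exact Or.inl rfl
    rcases hT' i with h1 | h1 <;> rcases hT' j with h2 | h2 <;> rw [h1, h2] at hij
    · exact hti i j hne2 hij
    · exact htt' i j hij
    · exact htt' j i hij.symm
    · exact hti' i j hne2 hij
  have hLT : ∀ i, G.Inc L (T i) := by
    intro i
    fin_cases i
    · exact htL 0
    · exact htL 1
    · exact ht'L 2
    · exact ht'L 3
    · exact htL 4
  have hrT : ∀ i, G.Inc r (T i) := by
    intro i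
    fin_cases i
    · exact hr0
    · exact hr1
    · exact hr2
    · exact hr3
    · exact hr4
  have hnT : ∀ i, G.Inc n' (T i) := by
    intro i
    fin_cases i
    · exact hn7' 0 (by decide) (by decide)
    · exact hn7' 1 (by decide) (by decide)
    · exact hn5'
    · exact hn6'
    · exact hn7' 4 (by decide) (by decide)
  have := eq_of_code hT hLT hrT hnT hLr' hn4' hLr hn3'
  exact hn2' (this ▸ hcr)

/-- The two colours on every plane agree. -/
theorem mono_plane (c : Λ → Prop)
    (hc1 : ∀ {x y z y' z'}, G.tri x y z → G.tri x y' z' → c y → c z → (c y' ∧ c z'))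
    (hc2 : ∀ {x y z y' z'}, G.tri x y z → G.tri x y' z' → ¬ c y → ¬ c z → (¬ c y' ∧ ¬ c z'))
    {x y z : Λ} (h : G.tri x y z) : c x ↔ c y := by
  have h1 := @no_pattern Λ G c hc1 hc2
  have h2 := @no_pattern Λ G (fun x => ¬ c x) hc2 (fun {x y z y' z'} a b e f => by
    simp only [not_not] at e f ⊢
    exact hc1 a b e f)
  simp only [not_not] at h2
  by_cases hx : c x <;> by_cases hy : c y <;> by_cases hz : c z
  · simp [hx, hy]
  · simp [hx, hy]
  · exact (h1 (G.swap12 h) hy hx hz).elim
  · exact (h2 h hx hy hz).elim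
  · exact (h1 h hx hy hz).elim
  · exact (h2 (G.swap12 h) hy hx hz).elim
  · simp [hx, hy]
  · simp [hx, hy]

/-- All lines have the same colour. -/
theorem mono (c : Λ → Prop)
    (hc1 : ∀ {x y z y' z'}, G.tri x y z → G.tri x y' z' → c y → c z → (c y' ∧ c z'))
    (hc2 : ∀ {x y z y' z'}, G.tri x y z → G.tri x y' z' → ¬ c y → ¬ c z → (¬ c y' ∧ ¬ c z'))
    (x y : Λ) : c x ↔ c y := by
  have key : ∀ {x y : Λ}, G.Inc x y → (c x ↔ c y) := by
    rintro x y ⟨z, hz⟩
    exact mono_plane c hc1 hc2 hz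
  obtain ⟨u, v, huv, -⟩ := G.five x
  by_cases h1 : y = x
  · rw [h1]
  by_cases h2 : y = u 0
  · rw [h2]; exact key (inc12 (huv 0))
  by_cases h3 : y = v 0
  · rw [h3]; exact key (inc13 (huv 0))
  rcases exists_meet' (huv 0) h1 h2 h3 with h | h | h
  · exact (key h).symm
  · exact (key (inc12 (huv 0))).trans (key h).symm
  · exact (key (inc13 (huv 0))).trans (key h).symm

end K714.GQ
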