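import Groth.Agent.Cubic.K656.Trilin
import Groth.Agent.Fano.K714.GQ
import Mathlib.LinearAlgebra.FiniteDimensional.Lemmas
import Mathlib.LinearAlgebra.Dimension.OrzechProperty
import Mathlib.GroupTheory.CosetCover
import Mathlib.FieldTheory.IsAlgClosed.Basic

/-!
# Lines on a smooth cubic surface: the incidence geometry
-/

set_option autoImplicit false

universe u v

namespace K714.Surf

open K656.Trilin Module

variable {k : Type u} [Field k] {V : Type v} [AddCommGroup V] [Module k V]

/-- `U` is a line on the cubic `T u u u = 0`. -/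
def IsLine (T : V →ₗ[k] V →ₗ[k] V →ₗ[k] k) (U : Submodule k V) : Prop :=
  finrank k ↥U = 2 ∧ ∀ u ∈ U, T u u u = 0

/-- Smoothness of the section by `W`. -/
def SmoothOn (T : V →ₗ[k] V →ₗ[k] V →ₗ[k] k) (W : Submodule k V) : Prop :=
  ∀ v ∈ W, v ≠ 0 → T v v v = 0 → ∃ w ∈ W, T v v w ≠ 0

/-- A binary quadratic form over an algebraically closed field has a nontrivial zero. -/
theorem exists_quad_zero [IsAlgClosed k] (a b c : k) :
    ∃ s t : k, (s ≠ 0 ∨ t ≠ 0) ∧ a * s ^ 2 + b * s * t + c * t ^ 2 = 0 := by
  by_cases ha : a = 0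
  · exact ⟨1, 0, Or.inl one_ne_zero, by rw [ha]; ring⟩
  · obtain ⟨s, hs⟩ := IsAlgClosed.exists_root
      (Polynomial.C a * Polynomial.X ^ 2 + Polynomial.C b * Polynomial.X + Polynomial.C c)
      (by rw [Polynomial.degree_quadratic ha]; norm_num)
    refine ⟨s, 1, Or.inr one_ne_zero, ?_⟩
    have := hs
    simp only [Polynomial.IsRoot, Polynomial.eval_add, Polynomial.eval_mul, Polynomial.eval_C,
      Polynomial.eval_pow, Polynomial.eval_X] at this
    linear_combination this

/-- Two different lines which meet: a basis `e, a, b` of their span adapted to them. -/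
theorem exists_basis_of_meet [FiniteDimensional k V] {x y : Submodule k V} (hx : finrank k ↥x = 2)
    (hy : finrank k ↥y = 2) (hxy : x ≠ y) (hm : x ⊓ y ≠ ⊥) :
    ∃ e a b : V, LinearIndependent k ![e, a, b] ∧ x = Submodule.span k {e, a} ∧
      y = Submodule.span k {e, b} ∧ x ⊓ y = Submodule.span k {e} ∧ finrank k ↥(x ⊔ y) = 3 := by
  obtain ⟨e, he, he0⟩ := Submodule.exists_mem_ne_zero_of_ne_bot hm
  have hlt : x ⊓ y < x := by
    refine lt_of_le_of_ne inf_le_left fun h => hxy ?_
    exact Submodule.eq_of_le_of_finrank_eq (inf_eq_left.mp h) (by rw [hx, hy])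
  have h1 := Submodule.finrank_lt_finrank_of_lt hlt
  have h2 : finrank k ↥(x ⊓ y) ≠ 0 := fun h => hm (Submodule.finrank_eq_zero.mp h)
  have h3 : finrank k ↥(x ⊓ y) = 1 := by omega
  have hspan : x ⊓ y = Submodule.span k {e} := by
    symm
    refine Submodule.eq_of_le_of_finrank_eq ?_ (by rw [h3, finrank_span_singleton he0])
    rw [Submodule.span_singleton_le_iff_mem]; exact he
  have h4 := Submodule.finrank_sup_add_finrank_inf_eq x y
  have h5 : finrank k ↥(x ⊔ y) = 3 := by omega
  have hex : ∀ z : Submodule k V, finrank k ↥z = 2 → e ∈ z → ∃ a ∈ z, a ∉ Submodule.span k {e} := by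
    intro z hz hez
    by_contra hcon
    push Not at hcon
    have hle : z ≤ Submodule.span k {e} := fun u hu => hcon u hu
    have := Submodule.finrank_mono hle
    rw [hz, finrank_span_singleton he0] at this
    omega
  have hsp : ∀ z : Submodule k V, finrank k ↥z = 2 → e ∈ z → ∀ a ∈ z, a ∉ Submodule.span k {e} →
      z = Submodule.span k {e, a} := by
    intro z hz hez a haz ha
    have hlin : LinearIndependent k ![e, a] := by
      rw [LinearIndependent.pair_iff' he0]
      intro c hc
      exact ha (hc ▸ Submodule.smul_mem _ _ (Submodule.mem_span_singleton_self e))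
    have := finrank_span_eq_card hlin
    rw [Matrix.range_cons, Matrix.range_cons, Matrix.range_empty, Set.union_empty,
      Set.singleton_union, Fintype.card_fin] at this
    symm
    refine Submodule.eq_of_le_of_finrank_eq ?_ (by rw [hz]; exact this)
    rw [Submodule.span_le]
    rintro u (rfl | hu)
    · exact hez
    · rw [Set.mem_singleton_iff.mp hu]; exact haz
  obtain ⟨a, hax, ha⟩ := hex x hx he.1
  obtain ⟨b, hby, hb⟩ := hex y hy he.2
  have hxs := hsp x hx he.1 a hax ha
  have hys := hsp y hy he.2 b hby hb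
  refine ⟨e, a, b, ?_, hxs, hys, hspan, h5⟩
  -- linear independence from the dimension of the span
  rw [linearIndependent_iff_card_eq_finrank_span, Fintype.card_fin]
  have : Submodule.span k (Set.range ![e, a, b]) = x ⊔ y := by
    rw [hxs, hys, ← Submodule.span_union]
    congr 1
    ext u
    simp only [Matrix.range_cons, Matrix.range_empty, Set.union_empty, Set.singleton_union,
      Set.mem_insert_iff, Set.mem_singleton_iff, Set.mem_union]
    tauto
  rw [Set.finrank, this, h5]

section Plane

variable {T : V →ₗ[k] V →ₗ[k] V →ₗ[k] k}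

/-- The restriction of the cubic to the plane of two incident lines. -/
theorem plane_eq (hT : IsSym3 T) [CharZero k] {e a b : V}
    (hx : ∀ u ∈ Submodule.span k {e, a}, T u u u = 0)
    (hy : ∀ u ∈ Submodule.span k {e, b}, T u u u = 0) (α β γ : k) :
    T (α • e + β • a + γ • b) (α • e + β • a + γ • b) (α • e + β • a + γ • b) =
      3 * (β * γ * (2 * α * T e a b + β * T a a b + γ * T a b b)) := by
  have he : e ∈ Submodule.span k {e, a} := Submodule.subset_span (by simp)
  have ha : a ∈ Submodule.span k {e, a} := Submodule.subset_span (by simp)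
  have he' : e ∈ Submodule.span k {e, b} := Submodule.subset_span (by simp)
  have hb : b ∈ Submodule.span k {e, b} := Submodule.subset_span (by simp)
  have z1 : T e e e = 0 := hx e he
  have z2 : T e e a = 0 := hT.eq_zero_of_diag _ hx he he ha
  have z3 : T e a a = 0 := hT.eq_zero_of_diag _ hx he ha ha
  have z4 : T a a a = 0 := hx a ha
  have z5 : T e e b = 0 := hT.eq_zero_of_diag _ hy he' he' hb
  have z6 : T e b b = 0 := hT.eq_zero_of_diag _ hy he' hb hb
  have z7 : T b b b = 0 := hy b hb
  have s1 : T a e e = 0 := by rw [hT.rot a e e]; exact z2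
  have s1' : T e a e = 0 := by rw [hT.s23]; exact z2
  have s2 : T a e a = 0 := by rw [hT.s12]; exact z3
  have s3 : T a a e = 0 := by rw [hT.rot' a a e]; exact z3
  have s4 : T b e e = 0 := by rw [hT.rot b e e]; exact z5
  have s4' : T e b e = 0 := by rw [hT.s23]; exact z5
  have s5 : T b e b = 0 := by rw [hT.s12]; exact z6
  have s6 : T b b e = 0 := by rw [hT.rot' b b e]; exact z6
  have p1 : T e b a = T e a b := hT.s23 _ _ _
  have p2 : T a e b = T e a b := hT.s12 _ _ _
  have p3 : T a b e = T e a b := by rw [hT.rot' a b e]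
  have p4 : T b e a = T e a b := by rw [hT.rot b e a]
  have p5 : T b a e = T e a b := by rw [hT.s13 b a e]
  have q1 : T a b a = T a a b := hT.s23 _ _ _
  have q2 : T b a a = T a a b := hT.rot _ _ _
  have q3 : T b a b = T a b b := hT.s12 _ _ _
  have q4 : T b b a = T a b b := hT.rot' _ _ _
  simp only [map_add, map_smul, LinearMap.add_apply, LinearMap.smul_apply, smul_eq_mul, z1, z2, z3,
    z4, z5, z6, z7, s1, s1', s2, s3, s4, s4', s5, s6, p1, p2, p3, p4, p5, q1, q2, q3, q4]
  ring

end Plane

/-- A subspace contained in a finite union of subspaces is contained in one of them. -/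
theorem exists_le_of_cover [Infinite k] {ι : Type*} [Finite ι] (p : ι → Submodule k V)
    (w : Submodule k V) (h : ∀ v ∈ w, ∃ i, v ∈ p i) : ∃ i, w ≤ p i := by
  have h1 : ⋃ i, (((p i).comap w.subtype : Submodule k ↥w) : Set ↥w) = Set.univ := by
    rw [Set.eq_univ_iff_forall]
    intro v
    obtain ⟨i, hi⟩ := h v.1 v.2
    exact Set.mem_iUnion.2 ⟨i, hi⟩
  obtain ⟨i, hi⟩ := Subspace.exists_eq_top_of_iUnion_eq_univ h1
  refine ⟨i, fun v hv => ?_⟩
  have : (⟨v, hv⟩ : ↥w) ∈ (p i).comap w.subtype := by rw [hi]; trivial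
  exact this

section Lines

variable [FiniteDimensional k V] {T : V →ₗ[k] V →ₗ[k] V →ₗ[k] k}

omit [FiniteDimensional k V] in
/-- Membership in the span of three vectors. -/
theorem mem_sup_iff {e a b : V} {v : V} :
    v ∈ Submodule.span k {e, a} ⊔ Submodule.span k {e, b} ↔
      ∃ α β γ : k, v = α • e + β • a + γ • b := by
  rw [Submodule.mem_sup]
  constructor
  · rintro ⟨u, hu, w, hw, rfl⟩
    obtain ⟨α, β, rfl⟩ := Submodule.mem_span_pair.1 hu
    obtain ⟨α', γ, rfl⟩ := Submodule.mem_span_pair.1 hw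
    exact ⟨α + α', β, γ, by module⟩
  · rintro ⟨α, β, γ, rfl⟩
    refine ⟨α • e + β • a, Submodule.mem_span_pair.2 ⟨α, β, rfl⟩, γ • b,
      Submodule.mem_span_pair.2 ⟨0, γ, by simp⟩, by module⟩

/-- The three lines in the plane of two incident lines of a smooth cubic surface. -/
theorem exists_third [IsAlgClosed k] [CharZero k] (hT : IsSym3 T) {W : Submodule k V}
    (hW : finrank k ↥W = 4) (hsm : SmoothOn T W) {x y : Submodule k V} (hx : IsLine T x)
    (hy : IsLine T y) (hxW : x ≤ W) (hyW : y ≤ W) (hxy : x ≠ y) (hm : x ⊓ y ≠ ⊥) :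
    ∃ z : Submodule k V, IsLine T z ∧ z ≤ x ⊔ y ∧ z ≠ x ∧ z ≠ y ∧
      ∀ v ∈ x ⊔ y, T v v v = 0 → v ∈ x ∨ v ∈ y ∨ v ∈ z := by
  obtain ⟨e, a, b, hlin, hxs, hys, hes, h3⟩ := exists_basis_of_meet hx.1 hy.1 hxy hm
  have hx' : ∀ u ∈ Submodule.span k {e, a}, T u u u = 0 := fun u hu => hx.2 u (hxs ▸ hu)
  have hy' : ∀ u ∈ Submodule.span k {e, b}, T u u u = 0 := fun u hu => hy.2 u (hys ▸ hu)
  have hplane := plane_eq hT hx' hy'
  have heW : e ∈ W := hxW (hxs ▸ Submodule.subset_span (by simp))
  have haW : a ∈ W := hxW (hxs ▸ Submodule.subset_span (by simp))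
  have hbW : b ∈ W := hyW (hys ▸ Submodule.subset_span (by simp))
  have hinj : ∀ α β γ : k, α • e + β • a + γ • b = 0 → α = 0 ∧ β = 0 ∧ γ = 0 := by
    intro α β γ h
    have h1 := (Fintype.linearIndependent_iff.1 hlin) ![α, β, γ] (by
      simpa [Fin.sum_univ_three] using h)
    exact ⟨h1 0, h1 1, h1 2⟩
  -- a vector of `W` outside the plane
  obtain ⟨w, hwW, hw⟩ : ∃ w ∈ W, w ∉ x ⊔ y := by
    by_contra hcon
    push Not at hcon
    have := Submodule.finrank_mono (show W ≤ x ⊔ y from fun u hu => hcon u hu)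
    omega
  have hWle : W ≤ (x ⊔ y) ⊔ Submodule.span k {w} := by
    have hle : (x ⊔ y) ⊔ Submodule.span k {w} ≤ W := by
      refine sup_le (sup_le hxW hyW) ?_
      rw [Submodule.span_singleton_le_iff_mem]; exact hwW
    have hlt : x ⊔ y < (x ⊔ y) ⊔ Submodule.span k {w} := by
      refine lt_of_le_of_ne le_sup_left fun h => hw ?_
      rw [h]
      exact Submodule.mem_sup_right (Submodule.mem_span_singleton_self w)
    have := Submodule.finrank_lt_finrank_of_lt hlt
    exact (Submodule.eq_of_le_of_finrank_le hle (by omega)).symm.le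
  -- a singular point on a line along which the plane is tangent
  have key : ∀ a b : V, (∀ v ∈ x ⊔ y, ∃ α β γ : k, v = α • e + β • a + γ • b) → a ∈ W →
      (∀ α β : k, α • e + β • a = 0 → α = 0 ∧ β = 0) →
      (∀ u ∈ Submodule.span k {e, a}, T u u u = 0) → T e e b = 0 → T e a b = 0 → T a a b = 0 →
      False := by
    intro a b hP haW hinj' hx' h1 h2 h3
    obtain ⟨s, t, hst, hq⟩ := exists_quad_zero (T e e w) (2 * T e a w) (T a a w)
    have he : e ∈ Submodule.span k {e, a} := Submodule.subset_span (by simp)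
    have ha : a ∈ Submodule.span k {e, a} := Submodule.subset_span (by simp)
    have hu : s • e + t • a ≠ 0 := by
      intro h
      have := hinj' s t h
      rcases hst with h | h
      · exact h this.1
      · exact h this.2
    have hmem : s • e + t • a ∈ Submodule.span k {e, a} :=
      Submodule.mem_span_pair.2 ⟨s, t, rfl⟩
    obtain ⟨w', hw', hne⟩ := hsm (s • e + t • a) (W.add_mem (W.smul_mem _ heW) (W.smul_mem _ haW))
      hu (hx' _ hmem)
    apply hne
    obtain ⟨p, hp, q, hq', rfl⟩ := Submodule.mem_sup.1 (hWle hw')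
    obtain ⟨c, rfl⟩ := Submodule.mem_span_singleton.1 hq'
    obtain ⟨α, β, γ, rfl⟩ := hP p hp
    have z1 := hT.eq_zero_of_diag _ hx' he he he
    have z2 := hT.eq_zero_of_diag _ hx' he he ha
    have z3 := hT.eq_zero_of_diag _ hx' he ha he
    have z4 := hT.eq_zero_of_diag _ hx' he ha ha
    have z5 := hT.eq_zero_of_diag _ hx' ha ha he
    have z6 := hT.eq_zero_of_diag _ hx' ha ha ha
    rw [hT.sq_smul_add_smul]
    simp only [map_add, map_smul, smul_eq_mul, z1, z2, z3, z4, z5, z6, h1, h2, h3]
    linear_combination c * hq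
  set A := 2 * T e a b with hA
  set B := T a a b with hB
  set C := T a b b with hC
  have h2 : (2 : k) ≠ 0 := by norm_num
  have hAB : ¬ (A = 0 ∧ B = 0) := by
    rintro ⟨h1, h2'⟩
    refine key a b (fun v hv => mem_sup_iff.1 (hxs ▸ hys ▸ hv)) haW
      (fun α β h => by
        have := hinj α β 0 (by rw [zero_smul, add_zero]; exact h)
        exact ⟨this.1, this.2.1⟩) hx' ?_ ?_ h2'
    · exact hT.eq_zero_of_diag _ hy' (Submodule.subset_span (by simp))
        (Submodule.subset_span (by simp)) (Submodule.subset_span (by simp))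
    · exact (mul_eq_zero.1 h1).resolve_left h2
  have hAC : ¬ (A = 0 ∧ C = 0) := by
    rintro ⟨h1, h2'⟩
    refine key b a (fun v hv => ?_) hbW
      (fun α β h => by
        have := hinj α 0 β (by rw [zero_smul, add_zero]; exact h)
        exact ⟨this.1, this.2.2⟩) hy' ?_ ?_ ?_
    · obtain ⟨α, β, γ, rfl⟩ := mem_sup_iff.1 (hxs ▸ hys ▸ hv)
      exact ⟨α, γ, β, by module⟩
    · exact hT.eq_zero_of_diag _ hx' (Submodule.subset_span (by simp))
        (Submodule.subset_span (by simp)) (Submodule.subset_span (by simp))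
    · rw [hT.s23]
      exact (mul_eq_zero.1 h1).resolve_left h2
    · rw [hT.rot' b b a]; exact h2'
  -- the third line
  let L3 : (Fin 3 → k) →ₗ[k] V := Fintype.linearCombination k ![e, a, b]
  have hL3 : Function.Injective L3 := by
    exact linearIndependent_iff_injective_fintypeLinearCombination.1 hlin
  have hL3a : ∀ c, L3 c = c 0 • e + c 1 • a + c 2 • b := by
    intro c
    simp [L3, Fintype.linearCombination_apply, Fin.sum_univ_three]
  let φ : (Fin 3 → k) →ₗ[k] k :=
    A • LinearMap.proj 0 + B • LinearMap.proj 1 + C • LinearMap.proj 2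
  have hφa : ∀ c, φ c = A * c 0 + B * c 1 + C * c 2 := by
    intro c; simp [φ]
  have hφ0 : φ ≠ 0 := by
    intro h
    apply hAB
    constructor
    · have := LinearMap.congr_fun h ![1, 0, 0]
      rw [hφa] at this; simpa using this
    · have := LinearMap.congr_fun h ![0, 1, 0]
      rw [hφa] at this; simpa using this
  have hker : finrank k ↥(LinearMap.ker φ) = 2 := by
    have := LinearMap.finrank_range_add_finrank_ker φ
    have hr : finrank k ↥(LinearMap.range φ) = 1 := by
      rw [LinearMap.range_eq_top.mpr (LinearMap.surjective hφ0), finrank_top, finrank_self]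
    rw [finrank_fin_fun] at this
    omega
  let z : Submodule k V := (LinearMap.ker φ).map L3
  have hzmem : ∀ α β γ : k, α • e + β • a + γ • b ∈ z ↔ A * α + B * β + C * γ = 0 := by
    intro α β γ
    constructor
    · rintro ⟨c, hc, hce⟩
      have h1 : c = ![α, β, γ] := by
        apply hL3
        rw [hce, hL3a]
        simp
      rw [SetLike.mem_coe, LinearMap.mem_ker, hφa, h1] at hc
      simpa using hc
    · intro h
      refine ⟨![α, β, γ], ?_, ?_⟩
      · rw [SetLike.mem_coe, LinearMap.mem_ker, hφa]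
        simpa using h
      · rw [hL3a]; simp
  have hzle : z ≤ x ⊔ y := by
    rintro _ ⟨c, -, rfl⟩
    rw [hL3a, hxs, hys]
    exact mem_sup_iff.2 ⟨_, _, _, rfl⟩
  have hcov : ∀ v ∈ x ⊔ y, T v v v = 0 → v ∈ x ∨ v ∈ y ∨ v ∈ z := by
    intro v hv hv0
    obtain ⟨α, β, γ, rfl⟩ := mem_sup_iff.1 (hxs ▸ hys ▸ hv)
    rw [hplane] at hv0
    have h3' : (3 : k) ≠ 0 := by norm_num
    rcases mul_eq_zero.1 ((mul_eq_zero.1 hv0).resolve_left h3') with h | h
    · rcases mul_eq_zero.1 h with h | h
      · right; left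
        rw [h, hys]
        exact Submodule.mem_span_pair.2 ⟨α, γ, by module⟩
      · left
        rw [h, hxs]
        exact Submodule.mem_span_pair.2 ⟨α, β, by module⟩
    · right; right
      rw [hzmem]
      linear_combination h
  refine ⟨z, ⟨?_, ?_⟩, hzle, ?_, ?_, hcov⟩
  · rw [← hker]
    exact (Submodule.equivMapOfInjective L3 hL3 (LinearMap.ker φ)).finrank_eq.symm
  · intro u hu
    obtain ⟨α, β, γ, rfl⟩ := mem_sup_iff.1 (hxs ▸ hys ▸ hzle hu)
    rw [hplane]
    have := (hzmem α β γ).1 hu
    have h4 : 2 * α * T e a b + β * T a a b + γ * T a b b = 0 := by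
      rw [← this]; simp only [hA, hB, hC]; ring
    rw [h4]; ring
  · -- `z ≠ x`
    intro h
    apply hAB
    have h1 : (1 : k) • e + (0 : k) • a + (0 : k) • b ∈ z := by
      rw [h, hxs]; exact Submodule.mem_span_pair.2 ⟨1, 0, by module⟩
    have h2 : (0 : k) • e + (1 : k) • a + (0 : k) • b ∈ z := by
      rw [h, hxs]; exact Submodule.mem_span_pair.2 ⟨0, 1, by module⟩
    rw [hzmem] at h1 h2
    constructor
    · linear_combination h1
    · linear_combination h2
  · intro h
    apply hAC
    have h1 : (1 : k) • e + (0 : k) • a + (0 : k) • b ∈ z := by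
      rw [h, hys]; exact Submodule.mem_span_pair.2 ⟨1, 0, by module⟩
    have h2 : (0 : k) • e + (0 : k) • a + (1 : k) • b ∈ z := by
      rw [h, hys]; exact Submodule.mem_span_pair.2 ⟨0, 1, by module⟩
    rw [hzmem] at h1 h2
    constructor
    · linear_combination h1
    · linear_combination h2

end Lines

end K714.Surf
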