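import Groth.Agent.Curves.K318.HypSmooth
import Groth.Agent.Lefpen.H720.HomPt
import Groth.Agent.Lefpen.H121.ChartLift
import Groth.Agent.Cubic.K656.Bridge
import Groth.Agent.Cubic.K656.TPointMain
import Groth.Agent.Fano.K714.Surf
import Groth.Agent.Fano.K714.RatDef

/-!
# Smooth hypersurfaces: the Jacobian criterion at `k`-points

* `exists_pderiv`: if `V_+(G)`, `G ≠ 0`, is smooth over `k`, then some partial derivative of `G` is nonzero at each
  nonzero zero of `G` in `k^{N+1}`.
* `smoothOn_tri`: for a smooth cubic threefold `V_+(f)`, `SmoothOn (tri f.1) ⊤`.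
-/

set_option autoImplicit false
universe u

open CategoryTheory AlgebraicGeometry Limits

namespace Groth.Agent.Fano.K714.JacSm

open LefPen MvPolynomial Groth.Agent.Sga5

variable {k : Type u} [Field k] {N d : ℕ}

theorem exists_pderiv (G : Form N k d) (hG : G.1 ≠ 0)
    (h : Smooth ((hypIdeal G).subschemeι ≫ CohB1.ProjSpace.toSpec N k)) (v : Fin (N + 1) → k) (hv : v ≠ 0)
    (h0 : eval v G.1 = 0) : ∃ i, eval v (pderiv i G.1) ≠ 0 := by
  obtain ⟨j, hj⟩ : ∃ j, v j ≠ 0 := by
    by_contra hc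
    push Not at hc
    exact hv (funext hc)
  have h1 := K318.HypSmooth.chart_smooth G h j
  have h2 : ProjChart.dehom N k j G.1 ≠ 0 := by
    intro h3
    refine hG (Groth.Agent.Lefpen.H121.ChartLift.dehom_injOn j (D := d) G.2
      (MvPolynomial.isHomogeneous_zero _ _ _) ?_)
    rw [h3, map_zero]
  have h3 := K318.HypSmooth.one_mem_of_smooth_quotient _ h2 h1
  by_contra hc
  push Not at hc
  have hpd : ∀ i, eval (fun l => (v j)⁻¹ * v l) (pderiv i G.1) = 0 := by
    intro i
    have hh : (pderiv i G.1).IsHomogeneous (d - 1) := MvPolynomial.IsHomogeneous.pderiv G.2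
    have h4 := Groth.Agent.Lefpen.H720.HomPt.aeval_dehom_eq_zero_iff j v hj
      (⟨pderiv i G.1, (MvPolynomial.mem_homogeneousSubmodule _ _).mpr hh⟩ : Form N k (d - 1))
    rw [Groth.Agent.Lefpen.H720.HomPt.aeval_dehom j v hj] at h4
    exact h4.mpr (hc i)
  have hG0 : eval (fun l => (v j)⁻¹ * v l) G.1 = 0 := by
    have h4 := Groth.Agent.Lefpen.H720.HomPt.aeval_dehom_eq_zero_iff j v hj G
    rw [Groth.Agent.Lefpen.H720.HomPt.aeval_dehom j v hj] at h4
    exact h4.mpr h0
  have h5 : Ideal.span ({ProjChart.dehom N k j G.1} ∪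
      Set.range fun i => MvPolynomial.pderiv i (ProjChart.dehom N k j G.1)) ≤
      RingHom.ker (MvPolynomial.aeval (Groth.Agent.Lefpen.H720.HomPt.aff j v) : MvPolynomial (Fin N) k →ₐ[k] k) := by
    rw [Ideal.span_le]
    rintro q (rfl | ⟨l, rfl⟩)
    · exact (Groth.Agent.Lefpen.H720.HomPt.aeval_dehom_eq_zero_iff j v hj G).mpr h0
    · change MvPolynomial.aeval (Groth.Agent.Lefpen.H720.HomPt.aff j v) (pderiv l (ProjChart.dehom N k j G.1)) = 0
      rw [Groth.Agent.Lefpen.H705.HypSmooth.pderiv_dehom,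
        Groth.Agent.Lefpen.H720.HomPt.aeval_dehom j v hj]
      exact hpd _
  have h6 := h5 h3
  rw [RingHom.mem_ker, map_one] at h6
  exact one_ne_zero h6

/-- For a smooth cubic threefold the trilinear form is smooth. -/
theorem smooth_tri [CharZero k] (f : Form 4 k 3) (hf : f ≠ 0) (h : Smooth (Rat.ps f)) :
    K656.Eckardt.Smooth (K656.Trilin.tri f.1) :=
  K656.Bridge.smooth_tri f.2 fun v hv h0 =>
    exists_pderiv f (fun h1 => hf (Subtype.ext h1)) h v hv h0

theorem smoothOn_tri [CharZero k] (f : Form 4 k 3) (hf : f ≠ 0) (h : Smooth (Rat.ps f)) :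
    K714.Surf.SmoothOn (K656.Trilin.tri f.1) ⊤ := fun v _ hv hvv => by
  obtain ⟨w, hw⟩ := smooth_tri f hf h v hv hvv
  exact ⟨w, trivial, hw⟩

end Groth.Agent.Fano.K714.JacSm
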