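import Groth.Agent.Fano.K714.TypeConst

/-!
# Colours of the residual lines in the planes through a line (conclusion)
-/

set_option autoImplicit false

universe u

namespace K714.TypeConst

open K656.Trilin Module K714.Surf K714.SurfGeo K714.PlaneFac LefPen Groth.Agent.Lefpen.H703.ZOpen
  Groth.Agent.Lefpen.H703.Elim MvPolynomial

variable {k : Type u} [Field k]
variable {V : Type u} [AddCommGroup V] [Module k V]

/-- A polynomial function homogeneous of degree `d` comes from a homogeneous polynomial. -/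
theorem exists_homogeneous [Infinite k] {N d : ℕ} {F : (Fin N → k) → k} (hF : IsPolyFun k F)
    (hd : ∀ (t : k) (v : Fin N → k), F (t • v) = t ^ d * F v) :
    ∃ P : MvPolynomial (Fin N) k, P.IsHomogeneous d ∧ ∀ v, F v = eval v P := by
  obtain ⟨P, hP⟩ := K714.Codim.exists_mvPoly (Pi.basisFun k (Fin N)) hF
  have hP' : ∀ w, F w = eval w P := fun w => by rw [hP w]; rfl
  refine ⟨homogeneousComponent d P, homogeneousComponent_isHomogeneous d P, fun v => ?_⟩
  let M := max P.totalDegree d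
  have hsum : ∀ w : Fin N → k, eval w P = ∑ i ∈ Finset.range (M + 1), eval w (homogeneousComponent i P) := by
    intro w
    conv_lhs => rw [← sum_homogeneousComponent P, map_sum]
    refine Finset.sum_subset (Finset.range_mono (by simp [M])) fun i _ hi => ?_
    rw [Finset.mem_range, not_lt] at hi
    rw [homogeneousComponent_eq_zero _ _ (by omega), map_zero]
  let Q : Polynomial k := ∑ i ∈ Finset.range (M + 1),
    Polynomial.monomial i (eval v (homogeneousComponent i P)) - Polynomial.monomial d (F v)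
  have hQ : Q = 0 := by
    refine Polynomial.funext fun t => ?_
    simp only [Q, Polynomial.eval_sub, Polynomial.eval_finsetSum, Polynomial.eval_monomial,
      Polynomial.eval_zero]
    have h1 := hd t v
    rw [hP' (t • v), hsum] at h1
    rw [mul_comm (F v), ← h1, sub_eq_zero]
    refine Finset.sum_congr rfl fun i _ => ?_
    rw [eval_smul_of_isHomogeneous (homogeneousComponent_isHomogeneous i P), mul_comm]
  have h2 : Q.coeff d = 0 := by rw [hQ, Polynomial.coeff_zero]
  simp only [Q, Polynomial.coeff_sub, Polynomial.finsetSum_coeff, Polynomial.coeff_monomial, if_true]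
    at h2
  rw [Finset.sum_ite_eq' (Finset.range (M + 1)) d, if_pos (Finset.mem_range.2 (by simp [M])),
    sub_eq_zero] at h2
  exact h2.symm

/-- four times the discriminant -/
def d6 (G : Fin 6 → k) : k :=
  4 * G 0 * G 1 * G 2 + G 3 * G 4 * G 5 - G 0 * G 3 ^ 2 - G 1 * G 4 ^ 2 - G 2 * G 5 ^ 2

theorem d6_smul_M6 (c : k) (m n : Fin 3 → k) : d6 (c • M6 m n) = 0 := by
  simp only [d6, M6, Pi.smul_apply, smul_eq_mul, Matrix.cons_val]
  ring

theorem exists_M6 [IsAlgClosed k] [CharZero k] {G : Fin 6 → k} (h : d6 G = 0) :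
    ∃ m n : Fin 3 → k, G = M6 m n := by
  have h4 : (4 : k) ≠ 0 := by norm_num
  obtain ⟨m, n, h1, h2, h3, h5, h6, h7⟩ := quad_factor (α := G 0) (β := G 1) (γ := G 2) (δ := G 3 / 2)
    (ε := G 4 / 2) (ζ := G 5 / 2) (by
      apply mul_left_cancel₀ h4
      rw [mul_zero]
      rw [d6] at h
      linear_combination h)
  refine ⟨m, n, ?_⟩
  have h2' : (2 : k) ≠ 0 := by norm_num
  funext i
  fin_cases i
  · exact h1
  · exact h2
  · exact h3
  · simp only [M6, Fin.reduceFinMk, Matrix.cons_val]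
    rw [← h5]; field_simp
  · simp only [M6, Fin.reduceFinMk, Matrix.cons_val]
    rw [← h6]; field_simp
  · simp only [M6, Fin.reduceFinMk, Matrix.cons_val]
    rw [← h7]; field_simp

theorem exists_disc [Infinite k] [FiniteDimensional k V] (T : V →ₗ[k] V →ₗ[k] V →ₗ[k] k) (a b : V)
    (ι : (Fin 3 → k) →ₗ[k] V) :
    ∃ D : MvPolynomial (Fin 3) k, D.IsHomogeneous 5 ∧ ∀ p, d6 (G6 T a b (ι p)) = eval p D := by
  refine exists_homogeneous (F := fun p => d6 (G6 T a b (ι p))) ?_ ?_
  · have ca : IsPolyMap k (fun _ : Fin 3 → k => a) := isPolyMap_const a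
    have cb : IsPolyMap k (fun _ : Fin 3 → k => b) := isPolyMap_const b
    have c3 : IsPolyMap k (fun x : Fin 3 → k => ι x) := isPolyMap_linear ι
    have h0 : IsPolyFun k (fun x => G6 T a b (ι x) 0) := pf_const_mul _ (pf_tri T c3 ca ca)
    have h1 : IsPolyFun k (fun x => G6 T a b (ι x) 1) := pf_const_mul _ (pf_tri T c3 cb cb)
    have h2 : IsPolyFun k (fun x => G6 T a b (ι x) 2) := pf_tri T c3 c3 c3
    have h3 : IsPolyFun k (fun x => G6 T a b (ι x) 3) := pf_const_mul _ (pf_tri T c3 c3 cb)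
    have h4 : IsPolyFun k (fun x => G6 T a b (ι x) 4) := pf_const_mul _ (pf_tri T c3 c3 ca)
    have h5 : IsPolyFun k (fun x => G6 T a b (ι x) 5) := pf_const_mul _ (pf_tri T c3 ca cb)
    unfold d6
    exact pf_sub (pf_sub (pf_sub (pf_add (pf_mul (pf_mul (pf_const_mul 4 h0) h1) h2)
      (pf_mul (pf_mul h3 h4) h5)) (pf_mul h0 (pf_pow h3 2))) (pf_mul h1 (pf_pow h4 2)))
      (pf_mul h2 (pf_pow h5 2))
  · intro t v
    simp only [d6, G6, map_smul, LinearMap.smul_apply, smul_eq_mul, Matrix.cons_val]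
    ring

section Main

variable [IsAlgClosed k] [CharZero k] [FiniteDimensional k V]
variable {T : V →ₗ[k] V →ₗ[k] V →ₗ[k] k}
variable {a b : V} {ι : (Fin 3 → k) →ₗ[k] V}

/-- the data of a degenerate plane, normalised -/
theorem SS_iff (hG : ∀ p, p ≠ 0 → G6 T a b (ι p) ≠ 0) {χ₁ χ₂ : Submodule k V → Prop} {p : Fin 3 → k}
    (hp : p ≠ 0) : SS T a b ι χ₁ χ₂ p ↔ ∃ m n : Fin 3 → k, m ≠ 0 ∧ n ≠ 0 ∧
      G6 T a b (ι p) = M6 m n ∧ χ₁ (lineOf ![a, b, ι p] m) ∧ χ₂ (lineOf ![a, b, ι p] n) := by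
  constructor
  · rintro ⟨m, hm, n, hn, h, h1, h2⟩
    have hM := M6_ne_zero hm hn
    obtain ⟨j, hj⟩ : ∃ j, M6 m n j ≠ 0 := by
      by_contra hcon
      push Not at hcon
      exact hM (funext hcon)
    set c := G6 T a b (ι p) j / M6 m n j with hc
    have hGc : G6 T a b (ι p) = c • M6 m n := by
      funext i
      rw [Pi.smul_apply, smul_eq_mul, hc]
      field_simp
      exact h i j
    have hc0 : c ≠ 0 := by
      intro h0
      rw [h0, zero_smul] at hGc
      exact hG p hp hGc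
    refine ⟨c • m, n, smul_ne_zero hc0 hm, hn, by rw [hGc, M6_smul_left], ?_, h2⟩
    rw [lineOf_smul hc0]; exact h1
  · rintro ⟨m, n, hm, hn, h, h1, h2⟩
    exact ⟨m, hm, n, hn, fun i j => by rw [h]; ring, h1, h2⟩

/-- colours are well defined -/
theorem SS_unique (hG : ∀ p, p ≠ 0 → G6 T a b (ι p) ≠ 0) {p : Fin 3 → k}
    (hp : p ≠ 0) {χ₁ χ₂ χ₁' χ₂' : Submodule k V → Prop} (h : SS T a b ι χ₁ χ₂ p)
    (h' : SS T a b ι χ₁' χ₂' p) : SS T a b ι (fun U => χ₁ U ∧ χ₁' U) (fun U => χ₂ U ∧ χ₂' U) p ∨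
      SS T a b ι (fun U => χ₁ U ∧ χ₂' U) (fun U => χ₂ U ∧ χ₁' U) p := by
  rw [SS_iff hG hp] at h h'
  obtain ⟨m, n, hm, hn, h0, h1, h2⟩ := h
  obtain ⟨m', n', hm', hn', h0', h1', h2'⟩ := h'
  rcases factor_unique (c := 1) (c' := 1) one_ne_zero one_ne_zero hm hn hm' hn'
    (by rw [one_smul, one_smul, ← h0, h0']) with ⟨s, t, hs, ht, rfl, rfl⟩ | ⟨s, t, hs, ht, rfl, rfl⟩
  · left
    rw [SS_iff hG hp]
    rw [lineOf_smul hs] at h1'
    rw [lineOf_smul ht] at h2'
    exact ⟨m, n, hm, hn, h0, ⟨h1, h1'⟩, ⟨h2, h2'⟩⟩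
  · right
    rw [SS_iff hG hp]
    rw [lineOf_smul hs] at h1'
    rw [lineOf_smul ht] at h2'
    exact ⟨m, n, hm, hn, h0, ⟨h1, h2'⟩, ⟨h2, h1'⟩⟩

/-- **Constancy of the type.**  If one degenerate plane through `⟨a, b⟩` has both residual lines of colour `χ`,
then all have. -/
theorem type_const_aux (hι : ∀ c, c ≠ 0 → LinearIndependent k ![a, b, ι c])
    (hG : ∀ p, p ≠ 0 → G6 T a b (ι p) ≠ 0) {χ χ' : Submodule k V → Prop} (hχ : ClosedL χ)
    (hχ' : ClosedL χ') (hdis : ∀ p, p ≠ 0 → ∀ m, m ≠ 0 → χ (lineOf ![a, b, ι p] m) →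
      χ' (lineOf ![a, b, ι p] m) → False)
    (hcov : ∀ p, p ≠ 0 → ∀ m n, m ≠ 0 → n ≠ 0 → G6 T a b (ι p) = M6 m n →
      χ (lineOf ![a, b, ι p] m) ∨ χ' (lineOf ![a, b, ι p] m))
    {p q : Fin 3 → k} (hp : p ≠ 0) (hq : q ≠ 0) (hSp : SS T a b ι χ χ p)
    (hdq : d6 (G6 T a b (ι q)) = 0) : SS T a b ι χ χ q := by
  have hinf : Infinite k := IsAlgClosed.instInfinite
  obtain ⟨D, hD, hDe⟩ := exists_disc T a b ι
  have hM6c : ∀ m n : Fin 3 → k, M6 m n = M6 n m := by
    intro m n
    funext i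
    fin_cases i <;> simp [M6] <;> ring
  -- exhaustion of the discriminant curve
  have hex : ∀ v, v ≠ 0 → eval v D = 0 → SS T a b ι χ χ v ∨ SS T a b ι χ χ' v ∨ SS T a b ι χ' χ' v := by
    intro v hv hvD
    rw [← hDe] at hvD
    obtain ⟨m, n, hmn⟩ := exists_M6 hvD
    have hm : m ≠ 0 := by
      rintro rfl
      apply hG v hv
      rw [hmn]; funext i; fin_cases i <;> simp [M6]
    have hn : n ≠ 0 := by
      rintro rfl
      apply hG v hv
      rw [hmn]; funext i; fin_cases i <;> simp [M6]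
    have hmn' : G6 T a b (ι v) = M6 n m := by rw [hmn, hM6c]
    rw [SS_iff hG hv, SS_iff hG hv, SS_iff hG hv]
    rcases hcov v hv m n hm hn hmn with h1 | h1 <;> rcases hcov v hv n m hn hm hmn' with h2 | h2
    · exact Or.inl ⟨m, n, hm, hn, hmn, h1, h2⟩
    · exact Or.inr (Or.inl ⟨m, n, hm, hn, hmn, h1, h2⟩)
    · exact Or.inr (Or.inl ⟨n, m, hn, hm, hmn', h2, h1⟩)
    · exact Or.inr (Or.inr ⟨m, n, hm, hn, hmn, h1, h2⟩)
  -- disjointness
  have hno : ∀ v, v ≠ 0 → ∀ {χ₁ χ₂ : Submodule k V → Prop}, SS T a b ι χ₁ χ₂ v →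
      (∀ m, m ≠ 0 → χ₁ (lineOf ![a, b, ι v] m) → False) ∨
        (∀ m, m ≠ 0 → χ₂ (lineOf ![a, b, ι v] m) → False) → False := by
    rintro v hv χ₁ χ₂ ⟨m, hm, n, hn, -, h1, h2⟩ (h | h)
    · exact h m hm h1
    · exact h n hn h2
  have hne1 : ∀ v, v ≠ 0 → SS T a b ι χ χ v → SS T a b ι χ χ' v → False := by
    intro v hv h1 h2
    rcases SS_unique hG hv h1 h2 with h | h
    · exact hno v hv h (Or.inr fun m hm h3 => hdis v hv m hm h3.1 h3.2)
    · exact hno v hv h (Or.inl fun m hm h3 => hdis v hv m hm h3.1 h3.2)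
  have hne2 : ∀ v, v ≠ 0 → SS T a b ι χ χ v → SS T a b ι χ' χ' v → False := by
    intro v hv h1 h2
    rcases SS_unique hG hv h1 h2 with h | h
    · exact hno v hv h (Or.inr fun m hm h3 => hdis v hv m hm h3.1 h3.2)
    · exact hno v hv h (Or.inl fun m hm h3 => hdis v hv m hm h3.1 h3.2)
  -- the two open sets
  have hO1 := zo_inter (isZOpen_SS_compl T hι hχ hχ') (isZOpen_SS_compl T hι hχ' hχ')
  have hO2 := isZOpen_SS_compl T hι hχ hχ
  have hcon := K714.ConnHyp.conn_hyp (le_refl 3) hD hO1 hO2 (by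
    intro v hv hvD
    rcases hex v hv hvD with h | h | h
    · left
      exact ⟨⟨hv, fun h' => hne1 v hv h h'⟩, ⟨hv, fun h' => hne2 v hv h h'⟩⟩
    · right; exact ⟨hv, fun h' => hne1 v hv h' h⟩
    · right; exact ⟨hv, fun h' => hne2 v hv h' h⟩) (by
    rintro v hv hvD ⟨⟨-, h1⟩, ⟨-, h2⟩⟩ ⟨-, h3⟩
    rcases hex v hv hvD with h | h | h
    · exact h3 h
    · exact h1 h
    · exact h2 h)
  have hpD : eval p D = 0 := by
    rw [← hDe]
    rw [SS_iff hG hp] at hSp
    obtain ⟨m, n, -, -, h, -⟩ := hSp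
    rw [h, ← one_smul k (M6 m n)]
    exact d6_smul_M6 1 m n
  rcases hcon with h | h
  · have h1 := h q hq (by rw [← hDe]; exact hdq)
    rcases hex q hq (by rw [← hDe]; exact hdq) with h2 | h2 | h2
    · exact h2
    · exact absurd h2 h1.1.2
    · exact absurd h2 h1.2.2
  · exact absurd hSp (h p hp hpD).2

omit [IsAlgClosed k] in
/-- The data of a tritangent plane through `⟨a, b⟩`. -/
theorem tri_data (hT : IsSym3 T) (hV : finrank k V = 5)
    (hι : ∀ c, c ≠ 0 → LinearIndependent k ![a, b, ι c]) (hιr : finrank k ↥(LinearMap.range ι) = 3)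
    {y z : Submodule k V} (hx : IsLine T (Submodule.span k {a, b})) (hy : IsLine T y)
    (hz : IsLine T z) (h : Tri (Submodule.span k {a, b}) y z) :
    ∃ p : Fin 3 → k, p ≠ 0 ∧ ∃ (m n : Fin 3 → k) (t : k), m ≠ 0 ∧ n ≠ 0 ∧
      G6 T a b (ι p) = t • M6 m n ∧ lineOf ![a, b, ι p] m = y ∧ lineOf ![a, b, ι p] n = z := by
  obtain ⟨⟨hxy, hxz, hyz⟩, P, hP, hxP, hyP, hzP⟩ := h
  -- a vector of the complement in `P`
  have hm : P ⊓ LinearMap.range ι ≠ ⊥ := by
    intro h
    have h1 := Submodule.finrank_sup_add_finrank_inf_eq P (LinearMap.range ι)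
    have h2 := Submodule.finrank_le (P ⊔ LinearMap.range ι)
    rw [h, finrank_bot, hP, hιr] at h1
    omega
  obtain ⟨v, ⟨hvP, ⟨p, rfl⟩⟩, hv0⟩ := Submodule.exists_mem_ne_zero_of_ne_bot hm
  have hp : p ≠ 0 := by rintro rfl; exact hv0 (map_zero ι)
  have he := hι p hp
  have haP : a ∈ P := hxP (Submodule.subset_span (by simp))
  have hbP : b ∈ P := hxP (Submodule.subset_span (by simp))
  -- `P` is spanned
  have hPs : ∀ v ∈ P, ∃ c : Fin 3 → k, c 0 • (![a, b, ι p] : Fin 3 → V) 0 +
      c 1 • (![a, b, ι p] : Fin 3 → V) 1 + c 2 • (![a, b, ι p] : Fin 3 → V) 2 = v := by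
    intro v hv
    have h1 := finrank_span_eq_card he
    have h2 : Submodule.span k (Set.range ![a, b, ι p]) = P := by
      refine Submodule.eq_of_le_of_finrank_eq ?_ (by rw [h1, Fintype.card_fin, hP])
      rw [Submodule.span_le]
      rintro _ ⟨i, rfl⟩
      fin_cases i
      · exact haP
      · exact hbP
      · exact hvP
    rw [← h2] at hv
    obtain ⟨c, hc⟩ := (Submodule.mem_span_range_iff_exists_fun k).1 hv
    refine ⟨c, ?_⟩
    rw [← hc, Fin.sum_univ_three]
  obtain ⟨m, hm0, hmy⟩ := exists_lineOf he hy.1 (fun v hv => hPs v (hyP hv))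
  obtain ⟨n, hn0, hnz⟩ := exists_lineOf he hz.1 (fun v hv => hPs v (hzP hv))
  have hx1 := hx.2 a (Submodule.subset_span (by simp))
  have hx4 := hx.2 b (Submodule.subset_span (by simp))
  have hx2 : T a a b = 0 := hT.eq_zero_of_diag _ hx.2 (Submodule.subset_span (by simp))
    (Submodule.subset_span (by simp)) (Submodule.subset_span (by simp))
  have hx3 : T a b b = 0 := hT.eq_zero_of_diag _ hx.2 (Submodule.subset_span (by simp))
    (Submodule.subset_span (by simp)) (Submodule.subset_span (by simp))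
  have hev := eval_plane hT hx1 hx2 hx3 hx4 (ι p)
  -- `x` is the line `c₂ = 0`
  have hxl : lineOf ![a, b, ι p] ![0, 0, 1] = Submodule.span k {a, b} := by
    symm
    refine Submodule.eq_of_le_of_finrank_eq ?_ ?_
    · rw [Submodule.span_le]
      rintro w (rfl | hw)
      · exact mem_lineOf.2 ⟨![1, 0, 0], by simp [dot_apply], by simp⟩
      · rw [Set.mem_singleton_iff.1 hw]
        exact mem_lineOf.2 ⟨![0, 1, 0], by simp [dot_apply], by simp⟩
    · rw [hx.1, finrank_lineOf he]
      intro h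
      have := congrFun h 2
      simp at this
  -- the residual conic vanishes on `m` and `n`
  have hvan : ∀ (w : Submodule k V) (m : Fin 3 → k), IsLine T w → m ≠ 0 →
      lineOf ![a, b, ι p] m = w → Submodule.span k {a, b} ≠ w → ∀ c, dot m c = 0 →
      Q6 (G6 T a b (ι p)) c = 0 := by
    intro w m hw hm0 hmw hxw c hc
    have hkey : ∀ c, dot m c = 0 → c 2 ≠ 0 → Q6 (G6 T a b (ι p)) c = 0 := by
      intro c hc hc2
      have h1 := hw.2 (c 0 • a + c 1 • b + c 2 • ι p) (by
        rw [← hmw]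
        exact (comb_mem_lineOf he).2 hc)
      rw [hev c] at h1
      exact (mul_eq_zero.1 h1).resolve_left hc2
    by_cases hc2 : c 2 = 0
    · -- a vector with nonzero last coordinate
      obtain ⟨d, hd, hd2⟩ : ∃ d, dot m d = 0 ∧ d 2 ≠ 0 := by
        by_contra hcon
        push Not at hcon
        apply hxw
        rw [← hmw, ← hxl]
        symm
        refine Submodule.eq_of_le_of_finrank_eq ?_ ?_
        · intro u hu
          obtain ⟨c, hc, rfl⟩ := mem_lineOf.1 hu
          refine mem_lineOf.2 ⟨c, ?_, rfl⟩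
          rw [dot_apply]
          simp [hcon c hc]
        · rw [finrank_lineOf he hm0, finrank_lineOf he (by
            intro h
            have := congrFun h 2
            simp at this)]
      have e1 := hkey (c + (1 : k) • d) (by rw [map_add, map_smul, hc, hd]; simp) (by
        simp [hc2, hd2])
      have e2 := hkey (c + (-1 : k) • d) (by rw [map_add, map_smul, hc, hd]; simp) (by
        simp [hc2, hd2])
      have e3 := hkey d hd hd2
      rw [Q6_add_smul, e3] at e1 e2
      have h2 : (2 : k) ≠ 0 := by norm_num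
      apply mul_left_cancel₀ h2
      linear_combination e1 + e2
    · exact hkey c hc hc2
  have hle : ∀ m n : Fin 3 → k, m ≠ 0 → n ≠ 0 → lineOf ![a, b, ι p] m ≠ lineOf ![a, b, ι p] n →
      ¬ LinearMap.ker (dot m) ≤ LinearMap.ker (dot n) := by
    intro m n hm hn hne hle
    apply hne
    refine Submodule.eq_of_le_of_finrank_eq (Submodule.map_mono hle) ?_
    rw [finrank_lineOf he hm, finrank_lineOf he hn]
  obtain ⟨t, ht⟩ := exists_eq_smul_M6 (hle m n hm0 hn0 (by rw [hmy, hnz]; exact hyz))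
    (hle n m hn0 hm0 (by rw [hmy, hnz]; exact hyz.symm)) (hvan y m hy hm0 hmy hxy)
    (hvan z n hz hn0 hnz hxz)
  exact ⟨p, hp, m, n, t, hm0, hn0, ht, hmy, hnz⟩

/-- A smooth cubic threefold contains no plane. -/
theorem no_plane (hT : IsSym3 T) (hV : finrank k V = 5) (hsm : SmoothOn T ⊤)
    {P : Submodule k V} (hP : finrank k ↥P = 3) (h0 : ∀ v ∈ P, T v v v = 0) : False := by
  have hinf : Infinite k := IsAlgClosed.instInfinite
  obtain ⟨C, hC⟩ := Submodule.exists_isCompl P
  have hCf : finrank k ↥C = 2 := by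
    have := Submodule.finrank_add_eq_of_isCompl hC
    omega
  let bP : Basis (Fin 3) k ↥P := finBasisOfFinrankEq k ↥P hP
  let bC : Basis (Fin 2) k ↥C := finBasisOfFinrankEq k ↥C hCf
  let φ : (Fin 3 → k) →ₗ[k] V := P.subtype.comp bP.equivFun.symm.toLinearMap
  have hφ : ∀ c, φ c ∈ P := fun c => (bP.equivFun.symm c).2
  have hφinj : Function.Injective φ := by
    intro c d h
    exact bP.equivFun.symm.injective (Subtype.ext h)
  have hF : ∀ j : Fin 2, ∃ Q : MvPolynomial (Fin 3) k, Q.IsHomogeneous 2 ∧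
      ∀ c, T (φ c) (φ c) (bC j : V) = eval c Q := by
    intro j
    refine exists_homogeneous (F := fun c => T (φ c) (φ c) (bC j : V)) ?_ ?_
    · exact pf_tri T (isPolyMap_linear φ) (isPolyMap_linear φ) (isPolyMap_const _)
    · intro t c
      simp only [map_smul, LinearMap.smul_apply, smul_eq_mul]
      ring
  choose Q hQ hQe using hF
  obtain ⟨c, hc0, hc⟩ := K714.Zeros.exists_ne_zero (k := k) (N := 3) (ι := Fin 2) (by simp)
    (fun _ => 2) (fun _ => by norm_num) Q hQ
  obtain ⟨w, -, hw⟩ := hsm (φ c) trivial (fun h => hc0 (hφinj (h.trans (map_zero φ).symm)))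
    (h0 _ (hφ c))
  apply hw
  have hw' : w ∈ P ⊔ C := by rw [hC.sup_eq_top]; trivial
  obtain ⟨w1, hw1, w2, hw2, rfl⟩ := Submodule.mem_sup.1 hw'
  rw [map_add, hT.eq_zero_of_diag P h0 (hφ c) (hφ c) hw1, zero_add]
  have h3 := congrArg Subtype.val (bC.sum_repr ⟨w2, hw2⟩)
  rw [Fin.sum_univ_two] at h3
  simp only [Submodule.coe_add, Submodule.coe_smul] at h3
  rw [← h3, map_add, map_smul, map_smul, hQe 0, hQe 1, hc 0, hc 1]
  simp

/-- **Constancy of the type**, for lines. -/
theorem type_const (hT : IsSym3 T) (hV : finrank k V = 5) (hsm : SmoothOn T ⊤)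
    {χ χ' : Submodule k V → Prop} (hχ : ClosedL χ) (hχ' : ClosedL χ')
    (hdis : ∀ U : Submodule k V, IsLine T U → χ U → χ' U → False) (hcov : ∀ U : Submodule k V, IsLine T U → χ U ∨ χ' U)
    (hline : ∀ U : Submodule k V, finrank k ↥U = 2 → χ U ∨ χ' U → IsLine T U)
    {x y z y' z' : Submodule k V} (hx : IsLine T x) (hy : IsLine T y) (hz : IsLine T z)
    (hy' : IsLine T y') (hz' : IsLine T z') (h : Tri x y z) (h' : Tri x y' z') (h1 : χ y)
    (h2 : χ z) : χ y' ∧ χ z' := by
  -- coordinates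
  let bx : Basis (Fin 2) k ↥x := finBasisOfFinrankEq k ↥x hx.1
  set a : V := (bx 0 : V) with ha
  set b : V := (bx 1 : V) with hb
  have hxs : Submodule.span k {a, b} = x := by
    have h3 : Submodule.span k (Set.range fun i => (bx i : V)) = x := by
      have := congrArg (Submodule.map x.subtype) bx.span_eq
      rw [Submodule.map_span, Submodule.map_top, Submodule.range_subtype, ← Set.range_comp] at this
      exact this
    rw [← h3]
    congr 1
    ext u
    simp only [Set.mem_insert_iff, Set.mem_singleton_iff, Set.mem_range]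
    constructor
    · rintro (rfl | rfl)
      · exact ⟨0, rfl⟩
      · exact ⟨1, rfl⟩
    · rintro ⟨i, rfl⟩
      fin_cases i
      · exact Or.inl rfl
      · exact Or.inr rfl
  obtain ⟨C, hC⟩ := Submodule.exists_isCompl x
  have hCf : finrank k ↥C = 3 := by
    have := Submodule.finrank_add_eq_of_isCompl hC
    rw [hx.1] at this
    omega
  let bC : Basis (Fin 3) k ↥C := finBasisOfFinrankEq k ↥C hCf
  let ι : (Fin 3 → k) →ₗ[k] V := C.subtype.comp bC.equivFun.symm.toLinearMap
  have hιC : ∀ c, ι c ∈ C := fun c => (bC.equivFun.symm c).2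
  have hιinj : Function.Injective ι := by
    intro c d h
    exact bC.equivFun.symm.injective (Subtype.ext h)
  have hιr : finrank k ↥(LinearMap.range ι) = 3 := by
    rw [LinearMap.finrank_range_of_inj hιinj, finrank_fin_fun]
  have hab : ∀ s t : k, s • a + t • b = 0 → s = 0 ∧ t = 0 := by
    intro s t h
    have h4 : s • bx 0 + t • bx 1 = 0 := by
      apply Subtype.ext
      simp only [Submodule.coe_add, Submodule.coe_smul, Submodule.coe_zero]
      exact h
    have h5 := (Fintype.linearIndependent_iff.1 bx.linearIndependent) ![s, t] (by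
      rw [Fin.sum_univ_two]; exact h4)
    exact ⟨h5 0, h5 1⟩
  have hι : ∀ c, c ≠ 0 → LinearIndependent k ![a, b, ι c] := by
    intro c hc
    rw [Fintype.linearIndependent_iff]
    intro g hg
    rw [Fin.sum_univ_three] at hg
    simp only [Matrix.cons_val] at hg
    have h4 : g 2 • ι c ∈ x ⊓ C := by
      refine ⟨?_, C.smul_mem _ (hιC c)⟩
      have : g 2 • ι c = -(g 0 • a + g 1 • b) := by rw [eq_neg_iff_add_eq_zero]; rw [← hg]; abel
      rw [this]
      exact x.neg_mem (x.add_mem (x.smul_mem _ (bx 0).2) (x.smul_mem _ (bx 1).2))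
    rw [hC.inf_eq_bot, Submodule.mem_bot] at h4
    have h5 : g 2 = 0 := (smul_eq_zero.1 h4).resolve_right (fun h =>
      hc (hιinj (h.trans (map_zero ι).symm)))
    rw [h4, add_zero] at hg
    have h6 := hab _ _ hg
    intro i
    fin_cases i
    · exact h6.1
    · exact h6.2
    · exact h5
  have hxl : IsLine T (Submodule.span k {a, b}) := by rw [hxs]; exact hx
  have hx1 := hxl.2 a (Submodule.subset_span (by simp))
  have hx4 := hxl.2 b (Submodule.subset_span (by simp))
  have hx2 : T a a b = 0 := hT.eq_zero_of_diag _ hxl.2 (Submodule.subset_span (by simp))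
    (Submodule.subset_span (by simp)) (Submodule.subset_span (by simp))
  have hx3 : T a b b = 0 := hT.eq_zero_of_diag _ hxl.2 (Submodule.subset_span (by simp))
    (Submodule.subset_span (by simp)) (Submodule.subset_span (by simp))
  have hG : ∀ p, p ≠ 0 → G6 T a b (ι p) ≠ 0 := by
    intro p hp h0
    have he := hι p hp
    refine no_plane hT hV hsm (P := Submodule.span k (Set.range ![a, b, ι p])) ?_ ?_
    · rw [finrank_span_eq_card he, Fintype.card_fin]
    · intro v hv
      obtain ⟨c, hc⟩ := (Submodule.mem_span_range_iff_exists_fun k).1 hv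
      rw [← hc, Fin.sum_univ_three]
      have := eval_plane hT hx1 hx2 hx3 hx4 (ι p) c
      rw [h0] at this
      simp only [Matrix.cons_val]
      rw [this]
      simp [Q6]
  obtain ⟨p, hp, m, n, t, hm, hn, ht, hmy, hnz⟩ := tri_data hT hV hι hιr hxl hy hz (by
    rw [hxs]; exact h)
  obtain ⟨q, hq, m', n', t', hm', hn', ht', hmy', hnz'⟩ := tri_data hT hV hι hιr hxl hy' hz' (by
    rw [hxs]; exact h')
  have hSp : SS T a b ι χ χ p := by
    refine ⟨m, hm, n, hn, fun i j => ?_, by rw [hmy]; exact h1, by rw [hnz]; exact h2⟩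
    rw [ht]
    simp only [Pi.smul_apply, smul_eq_mul]
    ring
  have hSq := type_const_aux hι hG hχ hχ' (by
    intro p hp m hm h3 h4
    exact hdis _ (hline _ (finrank_lineOf (hι p hp) hm) (Or.inl h3)) h3 h4) (by
    intro p hp m n hm hn hmn
    refine hcov _ ⟨finrank_lineOf (hι p hp) hm, fun v hv => ?_⟩
    obtain ⟨c, hc, rfl⟩ := mem_lineOf.1 hv
    have := eval_plane hT hx1 hx2 hx3 hx4 (ι p) c
    rw [hmn, Q6_M6, hc, zero_mul, mul_zero] at this
    exact this) hp hq hSp (by rw [ht']; exact d6_smul_M6 _ _ _)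
  rw [SS_iff hG hq] at hSq
  obtain ⟨m1, n1, hm1, hn1, h3, h4, h5⟩ := hSq
  have ht0 : t' ≠ 0 := by
    rintro rfl
    rw [zero_smul] at ht'
    exact hG q hq ht'
  rcases factor_unique (c := 1) (c' := t') one_ne_zero ht0 hm1 hn1 hm' hn'
    (by rw [one_smul, ← h3, ht']) with ⟨s, r, hs, hr, e1, e2⟩ | ⟨s, r, hs, hr, e1, e2⟩
  · rw [e1, lineOf_smul hs] at hmy'
    rw [e2, lineOf_smul hr] at hnz'
    rw [← hmy', ← hnz']
    exact ⟨h4, h5⟩
  · rw [e1, lineOf_smul hs] at hmy'
    rw [e2, lineOf_smul hr] at hnz'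
    rw [← hmy', ← hnz']
    exact ⟨h5, h4⟩

end Main

end K714.TypeConst
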