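import Groth.Agent.Fano.K714.Frames

/-!
# Irreducibility of the variety of frames of lines on a smooth cubic threefold
-/

set_option autoImplicit false

universe u

namespace K714.Frames

open K656.Trilin Module K714.Surf K714.TypeConst K714.Five K714.Comp K714.Irr K714.FanoConn
  LefPen Groth.Agent.Lefpen.H703.ZOpen

variable {k : Type u} [Field k]
variable {T : (Fin 5 → k) →ₗ[k] (Fin 5 → k) →ₗ[k] (Fin 5 → k) →ₗ[k] k}

/-- The coordinates as a linear equivalence. -/
noncomputable def xcE (k : Type u) [Field k] :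
    ((Fin 5 → k) × (Fin 5 → k)) ≃ₗ[k] (Fin (5 + 5) → k) where
  toFun := xc
  invFun x := (fun i => x (Fin.castAdd 5 i), fun i => x (Fin.natAdd 5 i))
  left_inv p := by
    refine Prod.ext (funext fun i => ?_) (funext fun i => ?_)
    · exact Fin.append_left _ _ _
    · exact Fin.append_right _ _ _
  right_inv x := by
    funext i
    refine Fin.addCases (fun i => ?_) (fun i => ?_) i
    · exact Fin.append_left _ _ _
    · exact Fin.append_right _ _ _
  map_add' p q := by
    funext i
    refine Fin.addCases (fun i => ?_) (fun i => ?_) i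
    · simp only [xc, Pi.add_apply, Fin.append_left, Prod.fst_add]
    · simp only [xc, Pi.add_apply, Fin.append_right, Prod.snd_add]
  map_smul' c p := by
    funext i
    refine Fin.addCases (fun i => ?_) (fun i => ?_) i
    · simp only [xc, Pi.smul_apply, Fin.append_left, Prod.smul_fst, RingHom.id_apply]
    · simp only [xc, Pi.smul_apply, Fin.append_right, Prod.smul_snd, RingHom.id_apply]

theorem pm_xc : IsPolyMap k (xc : (Fin 5 → k) × (Fin 5 → k) → Fin (5 + 5) → k) :=
  isPolyMap_linear (xcE k).toLinearMap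

theorem pf_eval (g : MvPolynomial (Fin (5 + 5)) k) :
    IsPolyFun k (fun p : (Fin 5 → k) × (Fin 5 → k) => MvPolynomial.eval (xc p) g) :=
  isPolyFun_eval g fun i => (isPolyMap_pi.1 pm_xc) i

/-- polynomial functions are polynomials in coordinates -/
theorem exists_eval {n : ℕ} {X : Type u} [AddCommGroup X] [Module k X] (e : X ≃ₗ[k] (Fin n → k)) {F : X → k}
    (hF : IsPolyFun k F) : ∃ g : MvPolynomial (Fin n) k, ∀ p, F p = MvPolynomial.eval (e p) g := by
  refine pf_induction (p := fun F => ∃ g : MvPolynomial (Fin n) k, ∀ p, F p = MvPolynomial.eval (e p) g)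
    hF ?_ ?_ ?_ ?_
  · intro l
    refine ⟨∑ i, MvPolynomial.C (l (e.symm (Pi.single i 1))) * MvPolynomial.X i, fun p => ?_⟩
    simp only [map_sum, map_mul, MvPolynomial.eval_C, MvPolynomial.eval_X]
    have hp : p = ∑ i, (e p i) • e.symm (Pi.single i 1) := by
      apply e.injective
      rw [map_sum]
      simp only [map_smul, LinearEquiv.apply_symm_apply]
      conv_lhs => rw [← Finset.univ_sum_single (e p)]
      refine Finset.sum_congr rfl fun i _ => ?_
      rw [← Pi.single_smul, smul_eq_mul, mul_one]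
    conv_lhs => rw [hp]
    rw [map_sum]
    refine Finset.sum_congr rfl fun i _ => ?_
    rw [map_smul, smul_eq_mul, mul_comm]
  · intro c
    exact ⟨MvPolynomial.C c, fun p => by simp⟩
  · rintro f g _ _ ⟨P, hP⟩ ⟨Q, hQ⟩
    exact ⟨P + Q, fun p => by simp only [map_add, hP, hQ]⟩
  · rintro f g _ _ ⟨P, hP⟩ ⟨Q, hQ⟩
    exact ⟨P * Q, fun p => by simp only [map_mul, hP, hQ]⟩

theorem isZOpen_indep : IsZOpen k {p : (Fin 5 → k) × (Fin 5 → k) | LinearIndependent k ![p.1, p.2]} := by
  have h := K713.RangeOpen.isZOpen_linearIndependent (k := k)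
    (V := (Fin 5 → k) × (Fin 5 → k)) (W := Fin 5 → k) (r := 2) ![fun p => p.1, fun p => p.2] (by
      intro i
      fin_cases i
      · exact isPolyMap_fst
      · exact isPolyMap_snd)
  refine (isZOpen_congr fun p => ?_).1 h
  have : (fun i => (![fun p : (Fin 5 → k) × (Fin 5 → k) => p.1, fun p => p.2] : Fin 2 → _) i p) =
      ![p.1, p.2] := by
    funext i
    fin_cases i <;> rfl
  simp only [Set.mem_ofPred_eq]
  rw [this]

theorem isLine_span_iff [CharZero k] (hT : IsSym3 T) {p : (Fin 5 → k) × (Fin 5 → k)}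
    (hp : LinearIndependent k ![p.1, p.2]) :
    IsLine T (Submodule.span k {p.1, p.2}) ↔ p ∈ FR T := by
  have hfin := finrank_span_eq_card hp
  rw [Matrix.range_cons, Matrix.range_cons, Matrix.range_empty, Set.union_empty,
    Set.singleton_union, Fintype.card_fin] at hfin
  constructor
  · rintro ⟨-, h⟩
    have h0 : ∀ u ∈ Submodule.span k {p.1, p.2}, ∀ v ∈ Submodule.span k {p.1, p.2},
        ∀ w ∈ Submodule.span k {p.1, p.2}, T u v w = 0 := fun u hu v hv w hw =>
      hT.eq_zero_of_diag (Submodule.span k {p.1, p.2}) h hu hv hw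
    have ha : p.1 ∈ Submodule.span k {p.1, p.2} := Submodule.subset_span (by simp)
    have hb : p.2 ∈ Submodule.span k {p.1, p.2} := Submodule.subset_span (by simp)
    exact ⟨hp, h0 _ ha _ ha _ ha, h0 _ ha _ ha _ hb, h0 _ ha _ hb _ hb, h0 _ hb _ hb _ hb⟩
  · rintro ⟨-, h1, h2, h3, h4⟩
    refine ⟨hfin, fun u hu => ?_⟩
    obtain ⟨s, t, rfl⟩ := Submodule.mem_span_pair.1 hu
    rw [hT.cube_smul_add_smul, h1, h2, h3, h4]
    ring

theorem indep_of_span {U : Submodule k (Fin 5 → k)} (hU : finrank k ↥U = 2) {a b : Fin 5 → k}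
    (h : Submodule.span k {a, b} = U) : LinearIndependent k ![a, b] := by
  rw [linearIndependent_iff_card_eq_finrank_span]
  rw [Set.finrank, Matrix.range_cons, Matrix.range_cons, Matrix.range_empty, Set.union_empty,
    Set.singleton_union, h, hU, Fintype.card_fin]

theorem exists_frame {U : Submodule k (Fin 5 → k)} (hU : finrank k ↥U = 2) :
    ∃ a b : Fin 5 → k, Submodule.span k {a, b} = U := by
  let β := finBasisOfFinrankEq k ↥U hU
  refine ⟨β 0, β 1, ?_⟩
  have h1 : Submodule.span k (Set.range fun i => ((β i : ↥U) : Fin 5 → k)) = U := by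
    have := congrArg (Submodule.map U.subtype) β.span_eq
    rw [Submodule.map_span, Submodule.map_top, Submodule.range_subtype, ← Set.range_comp] at this
    exact this
  refine Eq.trans ?_ h1
  congr 1
  ext x
  simp [Fin.exists_fin_two, eq_comm]

/-- **Irreducibility of the variety of frames of lines.** -/
theorem frames_irr [IsAlgClosed k] [CharZero k] (hT : IsSym3 T) (hsm : SmoothOn T ⊤) : Irr k (FR T) := by
  have hinf : Infinite k := IsAlgClosed.instInfinite
  have hV : finrank k (Fin 5 → k) = 5 := by simp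
  -- nonempty
  obtain ⟨p₀, hp₀⟩ : (FR T).Nonempty := by
    have hW : finrank k ↥(LinearMap.ker (LinearMap.proj (R := k) (φ := fun _ : Fin 5 => k) 0)) = 4 := by
      have h1 := LinearMap.finrank_range_add_finrank_ker
        (LinearMap.proj (R := k) (φ := fun _ : Fin 5 => k) 0)
      rw [LinearMap.range_eq_top.2 (LinearMap.proj_surjective 0), finrank_top, finrank_self, hV] at h1
      omega
    obtain ⟨U, hU, -⟩ := exists_line T hW
    obtain ⟨a, b, hab⟩ := exists_frame hU.1
    exact ⟨(a, b), (isLine_span_iff hT (p := (a, b)) (indep_of_span hU.1 hab)).1 (by rw [hab]; exact hU)⟩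
  obtain ⟨P, hPp, hP1, hP2, hP3, -⟩ := exists_prime (eqs T) (ns hT hsm hp₀)
  let Z : Set ((Fin 5 → k) × (Fin 5 → k)) := {p | ∀ g ∈ P, MvPolynomial.eval (xc p) g = 0}
  have hp₀Z : p₀ ∈ Z := fun g hg => (mem_mx _ _).1 (hP2 hg)
  have hZc : IsZOpen k {p | p ∉ Z} := by
    have h := isZOpen_compl_zeros (k := k) (f := fun (g : P) (p : (Fin 5 → k) × (Fin 5 → k)) =>
      MvPolynomial.eval (xc p) g.1) (fun g => pf_eval g.1)
    refine (isZOpen_congr fun p => ?_).1 h
    simp only [Set.mem_ofPred_eq, Z, not_forall]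
    constructor
    · rintro ⟨g, hg⟩; exact ⟨g.1, g.2, hg⟩
    · rintro ⟨g, hg, h⟩; exact ⟨⟨g, hg⟩, h⟩
  have hspan : ∀ {p : (Fin 5 → k) × (Fin 5 → k)}, p ∈ FR T → ∀ g ∈ Ideal.span (Set.range (eqs T)),
      MvPolynomial.eval (xc p) g = 0 := by
    intro p hp g hg
    have h1 : Ideal.span (Set.range (eqs T)) ≤ mx (xc p) := by
      rw [Ideal.span_le]
      rintro _ ⟨i, rfl⟩
      exact (mem_mx _ _).2 ((eval_eqs T p).2 hp.2 i)
    exact (mem_mx _ _).1 (h1 hg)
  -- locally, frames near a frame in `Z` are in `Z`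
  have hloc : ∀ p ∈ FR T, p ∈ Z → ∃ U : Set ((Fin 5 → k) × (Fin 5 → k)), IsZOpen k U ∧ p ∈ U ∧
      ∀ q ∈ U, q ∈ FR T → q ∈ Z := by
    intro p hp hpZ
    obtain ⟨Q, hQp, hQ1, hQ2, hQ3, s, hs, hsQ⟩ := exists_prime (eqs T) (ns hT hsm hp)
    have hPx : P ≤ mx (xc p) := fun g hg => (mem_mx _ _).2 (hpZ g hg)
    have hQP : Q ≤ P := hQ3 P hPp hP1 hPx
    have hPQ : P ≤ Q := hP3 Q hQp hQ1 (hQP.trans hP2)
    refine ⟨{q | MvPolynomial.eval (xc q) s ≠ 0}, isZOpen_basic (pf_eval s), hs, ?_⟩
    intro q hq hqF g hg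
    have h1 := hspan hqF _ (hsQ g (hPQ hg))
    rw [map_mul] at h1
    exact (mul_eq_zero.1 h1).resolve_left hq
  -- invariance under change of frames
  have hinv : ∀ a b a' b' : Fin 5 → k, (a, b) ∈ FR T → (a, b) ∈ Z → (a', b') ∈ FR T →
      Submodule.span k {a, b} = Submodule.span k {a', b'} → (a', b') ∈ Z := by
    intro a b a' b' hab habZ hab' hspanEq
    by_contra hcon
    let φ : ((k × k) × (k × k)) → (Fin 5 → k) × (Fin 5 → k) := fun g =>
      (g.1.1 • a + g.1.2 • b, g.2.1 • a + g.2.2 • b)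
    have hφ : IsPolyMap k φ := by
      let L : ((k × k) × (k × k)) →ₗ[k] (Fin 5 → k) × (Fin 5 → k) :=
        { toFun := φ
          map_add' := fun g h => by
            simp only [φ, Prod.fst_add, Prod.snd_add, add_smul, Prod.mk_add_mk]
            congr 1 <;> abel
          map_smul' := fun c g => by
            simp only [φ, Prod.smul_fst, Prod.smul_snd, smul_eq_mul, mul_smul, RingHom.id_apply,
              Prod.smul_mk, smul_add] }
      exact isPolyMap_linear L
    let D : Set ((k × k) × (k × k)) := {g | g.1.1 * g.2.2 - g.1.2 * g.2.1 ≠ 0}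
    have hD : IsZOpen k D := by
      refine isZOpen_basic (pf_sub (pf_mul ?_ ?_) (pf_mul ?_ ?_))
      · exact isPolyFun_linear' ((LinearMap.fst k k k).comp (LinearMap.fst k (k × k) (k × k)))
      · exact isPolyFun_linear' ((LinearMap.snd k k k).comp (LinearMap.snd k (k × k) (k × k)))
      · exact isPolyFun_linear' ((LinearMap.snd k k k).comp (LinearMap.fst k (k × k) (k × k)))
      · exact isPolyFun_linear' ((LinearMap.fst k k k).comp (LinearMap.snd k (k × k) (k × k)))
    have hφD : ∀ g ∈ D, φ g ∈ FR T := by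
      rintro ⟨⟨α, β⟩, ⟨γ, δ⟩⟩ hg
      simp only [D, Set.mem_ofPred_eq] at hg
      have hli := hab.1
      simp only at hli
      have hl : ∀ u ∈ Submodule.span k {a, b}, ∀ v ∈ Submodule.span k {a, b},
          ∀ w ∈ Submodule.span k {a, b}, T u v w = 0 := fun u hu v hv w hw =>
        hT.eq_zero_of_diag (Submodule.span k {a, b}) ((isLine_span_iff hT (p := (a, b)) hli).2 hab).2 hu hv hw
      have ha : α • a + β • b ∈ Submodule.span k {a, b} := Submodule.mem_span_pair.2 ⟨α, β, rfl⟩
      have hb : γ • a + δ • b ∈ Submodule.span k {a, b} := Submodule.mem_span_pair.2 ⟨γ, δ, rfl⟩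
      refine ⟨?_, hl _ ha _ ha _ ha, hl _ ha _ ha _ hb, hl _ ha _ hb _ hb, hl _ hb _ hb _ hb⟩
      rw [LinearIndependent.pair_iff] at hli ⊢
      intro s t hst
      have h1 : (s * α + t * γ) • a + (s * β + t * δ) • b = 0 := by
        rw [← hst]
        simp only [φ, smul_add, smul_smul, add_smul]
        abel
      obtain ⟨h2, h3⟩ := hli _ _ h1
      constructor
      · have : s * (α * δ - β * γ) = 0 := by linear_combination δ * h2 - γ * h3
        exact (mul_eq_zero.1 this).resolve_right hg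
      · have : t * (α * δ - β * γ) = 0 := by linear_combination α * h3 - β * h2
        exact (mul_eq_zero.1 this).resolve_right hg
    have hO1 : IsZOpen k {g | g ∈ D ∧ φ g ∈ Z} := by
      refine isZOpen_of_local ?_
      rintro g ⟨hg, hgZ⟩
      obtain ⟨U, hU, h1, h2⟩ := hloc _ (hφD g hg) hgZ
      exact ⟨_, zo_inter hD (zo_preimage hU hφ), ⟨hg, h1⟩, fun g' hg' => ⟨hg'.1, h2 _ hg'.2 (hφD _ hg'.1)⟩⟩
    have hO2 : IsZOpen k {g | g ∈ D ∧ φ g ∉ Z} := zo_inter hD (zo_preimage hZc hφ)
    have h1 : ((1, 0), (0, 1)) ∈ {g | g ∈ D ∧ φ g ∈ Z} := by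
      refine ⟨?_, ?_⟩
      · simp [D]
      · simpa [φ] using habZ
    obtain ⟨α, β, hα⟩ : ∃ α β : k, α • a + β • b = a' := by
      have : a' ∈ Submodule.span k {a, b} := by
        rw [hspanEq]; exact Submodule.subset_span (by simp)
      exact Submodule.mem_span_pair.1 this
    obtain ⟨γ, δ, hγ⟩ : ∃ γ δ : k, γ • a + δ • b = b' := by
      have : b' ∈ Submodule.span k {a, b} := by
        rw [hspanEq]; exact Submodule.subset_span (by simp)
      exact Submodule.mem_span_pair.1 this
    have h2 : ((α, β), (γ, δ)) ∈ {g | g ∈ D ∧ φ g ∉ Z} := by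
      refine ⟨?_, ?_⟩
      · simp only [D, Set.mem_ofPred_eq]
        intro h0
        have hli := hab'.1
        simp only at hli
        rw [LinearIndependent.pair_iff] at hli
        have h3 := hli δ (-β) (by
          rw [← hα, ← hγ]
          have : (δ * α - β * γ) = 0 := by linear_combination h0
          calc δ • (α • a + β • b) + (-β) • (γ • a + δ • b) = (δ * α - β * γ) • a := by
                simp only [smul_add, smul_smul, sub_smul, neg_mul, neg_smul, mul_comm δ β]
                abel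
            _ = 0 := by rw [this, zero_smul])
        have h4 := hli γ (-α) (by
          rw [← hα, ← hγ]
          have : (γ * β - α * δ) = 0 := by linear_combination -h0
          calc γ • (α • a + β • b) + (-α) • (γ • a + δ • b) = (γ * β - α * δ) • b := by
                simp only [smul_add, smul_smul, sub_smul, neg_mul, neg_smul, mul_comm γ α]
                abel
            _ = 0 := by rw [this, zero_smul])
        have h5 : a' = 0 := by
          rw [← hα, neg_eq_zero.1 h3.2, neg_eq_zero.1 h4.2]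
          simp
        exact one_ne_zero (hli 1 0 (by rw [h5]; simp)).1
      · have : φ ((α, β), (γ, δ)) = (a', b') := by simp only [φ, hα, hγ]
        rw [this]
        exact hcon
    obtain ⟨g, -, hg1, hg2⟩ := (irr_univ (k := k)).2 _ _ hO1 hO2 ⟨_, trivial, h1⟩ ⟨_, trivial, h2⟩
    exact hg2.2 hg1.2
  -- the colouring
  let χ : Submodule k (Fin 5 → k) → Prop := fun U => IsLine T U ∧ ∀ a b, Submodule.span k {a, b} = U →
    (a, b) ∈ Z
  let χ' : Submodule k (Fin 5 → k) → Prop := fun U => IsLine T U ∧ ∀ a b, Submodule.span k {a, b} = U →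
    (a, b) ∉ Z
  have hcov : ∀ U, IsLine T U → χ U ∨ χ' U := by
    intro U hU
    by_cases h : ∃ a b, Submodule.span k {a, b} = U ∧ (a, b) ∈ Z
    · left
      obtain ⟨a, b, hab, habZ⟩ := h
      refine ⟨hU, fun a' b' hab' => ?_⟩
      exact hinv a b a' b'
        ((isLine_span_iff hT (p := (a, b)) (indep_of_span hU.1 hab)).1 (by rw [hab]; exact hU)) habZ
        ((isLine_span_iff hT (p := (a', b')) (indep_of_span hU.1 hab')).1 (by rw [hab']; exact hU))
        (hab.trans hab'.symm)
    · right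
      push Not at h
      exact ⟨hU, h⟩
  have hFRline : ∀ {p : (Fin 5 → k) × (Fin 5 → k)}, p ∈ FR T → IsLine T (Submodule.span k {p.1, p.2}) :=
    fun {p} hp => (isLine_span_iff hT hp.1).2 hp
  have hχ : ClosedL χ := by
    have ho : IsZOpen k {p : (Fin 5 → k) × (Fin 5 → k) | ∃ i, MvPolynomial.eval (xc p) (eqs T i) ≠ 0} :=
      isZOpen_compl_zeros fun i => pf_eval _
    refine (isZOpen_congr fun p => ?_).1 (zo_inter isZOpen_indep (zo_union ho hZc))
    simp only [Set.mem_inter_iff, Set.mem_union, Set.mem_ofPred_eq]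
    constructor
    · rintro ⟨h1, h2⟩
      refine ⟨h1, fun h3 => ?_⟩
      rcases h2 with ⟨i, hi⟩ | h2
      · exact hi ((eval_eqs T p).2 ((isLine_span_iff hT h1).1 h3.1).2 i)
      · exact h2 (h3.2 p.1 p.2 rfl)
    · rintro ⟨h1, h2⟩
      refine ⟨h1, ?_⟩
      by_contra hcon
      push Not at hcon
      obtain ⟨h3, h4⟩ := hcon
      have hpF : p ∈ FR T := ⟨h1, (eval_eqs T p).1 h3⟩
      have hl := hFRline hpF
      rcases hcov _ hl with h5 | h5
      · exact h2 h5
      · exact h5.2 p.1 p.2 rfl h4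
  have hχ' : ClosedL χ' := by
    refine isZOpen_of_local ?_
    rintro p ⟨h1, h2⟩
    by_cases h3 : p ∈ FR T
    · have hpZ : p ∈ Z := by
        rcases hcov _ (hFRline h3) with h5 | h5
        · exact h5.2 p.1 p.2 rfl
        · exact absurd h5 h2
      obtain ⟨U, hU, h6, h7⟩ := hloc p h3 hpZ
      refine ⟨_, zo_inter isZOpen_indep hU, ⟨h1, h6⟩, ?_⟩
      rintro q ⟨hq1, hq2⟩
      refine ⟨hq1, fun h8 => ?_⟩
      exact h8.2 q.1 q.2 rfl (h7 q hq2 ((isLine_span_iff hT hq1).1 h8.1))
    · have ho : IsZOpen k {p : (Fin 5 → k) × (Fin 5 → k) | ∃ i, MvPolynomial.eval (xc p) (eqs T i) ≠ 0} :=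
        isZOpen_compl_zeros fun i => pf_eval _
      refine ⟨_, zo_inter isZOpen_indep ho, ⟨h1, ?_⟩, ?_⟩
      · by_contra hcon
        simp only [Set.mem_ofPred_eq] at hcon
        push Not at hcon
        exact h3 ⟨h1, (eval_eqs T p).1 hcon⟩
      · rintro q ⟨hq1, i, hi⟩
        exact ⟨hq1, fun h8 => hi ((eval_eqs T q).2 ((isLine_span_iff hT hq1).1 h8.1).2 i)⟩
  have hall : ∀ p ∈ FR T, p ∈ Z := by
    intro p hp
    rcases hcov _ (hFRline hp) with h5 | h5
    · exact h5.2 p.1 p.2 rfl
    · exfalso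
      have h6 : χ (Submodule.span k {p₀.1, p₀.2}) := by
        rcases hcov _ (hFRline hp₀) with h7 | h7
        · exact h7
        · exact absurd hp₀Z (h7.2 p₀.1 p₀.2 rfl)
      exact fano_conn hT hV hsm hχ hχ' (fun U hU h => h.elim (fun h => h.1) (fun h => h.1)) hcov
        (fun U hU h h' => by
          obtain ⟨a, b, hab⟩ := exists_frame hU.1
          exact h'.2 a b hab (h.2 a b hab)) (hFRline hp₀).1 (hFRline hp).1 h6 h5
  -- conclusion
  refine ⟨⟨p₀, hp₀⟩, ?_⟩
  rintro O O' hO hO' ⟨p, hp, hpO⟩ ⟨q, hq, hqO⟩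
  obtain ⟨F, hF, hFp, hFO⟩ := hO p hpO
  obtain ⟨G, hG, hGq, hGO⟩ := hO' q hqO
  by_contra hcon
  have hzero : ∀ r ∈ FR T, F r * G r = 0 := by
    intro r hr
    by_contra hne
    exact hcon ⟨r, hr, hFO r (left_ne_zero_of_mul hne), hGO r (right_ne_zero_of_mul hne)⟩
  obtain ⟨f, hf⟩ := exists_eval (xcE k) hF
  obtain ⟨g, hg⟩ := exists_eval (xcE k) hG
  -- a function nonzero at `p₀` and zero on dependent pairs
  obtain ⟨Δ, hΔ, hΔ0, hΔi⟩ := isZOpen_indep (k := k) p₀ hp₀.1
  obtain ⟨δ, hδ⟩ := exists_eval (xcE k) hΔ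
  have hmem : f * g * δ ∈ P := by
    have h1 : f * g * δ ∈ MvPolynomial.vanishingIdeal k (MvPolynomial.zeroLocus k P) := by
      rw [MvPolynomial.mem_vanishingIdeal_iff]
      intro y hy
      rw [MvPolynomial.mem_zeroLocus_iff] at hy
      obtain ⟨r, rfl⟩ := (xcE k).surjective y
      rw [MvPolynomial.aeval_eq_eval, map_mul, map_mul, ← hf, ← hg, ← hδ]
      by_cases h2 : Δ r = 0
      · rw [h2, mul_zero]
      · have h3 : r ∈ FR T := by
          refine ⟨hΔi r h2, (eval_eqs T r).1 fun i => ?_⟩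
          have := hy (eqs T i) (hP1 (Ideal.subset_span ⟨i, rfl⟩))
          rwa [MvPolynomial.aeval_eq_eval] at this
        rw [hzero r h3, zero_mul]
    rw [MvPolynomial.vanishingIdeal_zeroLocus_eq_radical, hPp.radical] at h1
    exact h1
  rcases hPp.mem_or_mem hmem with h1 | h1
  · rcases hPp.mem_or_mem h1 with h2 | h2
    · apply hFp
      rw [hf]
      exact hall p hp f h2
    · apply hGq
      rw [hg]
      exact hall q hq g h2
  · apply hΔ0
    rw [hδ]
    exact hp₀Z δ h1

end K714.Frames
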