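import Groth.Agent.Lefpen.H703.ZOpen
import Mathlib.LinearAlgebra.Matrix.Adjugate
import Mathlib.LinearAlgebra.Dual.Lemmas

/-!
# Irreducible subsets of vector spaces (Zariski topology, elementary)

* `Irr k Λ`: `Λ` is nonempty and two Zariski open sets meeting `Λ` have a common point in `Λ`.
* `Irr.image`, `Irr.inter_open`, `irr_univ`, `Irr.of_fibration`, `Irr.of_linear` (total space of an affine linear
  system of constant rank over an irreducible base), `Irr.prod`.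
-/

set_option autoImplicit false

universe u

namespace K714.Irr

open LefPen Groth.Agent.Lefpen.H703.ZOpen Module

variable {k : Type u} [Field k] {V W W' : Type u} [AddCommGroup V] [Module k V] [AddCommGroup W] [Module k W]
  [AddCommGroup W'] [Module k W']

variable (k) in
/-- irreducible subsets -/
def Irr (Λ : Set V) : Prop :=
  Λ.Nonempty ∧ ∀ O O' : Set V, IsZOpen k O → IsZOpen k O' → (Λ ∩ O).Nonempty → (Λ ∩ O').Nonempty →
    (Λ ∩ (O ∩ O')).Nonempty

theorem irr_univ [Infinite k] : Irr k (Set.univ : Set V) := by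
  refine ⟨⟨0, trivial⟩, ?_⟩
  rintro O O' hO hO' ⟨v, -, hv⟩ ⟨w, -, hw⟩
  obtain ⟨f, hf, hfv, hfO⟩ := hO v hv
  obtain ⟨g, hg, hgw, hgO⟩ := hO' w hw
  obtain ⟨x, hx⟩ := exists_mul_ne_zero hf hg ⟨v, hfv⟩ ⟨w, hgw⟩
  exact ⟨x, trivial, hfO x (left_ne_zero_of_mul hx), hgO x (right_ne_zero_of_mul hx)⟩

theorem Irr.image {Λ : Set V} (h : Irr k Λ) {φ : V → W} (hφ : IsPolyMap k φ) : Irr k (φ '' Λ) := by
  refine ⟨h.1.image _, ?_⟩
  rintro O O' hO hO' ⟨_, ⟨v, hv, rfl⟩, hvO⟩ ⟨_, ⟨w, hw, rfl⟩, hwO⟩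
  obtain ⟨x, hx, hx1, hx2⟩ := h.2 _ _ (zo_preimage hO hφ) (zo_preimage hO' hφ) ⟨v, hv, hvO⟩ ⟨w, hw, hwO⟩
  exact ⟨φ x, ⟨x, hx, rfl⟩, hx1, hx2⟩

theorem Irr.inter_open {Λ : Set V} (h : Irr k Λ) {O : Set V} (hO : IsZOpen k O) (hne : (Λ ∩ O).Nonempty) :
    Irr k (Λ ∩ O) := by
  refine ⟨hne, ?_⟩
  rintro O₁ O₂ hO₁ hO₂ ⟨v, ⟨hv, hvO⟩, hv1⟩ ⟨w, ⟨hw, hwO⟩, hw2⟩
  obtain ⟨x, hx, ⟨hx1, hx2⟩, hx3, hx4⟩ := h.2 _ _ (zo_inter hO hO₁) (zo_inter hO hO₂) ⟨v, hv, hvO, hv1⟩
    ⟨w, hw, hwO, hw2⟩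
  exact ⟨x, ⟨hx, hx1⟩, hx2, hx4⟩

/-- If every point of `Λ'` is a limit of points of the irreducible subset `Λ ⊆ Λ'`. -/
theorem Irr.of_dense {Λ Λ' : Set V} (h : Irr k Λ) (hsub : Λ ⊆ Λ')
    (hd : ∀ v ∈ Λ', ∀ O : Set V, IsZOpen k O → v ∈ O → (Λ ∩ O).Nonempty) : Irr k Λ' := by
  refine ⟨h.1.mono hsub, ?_⟩
  rintro O O' hO hO' ⟨v, hv, hvO⟩ ⟨w, hw, hwO⟩
  obtain ⟨x, hx, hx2⟩ := h.2 O O' hO hO' (hd v hv O hO hvO) (hd w hw O' hO' hwO)
  exact ⟨x, hsub hx, hx2⟩

theorem Irr.of_fibration {B : Set V} (hB : Irr k B) {E : Set (V × W)} (hE : ∀ p ∈ E, p.1 ∈ B)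
    (hfib : ∀ b ∈ B, Irr k {w : W | (b, w) ∈ E})
    (hopen : ∀ p ∈ E, ∀ O : Set (V × W), IsZOpen k O → p ∈ O →
      ∃ U : Set V, IsZOpen k U ∧ p.1 ∈ U ∧ ∀ b ∈ B, b ∈ U → ∃ w, (b, w) ∈ E ∧ (b, w) ∈ O) : Irr k E := by
  obtain ⟨b0, hb0⟩ := hB.1
  obtain ⟨w0, hw0⟩ := (hfib b0 hb0).1
  refine ⟨⟨(b0, w0), hw0⟩, ?_⟩
  rintro O O' hO hO' ⟨p, hp, hpO⟩ ⟨q, hq, hqO⟩
  obtain ⟨U, hU, hpU, hU'⟩ := hopen p hp O hO hpO
  obtain ⟨U₁, hU₁, hqU, hU₁'⟩ := hopen q hq O' hO' hqO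
  obtain ⟨b, hb, hb1, hb2⟩ := hB.2 U U₁ hU hU₁ ⟨p.1, hE p hp, hpU⟩ ⟨q.1, hE q hq, hqU⟩
  obtain ⟨w, hw, hwO⟩ := hU' b hb hb1
  obtain ⟨w', hw', hwO'⟩ := hU₁' b hb hb2
  have hm : IsPolyMap k (fun w : W => (b, w)) := pm_prodMk (isPolyMap_const b) isPolyMap_id
  obtain ⟨z, hz, hz1, hz2⟩ := (hfib b hb).2 _ _ (zo_preimage hO hm) (zo_preimage hO' hm) ⟨w, hw, hwO⟩
    ⟨w', hw', hwO'⟩
  exact ⟨(b, z), hz, hz1, hz2⟩

/-- Clearing denominators. -/
theorem exists_clear {f : W → k} (hf : IsPolyFun k f) {δ : V → k} (hδ : IsPolyFun k δ) {Q P : V → W}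
    (hQ : IsPolyMap k Q) (hP : IsPolyMap k P) :
    ∃ (N : ℕ) (G : V → k), IsPolyFun k G ∧ ∀ b, δ b ≠ 0 → G b = δ b ^ N * f (Q b + (δ b)⁻¹ • P b) := by
  refine pf_induction (p := fun f => ∃ (N : ℕ) (G : V → k), IsPolyFun k G ∧
    ∀ b, δ b ≠ 0 → G b = δ b ^ N * f (Q b + (δ b)⁻¹ • P b)) hf ?_ ?_ ?_ ?_
  · intro l
    refine ⟨1, fun b => δ b * l (Q b) + l (P b), pf_add (pf_mul hδ (hQ l)) (hP l), fun b hb => ?_⟩
    rw [map_add, map_smul, smul_eq_mul]
    field_simp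
  · intro c
    exact ⟨0, fun _ => c, isPolyFun_const c, fun b _ => by simp⟩
  · rintro f g _ _ ⟨N, G, hG, h1⟩ ⟨N', G', hG', h2⟩
    refine ⟨N + N', fun b => δ b ^ N' * G b + δ b ^ N * G' b,
      pf_add (pf_mul (pf_pow hδ _) hG) (pf_mul (pf_pow hδ _) hG'), fun b hb => ?_⟩
    simp only
    rw [h1 b hb, h2 b hb]
    ring
  · rintro f g _ _ ⟨N, G, hG, h1⟩ ⟨N', G', hG', h2⟩
    refine ⟨N + N', fun b => G b * G' b, pf_mul hG hG', fun b hb => ?_⟩
    simp only
    rw [h1 b hb, h2 b hb]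
    ring

/-- Preimage of an open set under a map with denominators. -/
theorem isZOpen_rat {O : Set W} (hO : IsZOpen k O) {δ : V → k} (hδ : IsPolyFun k δ) {Q P : V → W}
    (hQ : IsPolyMap k Q) (hP : IsPolyMap k P) : IsZOpen k {b : V | δ b ≠ 0 ∧ Q b + (δ b)⁻¹ • P b ∈ O} := by
  rintro b ⟨hb, hbO⟩
  obtain ⟨f, hf, hfb, hfO⟩ := hO _ hbO
  obtain ⟨N, G, hG, h1⟩ := exists_clear hf hδ hQ hP
  refine ⟨fun b => δ b * G b, pf_mul hδ hG, ?_, ?_⟩
  · simp only
    rw [h1 b hb]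
    exact mul_ne_zero hb (mul_ne_zero (pow_ne_zero _ hb) hfb)
  · intro c hc
    have h2 : δ c ≠ 0 := left_ne_zero_of_mul hc
    have h3 : G c ≠ 0 := right_ne_zero_of_mul hc
    rw [h1 c h2] at h3
    exact ⟨h2, hfO _ (right_ne_zero_of_mul h3)⟩

/-- Local sections of linear systems of constant rank. -/
theorem lin_open [FiniteDimensional k W'] {B : Set V} (A : V → W →ₗ[k] W')
    (hA : ∀ w, IsPolyMap k (fun b => A b w)) (y : V → W') (hy : IsPolyMap k y) (r : ℕ)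
    (hr : ∀ b ∈ B, finrank k ↥(LinearMap.range (A b)) = r) (hs : ∀ b ∈ B, y b ∈ LinearMap.range (A b))
    {b₀ : V} (hb₀ : b₀ ∈ B) {w₀ : W} (hw₀ : A b₀ w₀ = y b₀) {O : Set (V × W)} (hO : IsZOpen k O)
    (hmem : (b₀, w₀) ∈ O) :
    ∃ U : Set V, IsZOpen k U ∧ b₀ ∈ U ∧ ∀ b ∈ B, b ∈ U → ∃ w, A b w = y b ∧ (b, w) ∈ O := by
  classical
  -- basis of the range at `b₀`
  let β : Basis (Fin r) k ↥(LinearMap.range (A b₀)) := finBasisOfFinrankEq k _ (hr b₀ hb₀)
  choose e he using fun i => (β i).2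
  obtain ⟨q, hq⟩ := (LinearMap.range (A b₀)).exists_isCompl
  let pr : W' →ₗ[k] ↥(LinearMap.range (A b₀)) := (LinearMap.range (A b₀)).projectionOnto q hq
  let lam : Fin r → W' →ₗ[k] k := fun i => (β.coord i).comp pr
  let M : V → Matrix (Fin r) (Fin r) k := fun b => Matrix.of fun i j => lam i (A b (e j))
  have hM0 : M b₀ = 1 := by
    ext i j
    simp only [M, lam, Matrix.of_apply, LinearMap.comp_apply, he]
    have h1 : pr ((β j : ↥(LinearMap.range (A b₀))) : W') = β j :=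
      Submodule.projectionOnto_apply_left hq (β j)
    rw [h1, Basis.coord_apply, Basis.repr_self, Finsupp.single_apply, Matrix.one_apply]
    simp only [eq_comm]
  have hMp : ∀ i j, IsPolyFun k (fun b => M b i j) := fun i j => hA (e j) (lam i)
  let δ : V → k := fun b => (M b).det
  have hδ : IsPolyFun k δ := isPolyFun_det hMp
  let z : V → Fin r → k := fun b i => lam i (y b - A b w₀)
  have hz : ∀ i, IsPolyFun k (fun b => z b i) := fun i => (pm_sub hy (hA w₀)) (lam i)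
  let c : V → Fin r → k := fun b => Matrix.cramer (M b) (z b)
  have hc : ∀ i, IsPolyFun k (fun b => c b i) := by
    intro i
    simp only [c, Matrix.cramer_apply]
    refine isPolyFun_det fun a j => ?_
    by_cases hj : j = i
    · subst hj
      simpa [Matrix.updateCol_apply] using hz a
    · simpa [Matrix.updateCol_apply, hj] using hMp a j
  let P : V → V × W := fun b => (0, ∑ j, c b j • e j)
  have hP : IsPolyMap k P := by
    refine pm_prodMk (isPolyMap_const 0) ?_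
    intro l
    simp only [map_sum, map_smul, smul_eq_mul]
    exact pf_sum _ fun j _ => pf_mul (hc j) (isPolyFun_const _)
  have hQ : IsPolyMap k (fun b : V => (b, w₀)) := pm_prodMk isPolyMap_id (isPolyMap_const w₀)
  refine ⟨_, isZOpen_rat hO hδ hQ hP, ⟨?_, ?_⟩, ?_⟩
  · simp [δ, hM0]
  · have h0 : c b₀ = 0 := by
      have : z b₀ = 0 := by
        funext i
        simp [z, hw₀]
      simp [c, this]
    simpa [P, h0] using hmem
  · rintro b hb ⟨hδb, hbO⟩
    have hPb : (b, w₀) + (δ b)⁻¹ • P b = (b, w₀ + (δ b)⁻¹ • ∑ j, c b j • e j) := by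
      simp [P]
    rw [hPb] at hbO
    refine ⟨_, ?_, hbO⟩
    -- the functionals `lam` are injective on the range of `A b`
    have hinj : ∀ v ∈ LinearMap.range (A b), (∀ i, lam i v = 0) → v = 0 := by
      intro v hv hv0
      have hli : LinearIndependent k (fun j => (⟨A b (e j), ⟨e j, rfl⟩⟩ : ↥(LinearMap.range (A b)))) := by
        rw [Fintype.linearIndependent_iff]
        intro g hg
        have h1 : (M b).mulVec g = 0 := by
          funext i
          have h2 := congrArg (fun x : ↥(LinearMap.range (A b)) => lam i (x : W')) hg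
          simp only [Submodule.coe_sum, Submodule.coe_smul, map_sum, map_smul, smul_eq_mul,
            Submodule.coe_zero, map_zero] at h2
          simp only [Matrix.mulVec, dotProduct, M, Matrix.of_apply, Pi.zero_apply]
          rw [← h2]
          exact Finset.sum_congr rfl fun j _ => mul_comm _ _
        have h3 := Matrix.eq_zero_of_mulVec_eq_zero hδb h1
        exact fun i => congrFun h3 i
      have hcard : Fintype.card (Fin r) = finrank k ↥(LinearMap.range (A b)) := by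
        rw [Fintype.card_fin, hr b hb]
      let β' := basisOfLinearIndependentOfCardEqFinrank' (K := k) _ hli hcard
      have hβ' : ∀ j, ((β' j : ↥(LinearMap.range (A b))) : W') = A b (e j) := by
        intro j
        simp [β', basisOfLinearIndependentOfCardEqFinrank']
      have hv2 : v = ∑ j, β'.repr ⟨v, hv⟩ j • A b (e j) := by
        have h1 := congrArg (Subtype.val) (β'.sum_repr ⟨v, hv⟩)
        simp only [Submodule.coe_sum, Submodule.coe_smul, hβ'] at h1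
        exact h1.symm
      have h1 : (M b).mulVec (fun j => β'.repr ⟨v, hv⟩ j) = 0 := by
        funext i
        have h2 := hv0 i
        rw [hv2] at h2
        simp only [map_sum, map_smul, smul_eq_mul] at h2
        simp only [Matrix.mulVec, dotProduct, M, Matrix.of_apply, Pi.zero_apply]
        rw [← h2]
        exact Finset.sum_congr rfl fun j _ => mul_comm _ _
      have h3 := Matrix.eq_zero_of_mulVec_eq_zero hδb h1
      rw [hv2]
      refine Finset.sum_eq_zero fun j _ => ?_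
      have : β'.repr ⟨v, hv⟩ j = 0 := congrFun h3 j
      rw [this, zero_smul]
    have h4 := hinj (A b (w₀ + (δ b)⁻¹ • ∑ j, c b j • e j) - y b)
      (Submodule.sub_mem _ ⟨_, rfl⟩ (hs b hb)) (by
        intro i
        have h5 : (M b).mulVec (c b) = δ b • z b := Matrix.mulVec_cramer _ _
        have h6 := congrFun h5 i
        simp only [Matrix.mulVec, dotProduct, M, Matrix.of_apply, Pi.smul_apply, smul_eq_mul, z,
          map_sub] at h6
        rw [map_sub, map_add, map_add, map_smul, map_smul, map_sum, map_sum]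
        simp only [map_smul, smul_eq_mul]
        have h7 : ∑ j, c b j * lam i (A b (e j)) = δ b * (lam i (y b) - lam i (A b w₀)) := by
          rw [← h6]
          exact Finset.sum_congr rfl fun j _ => mul_comm _ _
        rw [h7]
        field_simp
        ring)
    exact sub_eq_zero.1 h4

/-- The total space of an affine linear system of constant rank over an irreducible base is irreducible. -/
theorem Irr.of_linear [Infinite k] [FiniteDimensional k W'] {B : Set V} (hB : Irr k B) (A : V → W →ₗ[k] W')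
    (hA : ∀ w, IsPolyMap k (fun b => A b w)) (y : V → W') (hy : IsPolyMap k y) (r : ℕ)
    (hr : ∀ b ∈ B, finrank k ↥(LinearMap.range (A b)) = r) (hs : ∀ b ∈ B, y b ∈ LinearMap.range (A b)) :
    Irr k {p : V × W | p.1 ∈ B ∧ A p.1 p.2 = y p.1} := by
  refine hB.of_fibration (fun p hp => hp.1) ?_ ?_
  · intro b hb
    obtain ⟨w₀, hw₀⟩ := hs b hb
    have h1 : {w : W | (b, w) ∈ {p : V × W | p.1 ∈ B ∧ A p.1 p.2 = y p.1}} =
        (fun w : ↥(LinearMap.ker (A b)) => w₀ + (w : W)) '' Set.univ := by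
      ext w
      simp only [Set.mem_ofPred_eq, Set.image_univ, Set.mem_range]
      constructor
      · rintro ⟨-, h⟩
        exact ⟨⟨w - w₀, by rw [LinearMap.mem_ker, map_sub, h, hw₀, sub_self]⟩, by simp⟩
      · rintro ⟨z, rfl⟩
        refine ⟨hb, ?_⟩
        rw [map_add, LinearMap.mem_ker.1 z.2, add_zero, hw₀]
    rw [h1]
    exact irr_univ.image (pm_add (isPolyMap_const _) (isPolyMap_linear (LinearMap.ker (A b)).subtype))
  · rintro ⟨b, w⟩ ⟨hb, hw⟩ O hO hmem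
    obtain ⟨U, hU, h1, h2⟩ := lin_open A hA y hy r hr hs hb hw hO hmem
    refine ⟨U, hU, h1, fun b' hb' hbU => ?_⟩
    obtain ⟨w', h3, h4⟩ := h2 b' hb' hbU
    exact ⟨w', ⟨hb', h3⟩, h4⟩

/-- product with a vector space -/
theorem Irr.prod_univ [Infinite k] {B : Set V} (hB : Irr k B) : Irr k {p : V × W | p.1 ∈ B} := by
  have h := hB.of_linear (W := W) (W' := PUnit.{u + 1}) (k := k) (fun _ => 0)
    (fun w => isPolyMap_const _) (fun _ => 0) (isPolyMap_const _) 0 (fun b _ => by simp)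
    (fun b _ => ⟨0, rfl⟩)
  simpa using h

/-- products of irreducible sets -/
theorem Irr.prod {B : Set V} (hB : Irr k B) {C : Set W} (hC : Irr k C) :
    Irr k {p : V × W | p.1 ∈ B ∧ p.2 ∈ C} := by
  refine hB.of_fibration (fun p hp => hp.1) ?_ ?_
  · intro b hb
    have : {w : W | (b, w) ∈ {p : V × W | p.1 ∈ B ∧ p.2 ∈ C}} = C := by
      ext w
      simp [hb]
    rw [this]
    exact hC
  · rintro ⟨b, w⟩ ⟨hb, hw⟩ O hO hmem
    refine ⟨{b' | (b', w) ∈ O}, zo_preimage hO (pm_prodMk isPolyMap_id (isPolyMap_const w)), hmem, ?_⟩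
    intro b' hb' hbO
    exact ⟨w, ⟨hb', hw⟩, hbO⟩

end K714.Irr
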