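import Groth.Agent.Lefpen.H718.Reg
import Groth.Agent.S0558
import Mathlib.RingTheory.Nullstellensatz

/-!
# Components through a nonsingular point

`h : ι → k[X_σ]` finitely many polynomials, `x` a common zero at which the gradients are linearly independent.
Then exactly one minimal prime `P` of `(h)` vanishes at `x` and `(h) = P` near `x`.
-/

set_option autoImplicit false

universe u

namespace K714.Comp

open MvPolynomial IsLocalRing

variable {k : Type u} [Field k]

/-- The ideal of polynomials vanishing at `x`. -/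
noncomputable def mx {σ : Type} (x : σ → k) : Ideal (MvPolynomial σ k) := RingHom.ker (eval x)

instance {σ : Type} (x : σ → k) : (mx x).IsPrime := RingHom.ker_isPrime _

theorem mem_mx {σ : Type} (x : σ → k) (p : MvPolynomial σ k) : p ∈ mx x ↔ eval x p = 0 := RingHom.mem_ker

/-- nonsingular point of the scheme `V(h)` -/
def NS {σ ι : Type} (h : ι → MvPolynomial σ k) (x : σ → k) : Prop :=
  (∀ i, eval x (h i) = 0) ∧ LinearIndependent k (fun i : ι => fun l : σ => eval x (pderiv l (h i)))

/-- Linear independence can be checked in the residue field of `mx x`. -/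
theorem lin_residue {σ ι : Type} [Finite ι] (x : σ → k) (g : ι → σ → MvPolynomial σ k)
    (h : LinearIndependent k (fun i : ι => fun l : σ => eval x (g i l))) :
    LinearIndependent (mx x).ResidueField (fun i : ι => fun l : σ =>
      algebraMap (MvPolynomial σ k) (mx x).ResidueField (g i l)) := by
  classical
  have := Fintype.ofFinite ι
  -- values agree
  have hC : ∀ p : MvPolynomial σ k, algebraMap (MvPolynomial σ k) (mx x).ResidueField p =
      algebraMap (MvPolynomial σ k) (mx x).ResidueField (C (eval x p)) := by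
    intro p
    rw [← sub_eq_zero, ← map_sub, Ideal.algebraMap_residueField_eq_zero, mem_mx]
    simp
  have hsurj : Function.Surjective (algebraMap (MvPolynomial σ k) (mx x).ResidueField) := by
    intro y
    obtain ⟨a, s, hs, rfl⟩ : ∃ a s : MvPolynomial σ k, s ∉ mx x ∧
        algebraMap (MvPolynomial σ k) (mx x).ResidueField a /
          algebraMap (MvPolynomial σ k) (mx x).ResidueField s = y := by
      obtain ⟨y', rfl⟩ := IsLocalRing.residue_surjective (R := Localization.AtPrime (mx x)) y
      obtain ⟨a, s, rfl⟩ := IsLocalization.exists_mk'_eq (mx x).primeCompl y'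
      refine ⟨a, s, s.2, ?_⟩
      rw [div_eq_iff (by rw [Ne, Ideal.algebraMap_residueField_eq_zero]; exact s.2)]
      have h1 : IsLocalization.mk' (Localization.AtPrime (mx x)) a s *
          algebraMap (MvPolynomial σ k) (Localization.AtPrime (mx x)) s =
            algebraMap (MvPolynomial σ k) (Localization.AtPrime (mx x)) a :=
        IsLocalization.mk'_spec _ _ _
      have h2 := congrArg (IsLocalRing.residue (Localization.AtPrime (mx x))) h1
      rw [map_mul] at h2
      exact h2.symm
    refine ⟨C (eval x a / eval x s), ?_⟩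
    rw [hC a, hC s]
    rw [eq_div_iff, ← map_mul, ← map_mul, div_mul_cancel₀]
    · exact fun h0 => hs ((mem_mx x s).2 h0)
    · rw [Ne, Ideal.algebraMap_residueField_eq_zero, mem_mx, eval_C]
      exact fun h0 => hs ((mem_mx x s).2 h0)
  rw [Fintype.linearIndependent_iff] at h ⊢
  intro c hc i
  choose b hb using hsurj
  have h1 := h (fun i => eval x (b (c i))) (by
    funext l
    have h2 := congrFun hc l
    simp only [Finset.sum_apply, Pi.smul_apply, smul_eq_mul, Pi.zero_apply] at h2 ⊢
    have h3 : algebraMap (MvPolynomial σ k) (mx x).ResidueField (∑ i, b (c i) * g i l) = 0 := by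
      rw [map_sum, ← h2]
      exact Finset.sum_congr rfl fun i _ => by rw [map_mul, hb]
    rw [Ideal.algebraMap_residueField_eq_zero, mem_mx] at h3
    simpa using h3) i
  rw [← hb (c i), Ideal.algebraMap_residueField_eq_zero, mem_mx]
  exact h1

/-- main local statement -/
theorem exists_prime {N : ℕ} {ι : Type} [Finite ι] (h : ι → MvPolynomial (Fin N) k) {x : Fin N → k}
    (hx : NS h x) :
    ∃ P : Ideal (MvPolynomial (Fin N) k), P.IsPrime ∧ Ideal.span (Set.range h) ≤ P ∧ P ≤ mx x ∧
      (∀ p : Ideal (MvPolynomial (Fin N) k), p.IsPrime → Ideal.span (Set.range h) ≤ p → p ≤ mx x → P ≤ p) ∧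
      ∃ s : MvPolynomial (Fin N) k, eval x s ≠ 0 ∧ ∀ z ∈ P, s * z ∈ Ideal.span (Set.range h) := by
  classical
  have hmem : ∀ i, h i ∈ mx x := fun i => (mem_mx x _).2 (hx.1 i)
  obtain ⟨hreg, -⟩ := Groth.Agent.Lefpen.H718.Reg.regular_quotient (mx x) h hmem
    (lin_residue x (fun i l => pderiv l (h i)) hx.2)
  let J : Ideal (Localization.AtPrime (mx x)) := Ideal.span (Set.range fun i =>
    algebraMap (MvPolynomial (Fin N) k) (Localization.AtPrime (mx x)) (h i))
  have hdom := @Groth.Agent.S0558.result (Localization.AtPrime (mx x) ⧸ J) _ hreg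
  have hJ : J.IsPrime := (Ideal.Quotient.isDomain_iff_prime J).1 hdom
  have hJmap : J = (Ideal.span (Set.range h)).map
      (algebraMap (MvPolynomial (Fin N) k) (Localization.AtPrime (mx x))) := by
    rw [Ideal.map_span, ← Set.range_comp]
    rfl
  let P := J.comap (algebraMap (MvPolynomial (Fin N) k) (Localization.AtPrime (mx x)))
  have hle : Ideal.span (Set.range h) ≤ P := by
    rw [Ideal.span_le]
    rintro _ ⟨i, rfl⟩
    exact Ideal.subset_span ⟨i, rfl⟩
  have hkey : ∀ z ∈ P, ∃ s : MvPolynomial (Fin N) k, s ∉ mx x ∧ s * z ∈ Ideal.span (Set.range h) := by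
    intro z hz
    have h1 : algebraMap (MvPolynomial (Fin N) k) (Localization.AtPrime (mx x)) z ∈ J := hz
    rw [hJmap, IsLocalization.algebraMap_mem_map_algebraMap_iff (mx x).primeCompl] at h1
    obtain ⟨s, hs, h2⟩ := h1
    exact ⟨s, hs, h2⟩
  refine ⟨P, Ideal.comap_isPrime _ _, hle, ?_, ?_, ?_⟩
  · intro z hz
    obtain ⟨s, hs, h2⟩ := hkey z hz
    have h3 : Ideal.span (Set.range h) ≤ mx x := by
      rw [Ideal.span_le]
      rintro _ ⟨i, rfl⟩
      exact hmem i
    exact ((inferInstance : (mx x).IsPrime).mem_or_mem (h3 h2)).resolve_left hs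
  · intro p hp hp1 hp2 z hz
    obtain ⟨s, hs, h2⟩ := hkey z hz
    exact (hp.mem_or_mem (hp1 h2)).resolve_left fun h3 => hs (hp2 h3)
  · obtain ⟨S, hS⟩ : P.FG := IsNoetherian.noetherian P
    choose! s hs1 hs2 using hkey
    refine ⟨∏ z ∈ S, s z, ?_, ?_⟩
    · rw [map_prod, Finset.prod_ne_zero_iff]
      intro z hz h0
      exact hs1 z (hS ▸ Ideal.subset_span hz) ((mem_mx x _).2 h0)
    · intro z hz
      rw [← hS] at hz
      induction hz using Submodule.span_induction with
      | mem z hz =>
        have h1 : z ∈ P := hS ▸ Ideal.subset_span hz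
        rw [← Finset.prod_erase_mul _ _ hz, mul_assoc]
        exact Ideal.mul_mem_left _ _ (hs2 z h1)
      | zero => rw [mul_zero]; exact Ideal.zero_mem _
      | add y z _ _ hy hz => rw [mul_add]; exact Ideal.add_mem _ hy hz
      | smul a z _ hz => rw [smul_eq_mul, mul_left_comm]; exact Ideal.mul_mem_left _ _ hz

end K714.Comp
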