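import Groth.Agent.Fano.K714.FanoConn
import Groth.Agent.Fano.K714.Comp
import Groth.Agent.Fano.K714.Irr
import Groth.Agent.Fano.K713.RangeOpen

/-!
# The variety of frames of lines of a smooth cubic threefold is irreducible

`FR T`: pairs `(a, b)`, linearly independent, spanning a line of the cubic `T u u u = 0`.
`frames_irr`: `FR T` is irreducible.
-/

set_option autoImplicit false

universe u

namespace K714.Frames

open K656.Trilin Module K714.Surf K714.TypeConst K714.Five K714.Comp K714.Irr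
  LefPen Groth.Agent.Lefpen.H703.ZOpen

variable {k : Type u} [Field k]

section Poly

open MvPolynomial

variable {n : ℕ} {σ : Type}

/-- `T` extended to vectors of polynomials. -/
noncomputable def pT (T : (Fin n → k) →ₗ[k] (Fin n → k) →ₗ[k] (Fin n → k) →ₗ[k] k)
    (u v w : Fin n → MvPolynomial σ k) : MvPolynomial σ k :=
  ∑ i, ∑ j, ∑ l, C (T (Pi.single i 1) (Pi.single j 1) (Pi.single l 1)) * (u i * v j * w l)

theorem T_expand (T : (Fin n → k) →ₗ[k] (Fin n → k) →ₗ[k] (Fin n → k) →ₗ[k] k) (u v w : Fin n → k) :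
    T u v w = ∑ i, ∑ j, ∑ l, T (Pi.single i 1) (Pi.single j 1) (Pi.single l 1) * (u i * v j * w l) := by
  have h : ∀ u : Fin n → k, u = ∑ i, u i • (Pi.single i 1 : Fin n → k) := by
    intro u
    conv_lhs => rw [← Finset.univ_sum_single u]
    refine Finset.sum_congr rfl fun i _ => ?_
    rw [← Pi.single_smul, smul_eq_mul, mul_one]
  have h1 : ∀ u v w, T u v w = ∑ i, u i * T (Pi.single i 1) v w := by
    intro u v w
    conv_lhs => rw [h u]
    simp only [map_sum, LinearMap.sum_apply, map_smul, LinearMap.smul_apply, smul_eq_mul]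
  have h2 : ∀ u v w, T u v w = ∑ i, v i * T u (Pi.single i 1) w := by
    intro u v w
    conv_lhs => rw [h v]
    simp only [map_sum, LinearMap.sum_apply, map_smul, LinearMap.smul_apply, smul_eq_mul]
  have h3 : ∀ u v w, T u v w = ∑ i, w i * T u v (Pi.single i 1) := by
    intro u v w
    conv_lhs => rw [h w]
    simp only [map_sum, map_smul, smul_eq_mul]
  rw [h1]
  refine Finset.sum_congr rfl fun i _ => ?_
  rw [h2, Finset.mul_sum]
  refine Finset.sum_congr rfl fun j _ => ?_
  rw [h3, Finset.mul_sum, Finset.mul_sum]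
  refine Finset.sum_congr rfl fun l _ => ?_
  ring

theorem eval_pT (T : (Fin n → k) →ₗ[k] (Fin n → k) →ₗ[k] (Fin n → k) →ₗ[k] k)
    (u v w : Fin n → MvPolynomial σ k) (x : σ → k) :
    eval x (pT T u v w) = T (fun i => eval x (u i)) (fun i => eval x (v i)) (fun i => eval x (w i)) := by
  rw [T_expand]
  simp only [pT, map_sum, map_mul, eval_C]

theorem pderiv_pT (T : (Fin n → k) →ₗ[k] (Fin n → k) →ₗ[k] (Fin n → k) →ₗ[k] k)
    (u v w : Fin n → MvPolynomial σ k) (l : σ) :
    pderiv l (pT T u v w) = pT T (fun i => pderiv l (u i)) v w + pT T u (fun i => pderiv l (v i)) w +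
      pT T u v (fun i => pderiv l (w i)) := by
  simp only [pT, map_sum, ← Finset.sum_add_distrib]
  refine Finset.sum_congr rfl fun i _ => Finset.sum_congr rfl fun j _ => Finset.sum_congr rfl fun m _ => ?_
  rw [pderiv_C_mul, Derivation.leibniz, Derivation.leibniz]
  simp only [smul_eq_mul]
  ring

end Poly

variable {T : (Fin 5 → k) →ₗ[k] (Fin 5 → k) →ₗ[k] (Fin 5 → k) →ₗ[k] k}

/-- Frames of lines. -/
def FR (T : (Fin 5 → k) →ₗ[k] (Fin 5 → k) →ₗ[k] (Fin 5 → k) →ₗ[k] k) :
    Set ((Fin 5 → k) × (Fin 5 → k)) :=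
  {p | LinearIndependent k ![p.1, p.2] ∧ T p.1 p.1 p.1 = 0 ∧ T p.1 p.1 p.2 = 0 ∧ T p.1 p.2 p.2 = 0 ∧
    T p.2 p.2 p.2 = 0}

/-- coordinates -/
def xc (p : (Fin 5 → k) × (Fin 5 → k)) : Fin (5 + 5) → k := Fin.append p.1 p.2

noncomputable def Av : Fin 5 → MvPolynomial (Fin (5 + 5)) k := fun i => MvPolynomial.X (Fin.castAdd 5 i)
noncomputable def Bv : Fin 5 → MvPolynomial (Fin (5 + 5)) k := fun i => MvPolynomial.X (Fin.natAdd 5 i)

/-- the four equations -/
noncomputable def eqs (T : (Fin 5 → k) →ₗ[k] (Fin 5 → k) →ₗ[k] (Fin 5 → k) →ₗ[k] k) :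
    Fin 4 → MvPolynomial (Fin (5 + 5)) k :=
  ![pT T Av Av Av, pT T Av Av Bv, pT T Av Bv Bv, pT T Bv Bv Bv]

theorem eval_Av (p : (Fin 5 → k) × (Fin 5 → k)) :
    (fun i => MvPolynomial.eval (xc p) (Av i)) = p.1 := by
  funext i; simp [Av, xc]

theorem eval_Bv (p : (Fin 5 → k) × (Fin 5 → k)) :
    (fun i => MvPolynomial.eval (xc p) (Bv i)) = p.2 := by
  funext i
  change MvPolynomial.eval (xc p) (MvPolynomial.X (Fin.natAdd 5 i)) = p.2 i
  rw [MvPolynomial.eval_X]
  exact Fin.append_right _ _ _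

theorem pd_AA (i : Fin 5) (x : Fin (5 + 5) → k) :
    (fun j => MvPolynomial.eval x (MvPolynomial.pderiv (Fin.castAdd 5 i) (Av j : MvPolynomial (Fin (5 + 5)) k))) =
      Pi.single i 1 := by
  funext j
  simp only [Av, MvPolynomial.pderiv_X, Pi.single_apply, Fin.castAdd_inj]
  split_ifs <;> simp_all

theorem pd_AB (i : Fin 5) (x : Fin (5 + 5) → k) :
    (fun j => MvPolynomial.eval x (MvPolynomial.pderiv (Fin.natAdd 5 i) (Av j : MvPolynomial (Fin (5 + 5)) k))) =
      0 := by
  funext j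
  have : Fin.castAdd 5 j ≠ Fin.natAdd 5 i := fun h => by
    have := congrArg Fin.val h
    simp at this
    omega
  change MvPolynomial.eval x (MvPolynomial.pderiv (Fin.natAdd 5 i) (MvPolynomial.X (Fin.castAdd 5 j))) = 0
  rw [MvPolynomial.pderiv_X_of_ne this, map_zero]

theorem pd_BA (i : Fin 5) (x : Fin (5 + 5) → k) :
    (fun j => MvPolynomial.eval x (MvPolynomial.pderiv (Fin.castAdd 5 i) (Bv j : MvPolynomial (Fin (5 + 5)) k))) =
      0 := by
  funext j
  have : Fin.natAdd 5 j ≠ Fin.castAdd 5 i := fun h => by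
    have := congrArg Fin.val h
    simp at this
    omega
  change MvPolynomial.eval x (MvPolynomial.pderiv (Fin.castAdd 5 i) (MvPolynomial.X (Fin.natAdd 5 j))) = 0
  rw [MvPolynomial.pderiv_X_of_ne this, map_zero]

theorem pd_BB (i : Fin 5) (x : Fin (5 + 5) → k) :
    (fun j => MvPolynomial.eval x (MvPolynomial.pderiv (Fin.natAdd 5 i) (Bv j : MvPolynomial (Fin (5 + 5)) k))) =
      Pi.single i 1 := by
  funext j
  simp only [Bv, MvPolynomial.pderiv_X, Pi.single_apply, Fin.natAdd_inj]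
  split_ifs <;> simp_all

theorem eval_eqs (T : (Fin 5 → k) →ₗ[k] (Fin 5 → k) →ₗ[k] (Fin 5 → k) →ₗ[k] k)
    (p : (Fin 5 → k) × (Fin 5 → k)) :
    (∀ i, MvPolynomial.eval (xc p) (eqs T i) = 0) ↔
      (T p.1 p.1 p.1 = 0 ∧ T p.1 p.1 p.2 = 0 ∧ T p.1 p.2 p.2 = 0 ∧ T p.2 p.2 p.2 = 0) := by
  rw [Fin.forall_fin_succ, Fin.forall_fin_succ, Fin.forall_fin_succ, Fin.forall_fin_succ]
  simp [eqs, eval_pT, eval_Av, eval_Bv]

/-- The gradients of the four equations. -/
theorem no_relation [IsAlgClosed k] [CharZero k] (hT : IsSym3 T) (hsm : SmoothOn T ⊤)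
    {a b : Fin 5 → k} (hp : (a, b) ∈ FR T) {c0 c1 c2 c3 : k}
    (h1 : ∀ u, 3 * c0 * T a a u + 2 * c1 * T a b u + c2 * T b b u = 0)
    (h2 : ∀ u, c1 * T a a u + 2 * c2 * T a b u + 3 * c3 * T b b u = 0) :
    c0 = 0 ∧ c1 = 0 ∧ c2 = 0 ∧ c3 = 0 := by
  obtain ⟨hli, e1, e2, e3, e4⟩ := hp
  simp only at hli e1 e2 e3 e4
  -- smoothness along the line
  have hne : ∀ s t : k, (s ≠ 0 ∨ t ≠ 0) → ∃ u, s ^ 2 * T a a u + 2 * (s * t) * T a b u + t ^ 2 * T b b u ≠ 0 := by
    intro s t hst
    have hv : s • a + t • b ≠ 0 := by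
      intro h0
      obtain ⟨h3, h4⟩ := LinearIndependent.pair_iff.1 hli s t h0
      rcases hst with h | h
      · exact h h3
      · exact h h4
    have h0 : T (s • a + t • b) (s • a + t • b) (s • a + t • b) = 0 := by
      rw [hT.cube_smul_add_smul, e1, e2, e3, e4]
      ring
    obtain ⟨w, -, hw⟩ := hsm _ Submodule.mem_top hv h0
    refine ⟨w, ?_⟩
    rw [hT.sq_smul_add_smul] at hw
    intro h
    apply hw
    linear_combination h
  have h3 : (3 : k) ≠ 0 := by norm_num
  -- the two relations are proportional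
  by_cases hc1 : c1 = 0
  · by_cases hc2 : c2 = 0
    · subst hc1 hc2
      obtain ⟨u, hu⟩ := hne 1 0 (Or.inl one_ne_zero)
      obtain ⟨v, hv⟩ := hne 0 1 (Or.inr one_ne_zero)
      have hu' : T a a u ≠ 0 := by
        intro h; apply hu; rw [h]; ring
      have hv' : T b b v ≠ 0 := by
        intro h; apply hv; rw [h]; ring
      have k1 := h1 u
      have k2 := h2 v
      refine ⟨?_, rfl, rfl, ?_⟩
      · have : 3 * T a a u * c0 = 0 := by linear_combination k1
        exact (mul_eq_zero.1 this).resolve_left (mul_ne_zero h3 hu')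
      · have : 3 * T b b v * c3 = 0 := by linear_combination k2
        exact (mul_eq_zero.1 this).resolve_left (mul_ne_zero h3 hv')
    · exfalso
      subst hc1
      -- relations: `3 c0 α + c2 γ = 0`, `2 c2 β + 3 c3 γ = 0`
      by_cases hc0 : c0 = 0
      · obtain ⟨v, hv⟩ := hne 0 1 (Or.inr one_ne_zero)
        apply hv
        have k1 := h1 v
        rw [hc0] at k1
        have : T b b v = 0 := by
          have : c2 * T b b v = 0 := by linear_combination k1
          exact (mul_eq_zero.1 this).resolve_left hc2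
        rw [this]; ring
      · -- `α = -(c2/(3c0)) γ`, `β = -(3c3/(2c2)) γ`
        obtain ⟨s, t, hst, hq⟩ := exists_quad_zero (-(c2 / (3 * c0))) (-(3 * c3 / c2)) (1 : k)
        obtain ⟨u, hu⟩ := hne s t hst
        apply hu
        have k1 := h1 u
        have k2 := h2 u
        have hα : T a a u = -(c2 / (3 * c0)) * T b b u := by
          field_simp
          linear_combination k1
        have hβ : 2 * T a b u = -(3 * c3 / c2) * T b b u := by
          field_simp
          linear_combination k2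
        linear_combination s ^ 2 * hα + s * t * hβ + T b b u * hq
  · exfalso
    by_cases hd : 3 * c0 * c2 = c1 ^ 2 ∧ 9 * c0 * c3 = c1 * c2
    · obtain ⟨hd1, hd2⟩ := hd
      have hc0 : c0 ≠ 0 := by
        rintro rfl
        apply hc1
        have : c1 ^ 2 = 0 := by rw [← hd1]; ring
        exact pow_eq_zero_iff (two_ne_zero) |>.1 this
      obtain ⟨u, hu⟩ := hne (3 * c0) c1 (Or.inr hc1)
      apply hu
      have k1 := h1 u
      linear_combination 3 * c0 * k1 + T b b u * (-hd1)
    · -- `α, β, γ` are proportional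
      obtain ⟨s, t, hst, hq⟩ : ∃ s t : k, (s ≠ 0 ∨ t ≠ 0) ∧
          ∀ u, s ^ 2 * T a a u + 2 * (s * t) * T a b u + t ^ 2 * T b b u = 0 := by
        by_cases hd1 : 3 * c0 * c2 = c1 ^ 2
        · -- `9 c0 c3 ≠ c1 c2`
          have hd2 : 9 * c0 * c3 - c1 * c2 ≠ 0 := fun h => hd ⟨hd1, by linear_combination h⟩
          -- relations give `β` : `(9 c0 c3 - c1 c2) α·? `
          -- eliminate `γ`: 3c3*R1 - c2*R2 : (9c0c3 - c1c2) α + (6c1c3 - 2c2²) β = 0
          -- eliminate `β`: c2*R1 - c1*R2 : (3c0c2 - c1²) α + (c2² - 3c1c3) γ = 0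
          by_cases hd3 : c2 ^ 2 - 3 * c1 * c3 = 0
          · obtain ⟨u, hu⟩ := hne 1 0 (Or.inl one_ne_zero)
            exfalso
            apply hu
            have k1 := h1 u
            have k2 := h2 u
            have : (9 * c0 * c3 - c1 * c2) * T a a u = 0 := by
              linear_combination 3 * c3 * k1 - c2 * k2 + 2 * T a b u * hd3
            rw [(mul_eq_zero.1 this).resolve_left hd2]
            ring
          · obtain ⟨v, hv⟩ := hne 0 1 (Or.inr one_ne_zero)
            exfalso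
            apply hv
            have k1 := h1 v
            have k2 := h2 v
            have : (c2 ^ 2 - 3 * c1 * c3) * T b b v = 0 := by
              linear_combination c2 * k1 - c1 * k2 - T a a v * hd1
            rw [(mul_eq_zero.1 this).resolve_left hd3]
            ring
        · have hd2 : c1 ^ 2 - 3 * c0 * c2 ≠ 0 := fun h => hd1 (by linear_combination -h)
          -- `α = ((c2² - 3c1c3)/(c1² - 3c0c2)) γ`, `2β = -((3c0 α + c2 γ)/c1)`
          obtain ⟨s, t, hst, hq⟩ := exists_quad_zero ((c2 ^ 2 - 3 * c1 * c3) / (c1 ^ 2 - 3 * c0 * c2))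
            (-(3 * c0 * ((c2 ^ 2 - 3 * c1 * c3) / (c1 ^ 2 - 3 * c0 * c2)) + c2) / c1) (1 : k)
          refine ⟨s, t, hst, fun u => ?_⟩
          have k1 := h1 u
          have k2 := h2 u
          have hα : T a a u = (c2 ^ 2 - 3 * c1 * c3) / (c1 ^ 2 - 3 * c0 * c2) * T b b u := by
            rw [div_mul_eq_mul_div, eq_div_iff hd2]
            linear_combination c1 * k2 - c2 * k1
          have hβ : 2 * T a b u =
              (-(3 * c0 * ((c2 ^ 2 - 3 * c1 * c3) / (c1 ^ 2 - 3 * c0 * c2)) + c2) / c1) * T b b u := by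
            rw [div_mul_eq_mul_div, eq_div_iff hc1]
            linear_combination k1 - 3 * c0 * hα
          linear_combination s ^ 2 * hα + s * t * hβ + T b b u * hq
      obtain ⟨u, hu⟩ := hne s t hst
      exact hu (hq u)

/-- Frames of lines are nonsingular points. -/
theorem ns [IsAlgClosed k] [CharZero k] (hT : IsSym3 T) (hsm : SmoothOn T ⊤)
    {p : (Fin 5 → k) × (Fin 5 → k)} (hp : p ∈ FR T) : NS (eqs T) (xc p) := by
  refine ⟨(eval_eqs T p).2 hp.2, ?_⟩
  rw [Fintype.linearIndependent_iff]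
  intro c hc
  have key : ∀ l, ∑ i, c i * MvPolynomial.eval (xc p) (MvPolynomial.pderiv l (eqs T i)) = 0 := by
    intro l
    have := congrFun hc l
    simpa using this
  have s1 : ∀ u v w, T u v w = T v w u := hT.rot
  have s2 : ∀ u v w, T u v w = T u w v := hT.s23
  -- the two relations
  have r1 : ∀ j : Fin 5, 3 * c 0 * T p.1 p.1 (Pi.single j 1) + 2 * c 1 * T p.1 p.2 (Pi.single j 1) +
      c 2 * T p.2 p.2 (Pi.single j 1) = 0 := by
    intro j
    have h := key (Fin.castAdd 5 j)
    simp only [Fin.sum_univ_four, eqs, Matrix.cons_val, pderiv_pT, map_add, eval_pT, pd_AA, pd_BA, eval_Av,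
      eval_Bv, map_zero, LinearMap.zero_apply, add_zero, zero_add] at h
    rw [s1 (Pi.single j 1) p.1 p.1, s2 p.1 (Pi.single j 1) p.1, s1 (Pi.single j 1) p.1 p.2,
      s2 p.1 (Pi.single j 1) p.2, s1 (Pi.single j 1) p.2 p.2] at h
    linear_combination h
  have r2 : ∀ j : Fin 5, c 1 * T p.1 p.1 (Pi.single j 1) + 2 * c 2 * T p.1 p.2 (Pi.single j 1) +
      3 * c 3 * T p.2 p.2 (Pi.single j 1) = 0 := by
    intro j
    have h := key (Fin.natAdd 5 j)
    simp only [Fin.sum_univ_four, eqs, Matrix.cons_val, pderiv_pT, map_add, eval_pT, pd_AB, pd_BB, eval_Av,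
      eval_Bv, map_zero, LinearMap.zero_apply, add_zero, zero_add] at h
    rw [s1 (Pi.single j 1) p.2 p.2, s2 p.2 (Pi.single j 1) p.2, s2 p.1 (Pi.single j 1) p.2] at h
    linear_combination h
  have ext : ∀ (φ : (Fin 5 → k) →ₗ[k] k), (∀ j, φ (Pi.single j 1) = 0) → ∀ u, φ u = 0 := by
    intro φ hφ u
    have : φ = 0 := LinearMap.pi_ext' fun j => LinearMap.ext_ring (by simpa using hφ j)
    rw [this]; rfl
  have h := no_relation hT hsm (a := p.1) (b := p.2) hp (c0 := c 0) (c1 := c 1) (c2 := c 2) (c3 := c 3)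
    (fun u => by
      have := ext ((3 * c 0) • T p.1 p.1 + (2 * c 1) • T p.1 p.2 + c 2 • T p.2 p.2) (fun j => by
        simpa using r1 j) u
      simpa using this)
    (fun u => by
      have := ext (c 1 • T p.1 p.1 + (2 * c 2) • T p.1 p.2 + (3 * c 3) • T p.2 p.2) (fun j => by
        simpa using r2 j) u
      simpa using this)
  intro i
  fin_cases i
  exacts [h.1, h.2.1, h.2.2.1, h.2.2.2]

end K714.Frames
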