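import Groth.Agent.Fano.K714.Five

/-!
# The variety of lines of a smooth cubic threefold is connected

`fano_conn`: `V` five-dimensional, `T` the trilinear form of a smooth cubic threefold.  If the lines are divided into two
classes, both closed conditions, then one of the classes is empty.
-/

set_option autoImplicit false

universe u

namespace K714.FanoConn

open K656.Trilin Module K714.Surf K714.SurfGeo K714.PlaneFac K714.TypeConst K714.Bertini K714.Five
  LefPen Groth.Agent.Lefpen.H703.ZOpen Groth.Agent.Lefpen.H703.Elim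

variable {k : Type u} [Field k] [IsAlgClosed k] [CharZero k]
variable {V : Type u} [AddCommGroup V] [Module k V] [FiniteDimensional k V]
variable {T : V →ₗ[k] V →ₗ[k] V →ₗ[k] k}

omit [IsAlgClosed k] [CharZero k] in
theorem pf_apply {X : Type u} [AddCommGroup X] [Module k X] {φ : X → Dual k V} {ψ : X → V}
    (hφ : IsPolyMap k φ) (hψ : IsPolyMap k ψ) : IsPolyFun k (fun x => φ x (ψ x)) := by
  let b := finBasis k V
  have h : (fun x => φ x (ψ x)) = fun x => ∑ i, (Dual.eval k V (b i)) (φ x) * b.coord i (ψ x) := by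
    funext x
    conv_lhs => rw [← b.sum_repr (ψ x), map_sum]
    refine Finset.sum_congr rfl fun i _ => ?_
    rw [map_smul, smul_eq_mul, Dual.eval_apply, Basis.coord_apply, mul_comm]
  rw [h]
  exact pf_sum _ fun i _ => pf_mul (hφ _) (hψ _)

omit [CharZero k] in
/-- Hyperplanes with smooth section form an open set. -/
theorem isZOpen_smooth (T : V →ₗ[k] V →ₗ[k] V →ₗ[k] k) :
    IsZOpen k {ξ : Dual k V | ξ ≠ 0 ∧ SmoothOn T (LinearMap.ker ξ)} := by
  let b := finBasis k V
  let O : Set (V × Dual k V) := {x | x.2 x.1 ≠ 0 ∨ T x.1 x.1 x.1 ≠ 0 ∨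
    ∃ q : Fin (finrank k V) × Fin (finrank k V), T x.1 x.1 (b q.1) * x.2 (b q.2) -
      T x.1 x.1 (b q.2) * x.2 (b q.1) ≠ 0}
  have c1 : IsPolyMap k (fun x : V × Dual k V => x.1) := isPolyMap_fst
  have c2 : IsPolyMap k (fun x : V × Dual k V => x.2) := isPolyMap_snd
  have hO : IsZOpen k O := by
    refine zo_union (isZOpen_basic (pf_apply c2 c1)) (zo_union (isZOpen_basic (pf_tri T c1 c1 c1))
      (isZOpen_compl_zeros fun q : Fin (finrank k V) × Fin (finrank k V) => ?_))
    exact pf_sub (pf_mul (pf_tri T c1 c1 (isPolyMap_const _)) (pf_apply c2 (isPolyMap_const _)))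
      (pf_mul (pf_tri T c1 c1 (isPolyMap_const _)) (pf_apply c2 (isPolyMap_const _)))
  have hE := isZOpen_forall_ne_zero (k := k) (E := V) (V := Dual k V) hO (by
    rintro v ξ c hc (h | h | ⟨q, h⟩)
    · left
      simp only [map_smul, smul_eq_mul] at h ⊢
      exact mul_ne_zero hc h
    · right; left
      simp only [map_smul, LinearMap.smul_apply, smul_eq_mul] at h ⊢
      exact mul_ne_zero hc (mul_ne_zero hc (mul_ne_zero hc h))
    · right; right
      refine ⟨q, ?_⟩
      simp only [map_smul, LinearMap.smul_apply, smul_eq_mul] at h ⊢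
      intro h0
      apply h
      have : (c * c) * (T v v (b q.1) * ξ (b q.2) - T v v (b q.2) * ξ (b q.1)) = 0 := by
        linear_combination h0
      exact (mul_eq_zero.1 this).resolve_left (mul_ne_zero hc hc))
  refine (isZOpen_congr fun ξ => ?_).1 (zo_inter (isZOpen_ne_zero (k := k) (E := Dual k V)) hE)
  constructor
  · rintro ⟨hξ, h⟩
    refine ⟨hξ, ?_⟩
    intro v hv hv0 hvv
    rcases h v hv0 with h | h | ⟨q, h⟩
    · exact absurd hv h
    · exact absurd hvv h
    · by_contra hcon
      push Not at hcon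
      apply h
      -- `T v v` is a multiple of `ξ`
      obtain ⟨w0, hw0⟩ : ∃ w, ξ w ≠ 0 := by
        by_contra hcon'
        push Not at hcon'
        exact hξ (LinearMap.ext hcon')
      have hcT : ∀ w, T v v w * ξ w0 = T v v w0 * ξ w := by
        intro w
        have h1 : w - (ξ w / ξ w0) • w0 ∈ LinearMap.ker ξ := by
          rw [LinearMap.mem_ker, map_sub, map_smul, smul_eq_mul]
          field_simp
          ring
        have h2 := hcon _ h1
        rw [map_sub, map_smul, smul_eq_mul, sub_eq_zero] at h2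
        rw [h2]
        field_simp
      apply mul_left_cancel₀ hw0
      have h1 := hcT (b q.1)
      have h2 := hcT (b q.2)
      simp only
      linear_combination (ξ (b q.2)) * h1 - (ξ (b q.1)) * h2
  · rintro ⟨hξ, h⟩
    refine ⟨hξ, fun v hv0 => ?_⟩
    by_contra hcon
    simp only [Set.mem_ofPred_eq, O, not_or, not_not, not_exists] at hcon
    obtain ⟨h1, h2, h3⟩ := hcon
    obtain ⟨w, hw, hne⟩ := h v h1 hv0 h2
    apply hne
    -- all minors vanish
    have h4 : ∀ i j, T v v (b i) * ξ (b j) = T v v (b j) * ξ (b i) := fun i j =>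
      sub_eq_zero.1 (h3 (i, j))
    have h5 : ∀ u w, T v v u * ξ w = T v v w * ξ u := by
      intro u w
      have e1 : ∀ j, T v v u * ξ (b j) = T v v (b j) * ξ u := by
        intro j
        conv_lhs => rw [← b.sum_repr u]
        conv_rhs => rw [← b.sum_repr u]
        simp only [map_sum, map_smul, smul_eq_mul, Finset.sum_mul, Finset.mul_sum]
        refine Finset.sum_congr rfl fun i _ => ?_
        linear_combination (b.repr u i) * h4 i j
      conv_lhs => rw [← b.sum_repr w]
      conv_rhs => rw [← b.sum_repr w]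
      simp only [map_sum, map_smul, smul_eq_mul, Finset.sum_mul, Finset.mul_sum]
      refine Finset.sum_congr rfl fun i _ => ?_
      linear_combination (b.repr w i) * e1 i
    obtain ⟨w0, hw0⟩ : ∃ w, ξ w ≠ 0 := by
      by_contra hcon'
      push Not at hcon'
      exact hξ (LinearMap.ext hcon')
    have h6 := h5 w w0
    rw [LinearMap.mem_ker.1 hw, mul_zero] at h6
    exact (mul_eq_zero.1 h6).resolve_right hw0

omit [CharZero k] in
/-- Hyperplanes containing no line of the closed class `χ` form an open set. -/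
theorem isZOpen_no_line {χ : Submodule k V → Prop} (hχ : ClosedL χ) :
    IsZOpen k {ξ : Dual k V | ∀ U : Submodule k V, finrank k ↥U = 2 → χ U → ¬ U ≤ LinearMap.ker ξ} := by
  let b := finBasis k V
  -- first step
  let N : Set (V × Dual k V) := {x | x.1 ≠ 0 ∧ ∀ U : Submodule k V, finrank k ↥U = 2 → χ U →
    x.1 ∈ U → ¬ U ≤ LinearMap.ker x.2}
  have hN : IsZOpen k N := by
    refine isZOpen_of_local ?_
    rintro ⟨a, ξ⟩ ⟨ha, haξ⟩
    simp only at ha haξ
    obtain ⟨i, hi⟩ : ∃ i, b.coord i a ≠ 0 := by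
      by_contra hcon
      push Not at hcon
      exact ha ((Basis.forall_coord_eq_zero_iff b).1 hcon)
    let H := LinearMap.ker (b.coord i)
    have hind : ∀ (a' : V) (c : ↥H), b.coord i a' ≠ 0 → c ≠ 0 → LinearIndependent k ![a', (c : V)] := by
      intro a' c ha' hc
      rw [LinearIndependent.pair_iff]
      intro s t hst
      have h1 := congrArg (b.coord i) hst
      rw [map_add, map_smul, map_smul, LinearMap.mem_ker.1 c.2, smul_zero, add_zero, map_zero,
        smul_eq_mul] at h1
      have hs : s = 0 := (mul_eq_zero.1 h1).resolve_right ha'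
      rw [hs, zero_smul, zero_add] at hst
      refine ⟨hs, (smul_eq_zero.1 hst).resolve_right fun h => hc (Subtype.ext h)⟩
    let O : Set (↥H × (V × Dual k V)) := {x | x.1 ≠ 0 ∧ b.coord i x.2.1 ≠ 0 ∧
      (¬ χ (Submodule.span k {x.2.1, (x.1 : V)}) ∨ x.2.2 x.2.1 ≠ 0 ∨ x.2.2 (x.1 : V) ≠ 0)}
    have p1 : IsPolyMap k (fun x : ↥H × (V × Dual k V) => (x.1 : V)) :=
      isPolyMap_linear (H.subtype.comp (LinearMap.fst k ↥H (V × Dual k V)))
    have p2 : IsPolyMap k (fun x : ↥H × (V × Dual k V) => x.2.1) :=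
      isPolyMap_linear ((LinearMap.fst k V (Dual k V)).comp (LinearMap.snd k ↥H (V × Dual k V)))
    have p3 : IsPolyMap k (fun x : ↥H × (V × Dual k V) => x.2.2) :=
      isPolyMap_linear ((LinearMap.snd k V (Dual k V)).comp (LinearMap.snd k ↥H (V × Dual k V)))
    have hO : IsZOpen k O := by
      have o1 : IsZOpen k {x : ↥H × (V × Dual k V) | x.1 ≠ 0} :=
        zo_preimage (isZOpen_ne_zero (k := k) (E := ↥H)) isPolyMap_fst
      have o2 : IsZOpen k {x : ↥H × (V × Dual k V) | b.coord i x.2.1 ≠ 0} := isZOpen_basic (p2 _)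
      have o3 := zo_preimage hχ (pm_prodMk p2 p1)
      have o4 : IsZOpen k {x : ↥H × (V × Dual k V) | x.2.2 x.2.1 ≠ 0} := isZOpen_basic (pf_apply p3 p2)
      have o5 : IsZOpen k {x : ↥H × (V × Dual k V) | x.2.2 (x.1 : V) ≠ 0} :=
        isZOpen_basic (pf_apply p3 p1)
      refine (isZOpen_congr fun x => ?_).1 (zo_inter (zo_inter o1 o2) (zo_union o3 (zo_union o4 o5)))
      simp only [Set.mem_inter_iff, Set.mem_union, Set.mem_preimage, Set.mem_ofPred_eq, O]
      constructor
      · rintro ⟨⟨h1, h2⟩, h3⟩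
        exact ⟨h1, h2, h3.imp (fun h => h.2) id⟩
      · rintro ⟨h1, h2, h3⟩
        exact ⟨⟨h1, h2⟩, h3.imp (fun h => ⟨hind _ _ h2 h1, h⟩) id⟩
    have hE := isZOpen_forall_ne_zero (k := k) (E := ↥H) (V := V × Dual k V) hO (by
      rintro c ⟨a', ξ'⟩ r hr ⟨h1, h2, h3⟩
      refine ⟨smul_ne_zero hr h1, h2, ?_⟩
      have hsp : Submodule.span k {a', ((r • c : ↥H) : V)} = Submodule.span k {a', (c : V)} := by
        apply le_antisymm
        · rw [Submodule.span_le]
          rintro w (rfl | hw)
          · exact Submodule.subset_span (by simp)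
          · rw [Set.mem_singleton_iff.1 hw]
            exact Submodule.smul_mem _ _ (Submodule.subset_span (by simp))
        · rw [Submodule.span_le]
          rintro w (rfl | hw)
          · exact Submodule.subset_span (by simp)
          · rw [Set.mem_singleton_iff.1 hw]
            have : (c : V) = r⁻¹ • ((r • c : ↥H) : V) := by
              rw [Submodule.coe_smul, smul_smul, inv_mul_cancel₀ hr, one_smul]
            rw [this]
            exact Submodule.smul_mem _ _ (Submodule.subset_span (by simp))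
      rcases h3 with h3 | h3 | h3
      · left; simp only at h3 ⊢; rw [hsp]; exact h3
      · exact Or.inr (Or.inl h3)
      · right; right
        simp only [Submodule.coe_smul, map_smul, smul_eq_mul] at h3 ⊢
        exact mul_ne_zero hr h3)
    have o2 : IsZOpen k {x : V × Dual k V | b.coord i x.1 ≠ 0} := isZOpen_basic (isPolyMap_fst _)
    refine ⟨_, zo_inter o2 hE, ⟨hi, ?_⟩, ?_⟩
    · intro c hc
      refine ⟨hc, hi, ?_⟩
      simp only
      by_contra hcon
      push Not at hcon
      obtain ⟨h1, h2, h3⟩ := hcon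
      have hlin := hind a c hi hc
      have hfin := finrank_span_eq_card hlin
      rw [Matrix.range_cons, Matrix.range_cons, Matrix.range_empty, Set.union_empty,
        Set.singleton_union, Fintype.card_fin] at hfin
      refine haξ _ hfin h1 (Submodule.subset_span (by simp)) ?_
      rw [Submodule.span_le]
      rintro w (rfl | hw)
      · exact h2
      · rw [Set.mem_singleton_iff.1 hw]; exact h3
    · rintro ⟨a', ξ'⟩ ⟨hi', h⟩
      refine ⟨?_, ?_⟩
      · rintro h0
        simp only at h0
        apply hi'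
        simp [h0]
      · intro U hU hχU haU hUξ
        simp only at hUξ haU
        -- intersect `U` with `H`
        have hm : U ⊓ H ≠ ⊥ := by
          intro h0
          have e1 := Submodule.finrank_sup_add_finrank_inf_eq U H
          have e2 := Submodule.finrank_le (U ⊔ H)
          have e3 := LinearMap.finrank_range_add_finrank_ker (b.coord i)
          have e4 : finrank k ↥(LinearMap.range (b.coord i)) ≤ 1 := by
            have := Submodule.finrank_le (LinearMap.range (b.coord i))
            rwa [finrank_self] at this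
          rw [h0, finrank_bot, hU] at e1
          change finrank k ↥(LinearMap.range (b.coord i)) + finrank k ↥H = _ at e3
          omega
        obtain ⟨c, ⟨hcU, hcH⟩, hc0⟩ := Submodule.exists_mem_ne_zero_of_ne_bot hm
        obtain ⟨-, h2, h3⟩ := h ⟨c, hcH⟩ (fun h0 => hc0 (congrArg Subtype.val h0))
        simp only at h2 h3
        have hlin := hind a' ⟨c, hcH⟩ h2 (fun h0 => hc0 (congrArg Subtype.val h0))
        have hfin := finrank_span_eq_card hlin
        rw [Matrix.range_cons, Matrix.range_cons, Matrix.range_empty, Set.union_empty,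
          Set.singleton_union, Fintype.card_fin] at hfin
        have hUs : Submodule.span k {a', c} = U := by
          refine Submodule.eq_of_le_of_finrank_eq ?_ (by rw [hU]; exact hfin)
          rw [Submodule.span_le]
          rintro w (rfl | hw)
          · exact haU
          · rw [Set.mem_singleton_iff.1 hw]; exact hcU
        rcases h3 with h3 | h3 | h3
        · exact h3 (by rw [hUs]; exact hχU)
        · exact h3 (hUξ haU)
        · exact h3 (hUξ hcU)
  have hE := isZOpen_forall_ne_zero (k := k) (E := V) (V := Dual k V) hN (by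
    rintro a ξ c hc ⟨h1, h2⟩
    refine ⟨smul_ne_zero hc h1, fun U hU hχU haU => h2 U hU hχU ?_⟩
    have := U.smul_mem c⁻¹ haU
    simp only at this
    rwa [smul_smul, inv_mul_cancel₀ hc, one_smul] at this)
  refine (isZOpen_congr fun ξ => ?_).1 hE
  constructor
  · intro h U hU hχU
    have hU0 : U ≠ ⊥ := by
      rintro rfl
      rw [finrank_bot] at hU
      exact absurd hU (by norm_num)
    obtain ⟨a, haU, ha0⟩ := Submodule.exists_mem_ne_zero_of_ne_bot hU0
    exact (h a ha0).2 U hU hχU haU
  · intro h a ha0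
    exact ⟨ha0, fun U hU hχU _ => h U hU hχU⟩

/-- **Connectedness of the variety of lines of a smooth cubic threefold.** -/
theorem fano_conn (hT : IsSym3 T) (hV : finrank k V = 5) (hsm : SmoothOn T ⊤)
    {χ χ' : Submodule k V → Prop} (hχ : ClosedL χ) (hχ' : ClosedL χ')
    (hline : ∀ U : Submodule k V, finrank k ↥U = 2 → χ U ∨ χ' U → IsLine T U)
    (hcov : ∀ U : Submodule k V, IsLine T U → χ U ∨ χ' U)
    (hdis : ∀ U : Submodule k V, IsLine T U → χ U → χ' U → False)
    {U₁ U₂ : Submodule k V} (h₁ : finrank k ↥U₁ = 2) (h₂ : finrank k ↥U₂ = 2) (hU₁ : χ U₁)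
    (hU₂ : χ' U₂) : False := by
  have hinf : Infinite k := IsAlgClosed.instInfinite
  have hfk : ∀ {ξ : Dual k V}, ξ ≠ 0 → finrank k ↥(LinearMap.ker ξ) = 4 := by
    intro ξ hξ
    have := LinearMap.finrank_range_add_finrank_ker ξ
    have hr : finrank k ↥(LinearMap.range ξ) = 1 := by
      rw [LinearMap.range_eq_top.mpr (LinearMap.surjective hξ), finrank_top, finrank_self]
    omega
  -- colours are constant on smooth hyperplane sections
  have hmono : ∀ {ξ : Dual k V}, ξ ≠ 0 → SmoothOn T (LinearMap.ker ξ) → ∀ {x y : Submodule k V},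
      IsLine T x → IsLine T y → x ≤ LinearMap.ker ξ → y ≤ LinearMap.ker ξ → (χ x ↔ χ y) := by
    intro ξ hξ hs x y hx hy hxW hyW
    refine mono hT (hfk hξ) hs (five hT (hfk hξ) hs) χ ?_ ?_ hx hy hxW hyW
    · intro x y z y' z' hx hy hz hy' hz' _ _ _ _ _ h h' h1 h2
      exact type_const hT hV hsm hχ hχ' hdis hcov hline hx hy hz hy' hz' h h' h1 h2
    · intro x y z y' z' hx hy hz hy' hz' _ _ _ _ _ h h' h1 h2
      have h3 := type_const hT hV hsm hχ' hχ (fun U hU a b => hdis U hU b a)
        (fun U hU => (hcov U hU).symm) (fun U hU h => hline U hU h.symm) hx hy hz hy' hz' h h'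
        ((hcov y hy).resolve_left h1) ((hcov z hz).resolve_left h2)
      exact ⟨fun h4 => hdis y' hy' h4 h3.1, fun h4 => hdis z' hz' h4 h3.2⟩
  obtain ⟨ξ₁, hξ₁, hle₁, hs₁⟩ := exists_smooth_section hT hV hsm h₁
  obtain ⟨ξ₂, hξ₂, hle₂, hs₂⟩ := exists_smooth_section hT hV hsm h₂
  have hl₁ := hline U₁ h₁ (Or.inl hU₁)
  have hl₂ := hline U₂ h₂ (Or.inr hU₂)
  have hOA := zo_inter (isZOpen_smooth T) (isZOpen_no_line hχ)
  have hOB := zo_inter (isZOpen_smooth T) (isZOpen_no_line hχ')
  obtain ⟨f, hf, hf2, hfO⟩ := hOA ξ₂ ⟨⟨hξ₂, hs₂⟩, fun U hU hχU hUξ => by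
    have h3 := hline U hU (Or.inl hχU)
    exact hdis U₂ hl₂ ((hmono hξ₂ hs₂ h3 hl₂ hUξ hle₂).1 hχU) hU₂⟩
  obtain ⟨g, hg, hg1, hgO⟩ := hOB ξ₁ ⟨⟨hξ₁, hs₁⟩, fun U hU hχU hUξ => by
    have h3 := hline U hU (Or.inr hχU)
    exact hdis U h3 ((hmono hξ₁ hs₁ h3 hl₁ hUξ hle₁).2 hU₁) hχU⟩
  obtain ⟨ξ, hξ⟩ := exists_mul_ne_zero hf hg ⟨ξ₂, hf2⟩ ⟨ξ₁, hg1⟩
  obtain ⟨⟨hξ0, hs⟩, hA⟩ := hfO ξ (left_ne_zero_of_mul hξ)
  obtain ⟨-, hB⟩ := hgO ξ (right_ne_zero_of_mul hξ)
  obtain ⟨U, hU, hUξ⟩ := exists_line T (hfk hξ0)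
  rcases hcov U hU with h | h
  · exact hA U hU.1 h hUξ
  · exact hB U hU.1 h hUξ

end K714.FanoConn
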