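import Groth.Agent.Fano.K714.FrIrr

/-!
# Parametrised conics on a smooth cubic threefold form an irreducible set
-/

set_option autoImplicit false

universe u

namespace K714.ConicIrr

open K656.Trilin Module K714.Surf K714.TypeConst K714.Five K714.Comp K714.Irr K714.FanoConn K714.Frames
  LefPen Groth.Agent.Lefpen.H703.ZOpen

variable {k : Type u} [Field k]

section Hyp

open MvPolynomial

/-- smooth homogeneous polynomials in at least three variables are irreducible -/
theorem irreducible_of_smooth [IsAlgClosed k] {N d : ℕ} (hN : 3 ≤ N) (hd : 0 < d)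
    {f : MvPolynomial (Fin N) k} (hf : f.IsHomogeneous d)
    (hsm : ∀ v : Fin N → k, v ≠ 0 → eval v f = 0 → ∃ i, eval v (pderiv i f) ≠ 0) : Irreducible f := by
  obtain ⟨v, hv0, hv⟩ := K714.Zeros.exists_ne_zero (k := k) (N := N) (ι := Fin 1)
    (by rw [Fintype.card_fin]; omega) ![d] (by intro i; fin_cases i; exact hd) ![f]
    (by intro i; fin_cases i; exact hf)
  have hv1 : eval v f = 0 := hv 0
  have hf0 : f ≠ 0 := by
    rintro rfl
    obtain ⟨i, hi⟩ := hsm v hv0 hv1
    simp at hi
  obtain ⟨h, c, hh, hhc, -⟩ := K714.ConnHyp.exists_factor hf0 hv1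
  obtain ⟨a, b, hab, ha, hb⟩ := K713.HomFactor.exists_isHomogeneous (hhc ▸ hf) (hhc ▸ hf0)
  have ha0 : 0 < a := by
    refine Nat.pos_of_ne_zero ?_
    rintro rfl
    have h1 : h.totalDegree = 0 := Nat.le_zero.mp ha.totalDegree_le
    rw [totalDegree_eq_zero_iff_eq_C] at h1
    apply hh.not_isUnit
    rw [h1]
    refine (IsUnit.mk0 _ ?_).map (C : k →+* MvPolynomial (Fin N) k)
    intro h2
    rw [h2, map_zero] at h1
    exact hh.ne_zero h1
  rcases Nat.eq_zero_or_pos b with hb0 | hb0
  · subst hb0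
    have h1 : c.totalDegree = 0 := Nat.le_zero.mp hb.totalDegree_le
    rw [totalDegree_eq_zero_iff_eq_C] at h1
    have hu : IsUnit c := by
      rw [h1]
      refine (IsUnit.mk0 _ ?_).map (C : k →+* MvPolynomial (Fin N) k)
      intro h2
      rw [h2, map_zero] at h1
      apply hf0
      rw [← hhc, h1, mul_zero]
    rw [← hhc]
    exact (irreducible_mul_isUnit hu).2 hh
  · exfalso
    obtain ⟨w, hw0, hw⟩ := K714.Zeros.exists_ne_zero (k := k) (N := N) (ι := Fin 2)
      (by rw [Fintype.card_fin]; omega) ![a, b] (by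
        intro i; fin_cases i
        · exact ha0
        · exact hb0) ![h, c] (by
        intro i; fin_cases i
        · exact ha
        · exact hb)
    have hw1 : eval w h = 0 := hw 0
    have hw2 : eval w c = 0 := hw 1
    obtain ⟨i, hi⟩ := hsm w hw0 (by rw [← hhc, map_mul, hw1, zero_mul])
    apply hi
    rw [← hhc, Derivation.leibniz, smul_eq_mul, smul_eq_mul, map_add, map_mul, map_mul, hw1, hw2]
    simp

end Hyp

variable {T : (Fin 5 → k) →ₗ[k] (Fin 5 → k) →ₗ[k] (Fin 5 → k) →ₗ[k] k}

/-- The affine cone is irreducible. -/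
theorem hyp_irr [IsAlgClosed k] [CharZero k] (hT : IsSym3 T) (hsm : SmoothOn T ⊤) :
    Irr k {u : Fin 5 → k | T u u u = 0} := by
  have hinf : Infinite k := IsAlgClosed.instInfinite
  obtain ⟨F, hF, hFe⟩ := exists_poly T (LinearMap.id (M := Fin 5 → k))
  have hsmF := smooth_poly hT (Φ := (LinearMap.id (R := k) (M := Fin 5 → k))) Function.injective_id
    (by rw [LinearMap.range_id]; exact hsm) hF hFe
  have hirr := irreducible_of_smooth (by norm_num) (by norm_num) hF hsmF
  have hFe' : ∀ v, MvPolynomial.eval v F = T v v v := hFe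
  refine ⟨⟨0, by simp⟩, ?_⟩
  rintro O O' hO hO' ⟨u, hu, huO⟩ ⟨v, hv, hvO⟩
  simp only [Set.mem_ofPred_eq] at hu hv
  obtain ⟨w, hw0, hw⟩ : ∃ w : Fin 5 → k, w ≠ 0 ∧ T w w w = 0 := by
    obtain ⟨w, hw0, hw⟩ := K714.Zeros.exists_ne_zero (k := k) (N := 5) (ι := Fin 1)
      (by simp) ![3] (by intro i; fin_cases i; norm_num) ![F]
      (by intro i; fin_cases i; exact hF)
    exact ⟨w, hw0, by rw [← hFe']; exact hw 0⟩
  -- replace the points by nonzero ones
  have key : ∀ (O : Set (Fin 5 → k)), IsZOpen k O → ∀ u ∈ O, T u u u = 0 →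
      ∃ u' ∈ O, u' ≠ 0 ∧ T u' u' u' = 0 := by
    intro O hO u hu hTu
    by_cases h0 : u = 0
    · subst h0
      have hm : IsPolyMap k (fun t : k => t • w) := isPolyMap_linear (LinearMap.toSpanSingleton k _ w)
      have ho : IsZOpen k {t : k | t ≠ 0} := isZOpen_basic (isPolyFun_linear' (LinearMap.id (M := k)))
      obtain ⟨t, -, ht1, ht2⟩ := (irr_univ (k := k) (V := k)).2 _ _ (zo_preimage hO hm) ho
        ⟨0, trivial, by simpa using hu⟩ ⟨1, trivial, one_ne_zero⟩
      refine ⟨t • w, ht1, smul_ne_zero ht2 hw0, ?_⟩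
      simp [hw]
    · exact ⟨u, hu, h0, hTu⟩
  obtain ⟨u', hu'O, hu'0, hu'⟩ := key O hO u huO hu
  obtain ⟨v', hv'O, hv'0, hv'⟩ := key O' hO' v hvO hv
  obtain ⟨f, hf, hfu, hfO⟩ := hO u' hu'O
  obtain ⟨g, hg, hgv, hgO⟩ := hO' v' hv'O
  obtain ⟨p, hp⟩ := exists_eval (LinearEquiv.refl k (Fin 5 → k)) hf
  obtain ⟨q, hq⟩ := exists_eval (LinearEquiv.refl k (Fin 5 → k)) hg
  simp only [LinearEquiv.refl_apply] at hp hq
  obtain ⟨x, -, hx, hxp, hxq⟩ := K714.ConnHyp.exists_zero_of_prime hirr (w := u') (v := v')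
    (by rw [hFe', hu']) (by rw [hFe', hv']) (by rw [← hp]; exact hfu) (by rw [← hq]; exact hgv) hu'0
  exact ⟨x, by rw [Set.mem_ofPred_eq, ← hFe']; exact hx, hfO x (by rw [hp]; exact hxp),
    hgO x (by rw [hq]; exact hxq)⟩

/-- A polynomial function with values zero has zero coefficients. -/
theorem coeffs_zero [Infinite k] {n : ℕ} (a : Fin n → k) (h : ∀ s : k, ∑ i, a i * s ^ (i : ℕ) = 0) (i : Fin n) :
    a i = 0 := by
  have hp : (∑ i, Polynomial.C (a i) * Polynomial.X ^ (i : ℕ) : Polynomial k) = 0 := by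
    apply Polynomial.funext
    intro s
    rw [Polynomial.eval_finset_sum, Polynomial.eval_zero, ← h s]
    exact Finset.sum_congr rfl fun i _ => by simp
  have hc := congrArg (fun p => Polynomial.coeff p (i : ℕ)) hp
  simp only [Polynomial.finset_sum_coeff, Polynomial.coeff_C_mul_X_pow, Polynomial.coeff_zero] at hc
  rw [Finset.sum_eq_single i] at hc
  · simpa using hc
  · intro j _ hj
    rw [if_neg fun h => hj (Fin.ext h.symm)]
  · intro h
    exact absurd (Finset.mem_univ i) h

section Psi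

variable {V : Type u} [AddCommGroup V] [Module k V] {S : V →ₗ[k] V →ₗ[k] V →ₗ[k] k}

/-- The parametrisation of the residual conic by its third intersection points. -/
def psi (S : V →ₗ[k] V →ₗ[k] V →ₗ[k] k) (a b u : V) : Fin 3 → V :=
  ![S u u a • a - S u a a • u, S u u a • b + S u u b • a - (2 * S u a b) • u,
    S u u b • b - S u b b • u]

/-- The points of the parametrised conic with coefficients `c`. -/
def qpt (c : Fin 3 → V) (s t : k) : V := s ^ 2 • c 0 + (s * t) • c 1 + t ^ 2 • c 2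

theorem qpt_psi (hS : IsSym3 S) (a b u : V) (s t : k) :
    qpt (psi S a b u) s t = S u u (s • a + t • b) • (s • a + t • b) -
      S u (s • a + t • b) (s • a + t • b) • u := by
  have h1 : S u b a = S u a b := hS.s23 _ _ _
  simp only [qpt, psi, Matrix.cons_val, map_add, map_smul, LinearMap.add_apply, LinearMap.smul_apply,
    smul_eq_mul, h1]
  module

theorem cube_qpt_psi (hS : IsSym3 S) {a b u : V} (hy : ∀ s t : k, S (s • a + t • b) (s • a + t • b)
    (s • a + t • b) = 0) (hu : S u u u = 0) (s t : k) :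
    S (qpt (psi S a b u) s t) (qpt (psi S a b u) s t) (qpt (psi S a b u) s t) = 0 := by
  rw [qpt_psi hS]
  set y := s • a + t • b with hyd
  have e : S u u y • y - S u y y • u = (S u u y) • y + (-(S u y y)) • u := by module
  rw [e, hS.cube_smul_add_smul, hy s t, hu]
  have h1 : S y y u = S u y y := (hS.rot u y y).symm
  have h2 : S y u u = S u u y := by rw [hS.rot]
  rw [h1, h2]
  ring

/-- The conic system: `f` vanishes on the parametrised conic. -/
def Con (S : V →ₗ[k] V →ₗ[k] V →ₗ[k] k) : Set (Fin 3 → V) :=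
  {c | LinearIndependent k c ∧ ∀ s t : k, S (qpt c s t) (qpt c s t) (qpt c s t) = 0}

/-- the seven equations -/
theorem con_eqs [CharZero k] [Infinite k] (hS : IsSym3 S) {A B C : V}
    (h : ∀ s t : k, S (qpt ![A, B, C] s t) (qpt ![A, B, C] s t) (qpt ![A, B, C] s t) = 0) :
    S A A A = 0 ∧ S A A B = 0 ∧ S A A C + S A B B = 0 ∧ S B B B + 6 * S A B C = 0 ∧
      S B B C + S A C C = 0 ∧ S B C C = 0 ∧ S C C C = 0 := by
  have hexp : ∀ s t : k, s ^ 6 * S A A A + 3 * s ^ 5 * t * S A A B + 3 * s ^ 4 * t ^ 2 * (S A A C + S A B B) +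
      s ^ 3 * t ^ 3 * (S B B B + 6 * S A B C) + 3 * s ^ 2 * t ^ 4 * (S B B C + S A C C) +
      3 * s * t ^ 5 * S B C C + t ^ 6 * S C C C = 0 := by
    intro s t
    have h1 := h s t
    have p1 : S A B A = S A A B := hS.s23 _ _ _
    have p2 : S B A A = S A A B := hS.rot _ _ _
    have p3 : S A C A = S A A C := hS.s23 _ _ _
    have p4 : S C A A = S A A C := hS.rot _ _ _
    have p5 : S B A B = S A B B := hS.s12 _ _ _
    have p6 : S B B A = S A B B := by rw [hS.rot, hS.rot]
    have p7 : S A C B = S A B C := hS.s23 _ _ _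
    have p8 : S B A C = S A B C := hS.s12 _ _ _
    have p9 : S B C A = S A B C := (hS.rot _ _ _).symm
    have p10 : S C A B = S A B C := hS.rot _ _ _
    have p11 : S C B A = S A B C := by rw [hS.s23 C B A, hS.rot]
    have p12 : S B C B = S B B C := hS.s23 _ _ _
    have p13 : S C B B = S B B C := hS.rot _ _ _
    have p14 : S C A C = S A C C := hS.s12 _ _ _
    have p15 : S C C A = S A C C := by rw [hS.rot, hS.rot]
    have p16 : S C B C = S B C C := hS.s12 _ _ _
    have p17 : S C C B = S B C C := by rw [hS.rot, hS.rot]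
    simp only [qpt, Matrix.cons_val, map_add, map_smul, LinearMap.add_apply, LinearMap.smul_apply,
      smul_eq_mul, p1, p2, p3, p4, p5, p6, p7, p8, p9, p10, p11, p12, p13, p14, p15, p16, p17] at h1
    linear_combination h1
  have h3 : (3 : k) ≠ 0 := by norm_num
  have hc := coeffs_zero (n := 7) ![S C C C, 3 * S B C C, 3 * (S B B C + S A C C), S B B B + 6 * S A B C,
    3 * (S A A C + S A B B), 3 * S A A B, S A A A] (by
      intro s
      rw [Fin.sum_univ_seven]
      simp only [Matrix.cons_val, Fin.isValue, Fin.val_zero, Fin.val_one, Fin.val_two]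
      have := hexp s 1
      simp
      linear_combination this)
  have c0 := hc 0
  have c1 := hc 1
  have c2 := hc 2
  have c3 := hc 3
  have c4 := hc 4
  have c5 := hc 5
  have c6 := hc 6
  simp only [Matrix.cons_val, mul_eq_zero, h3, false_or] at c0 c1 c2 c3 c4 c5 c6
  exact ⟨c6, c5, c4, c3, c2, c1, c0⟩

/-- the generic case: `L(A) ≠ 0` -/
theorem eq_psi (hS : IsSym3 S) {A B C : V} (e1 : S A A A = 0) (e2 : S A A B = 0)
    (e3 : S A A C + S A B B = 0) (hp : S A A C ≠ 0) :
    (![A, B, C] : Fin 3 → V) = ((S A A C) ^ 3)⁻¹ • psi S ((S A A C) • B - (2 * S A B C) • A)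
      ((S A A C) • C - (S A C C) • A) A := by
  have p1 : S A B A = S A A B := hS.s23 _ _ _
  have p3 : S A C A = S A A C := hS.s23 _ _ _
  have p7 : S A C B = S A B C := hS.s23 _ _ _
  have e3' : S A B B = - S A A C := by linear_combination e3
  have hp3 : (S A A C) ^ 3 ≠ 0 := pow_ne_zero _ hp
  rw [eq_inv_smul_iff₀ hp3]
  funext i
  fin_cases i
  · simp only [Fin.zero_eta, Pi.smul_apply, psi, Matrix.cons_val, map_sub, map_smul, LinearMap.sub_apply,
      LinearMap.smul_apply, smul_eq_mul, p1, p3, p7, e1, e2, e3']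
    module
  · simp only [Fin.mk_one, Pi.smul_apply, psi, Matrix.cons_val, map_sub, map_smul, LinearMap.sub_apply,
      LinearMap.smul_apply, smul_eq_mul, p1, p3, p7, e1, e2, e3']
    module
  · simp only [Fin.reduceFinMk, Pi.smul_apply, psi, Matrix.cons_val, map_sub, map_smul, LinearMap.sub_apply,
      LinearMap.smul_apply, smul_eq_mul, p1, p3, p7, e1, e2, e3']
    module

end Psi

end K714.ConicIrr
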