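import Groth.Agent.Fano.K714.ConicIrr
import Groth.Agent.S11854

/-!
# Parametrised conics on a smooth cubic threefold form an irreducible set (end)
-/

set_option autoImplicit false
set_option linter.unusedSimpArgs false

universe u

namespace K714.ConicIrr

open K656.Trilin Module K714.Surf K714.TypeConst K714.Five K714.Comp K714.Irr K714.FanoConn K714.Frames
  LefPen Groth.Agent.Lefpen.H703.ZOpen

variable {k : Type u} [Field k]

section Gen

variable {V : Type u} [AddCommGroup V] [Module k V] {S : V →ₗ[k] V →ₗ[k] V →ₗ[k] k}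

theorem psi_swap (hS : IsSym3 S) (a b u : V) : psi S b a u = ![psi S a b u 2, psi S a b u 1, psi S a b u 0] := by
  funext i
  fin_cases i
  · rfl
  · simp only [psi, Fin.mk_one, Matrix.cons_val]
    rw [hS.s23 u b a]
    module
  · rfl

theorem psi_shear (hS : IsSym3 S) (a b u : V) : psi S (a - b) b u =
    ![psi S a b u 0 - psi S a b u 1 + psi S a b u 2, psi S a b u 1 - (2 : k) • psi S a b u 2,
      psi S a b u 2] := by
  have h1 : S u b a = S u a b := hS.s23 _ _ _
  funext i
  fin_cases i
  · simp only [psi, Fin.zero_eta, Matrix.cons_val, map_sub, LinearMap.sub_apply, h1]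
    module
  · simp only [psi, Fin.mk_one, Matrix.cons_val, map_sub, LinearMap.sub_apply, h1]
    module
  · rfl

theorem lin3 {A B C : V} : LinearIndependent k ![A, B, C] ↔
    ∀ x y z : k, x • A + y • B + z • C = 0 → x = 0 ∧ y = 0 ∧ z = 0 := by
  rw [Fintype.linearIndependent_iff]
  constructor
  · intro h x y z h0
    have := h ![x, y, z] (by rw [Fin.sum_univ_three]; exact h0)
    exact ⟨this 0, this 1, this 2⟩
  · intro h g hg
    rw [Fin.sum_univ_three] at hg
    obtain ⟨h0, h1, h2⟩ := h (g 0) (g 1) (g 2) hg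
    intro i
    fin_cases i
    exacts [h0, h1, h2]

theorem con_swap {A B C : V} (h : ![A, B, C] ∈ Con S) : ![C, B, A] ∈ Con S := by
  refine ⟨?_, fun s t => ?_⟩
  · rw [lin3]
    intro x y z h0
    obtain ⟨h1, h2, h3⟩ := lin3.1 h.1 z y x (by rw [← h0]; abel)
    exact ⟨h3, h2, h1⟩
  · have : qpt ![C, B, A] s t = qpt ![A, B, C] t s := by
      simp only [qpt, Matrix.cons_val]
      module
    rw [this]
    exact h.2 t s

theorem con_shear {A B C : V} (h : ![A, B, C] ∈ Con S) :
    ![A + B + C, B + (2 : k) • C, C] ∈ Con S := by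
  refine ⟨?_, fun s t => ?_⟩
  · rw [lin3]
    intro x y z h0
    obtain ⟨h1, h2, h3⟩ := lin3.1 h.1 x (x + y) (x + 2 * y + z) (by rw [← h0]; module)
    have h4 : y = 0 := by rw [h1, zero_add] at h2; exact h2
    refine ⟨h1, h4, ?_⟩
    rw [h1, h4] at h3
    simpa using h3
  · have : qpt ![A + B + C, B + (2 : k) • C, C] s t = qpt ![A, B, C] s (t + s) := by
      simp only [qpt, Matrix.cons_val]
      module
    rw [this]
    exact h.2 _ _

end Gen

variable {T : (Fin 5 → k) →ₗ[k] (Fin 5 → k) →ₗ[k] (Fin 5 → k) →ₗ[k] k}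

theorem pair_iff {a b : Fin 5 → k} : LinearIndependent k ![a, b] ↔ ∀ s t : k, s • a + t • b = 0 → s = 0 ∧ t = 0 :=
  LinearIndependent.pair_iff

/-- generic case of the surjectivity -/
theorem exists_psi_gen [CharZero k] (hT : IsSym3 T) [Infinite k] {A B C : Fin 5 → k}
    (h : ![A, B, C] ∈ Con T) (hp : T A A C ≠ 0) :
    ∃ (p : (Fin 5 → k) × (Fin 5 → k)) (u : Fin 5 → k) (c : k), p ∈ FR T ∧ T u u u = 0 ∧
      ![A, B, C] = c • psi T p.1 p.2 u := by
  obtain ⟨e1, e2, e3, e4, e5, e6, e7⟩ := con_eqs hT h.2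
  refine ⟨((T A A C) • B - (2 * T A B C) • A, (T A A C) • C - (T A C C) • A), A, ((T A A C) ^ 3)⁻¹, ?_, e1,
    eq_psi hT e1 e2 e3 hp⟩
  have p1 : T A B A = T A A B := hT.s23 _ _ _
  have p2 : T B A A = T A A B := hT.rot _ _ _
  have p3 : T A C A = T A A C := hT.s23 _ _ _
  have p4 : T C A A = T A A C := hT.rot _ _ _
  have p5 : T B A B = T A B B := hT.s12 _ _ _
  have p6 : T B B A = T A B B := by rw [hT.rot, hT.rot]
  have p7 : T A C B = T A B C := hT.s23 _ _ _
  have p8 : T B A C = T A B C := hT.s12 _ _ _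
  have p9 : T B C A = T A B C := (hT.rot _ _ _).symm
  have p10 : T C A B = T A B C := hT.rot _ _ _
  have p11 : T C B A = T A B C := by rw [hT.s23 C B A, hT.rot]
  have p12 : T B C B = T B B C := hT.s23 _ _ _
  have p13 : T C B B = T B B C := hT.rot _ _ _
  have p14 : T C A C = T A C C := hT.s12 _ _ _
  have p15 : T C C A = T A C C := by rw [hT.rot, hT.rot]
  have p16 : T C B C = T B C C := hT.s12 _ _ _
  have p17 : T C C B = T B C C := by rw [hT.rot, hT.rot]
  have e3' : T A B B = - T A A C := by linear_combination e3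
  have e4' : T B B B = - (6 * T A B C) := by linear_combination e4
  have e5' : T B B C = - T A C C := by linear_combination e5
  refine ⟨?_, ?_, ?_, ?_, ?_⟩
  · simp only
    rw [pair_iff]
    intro s t h0
    obtain ⟨h1, h2, h3⟩ := lin3.1 h.1 (-(s * (2 * T A B C)) - t * T A C C) (s * T A A C) (t * T A A C)
      (by rw [← h0]; module)
    exact ⟨(mul_eq_zero.1 h2).resolve_right hp, (mul_eq_zero.1 h3).resolve_right hp⟩
  all_goals
    simp only [map_sub, map_smul, LinearMap.sub_apply, LinearMap.smul_apply, smul_eq_mul, p1, p2, p3, p4, p5,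
      p6, p7, p8, p9, p10, p11, p12, p13, p14, p15, p16, p17, e1, e2, e3', e4', e5', e6, e7]
    ring

theorem exists_psi [IsAlgClosed k] [CharZero k] (hT : IsSym3 T) (hsm : SmoothOn T ⊤) {c : Fin 3 → Fin 5 → k}
    (h : c ∈ Con T) :
    ∃ (p : (Fin 5 → k) × (Fin 5 → k)) (u : Fin 5 → k) (r : k), p ∈ FR T ∧ T u u u = 0 ∧
      c = r • psi T p.1 p.2 u := by
  have hinf : Infinite k := IsAlgClosed.instInfinite
  obtain ⟨A, B, C, rfl⟩ : ∃ A B C, c = ![A, B, C] := ⟨c 0, c 1, c 2, by
    funext i; fin_cases i <;> rfl⟩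
  by_cases hp : T A A C = 0
  · by_cases hr : T A C C = 0
    · -- shear
      obtain ⟨e1, e2, e3, e4, e5, e6, e7⟩ := con_eqs hT h.2
      have hq : T A B C ≠ 0 := by
        intro hq
        have hli := lin3.1 h.1
        let P : Submodule k (Fin 5 → k) := Submodule.span k (Set.range ![A, B, C])
        have hP : finrank k ↥P = 3 := by
          have := finrank_span_eq_card h.1
          rw [Fintype.card_fin] at this
          exact this
        refine K714.TypeConst.no_plane hT (by simp) hsm hP ?_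
        intro v hv
        obtain ⟨g, rfl⟩ := (Submodule.mem_span_range_iff_exists_fun k).1 hv
        rw [Fin.sum_univ_three]
        simp only [Matrix.cons_val]
        have p1 : T A B A = T A A B := hT.s23 _ _ _
        have p2 : T B A A = T A A B := hT.rot _ _ _
        have p3 : T A C A = T A A C := hT.s23 _ _ _
        have p4 : T C A A = T A A C := hT.rot _ _ _
        have p5 : T B A B = T A B B := hT.s12 _ _ _
        have p6 : T B B A = T A B B := by rw [hT.rot, hT.rot]
        have p7 : T A C B = T A B C := hT.s23 _ _ _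
        have p8 : T B A C = T A B C := hT.s12 _ _ _
        have p9 : T B C A = T A B C := (hT.rot _ _ _).symm
        have p10 : T C A B = T A B C := hT.rot _ _ _
        have p11 : T C B A = T A B C := by rw [hT.s23 C B A, hT.rot]
        have p12 : T B C B = T B B C := hT.s23 _ _ _
        have p13 : T C B B = T B B C := hT.rot _ _ _
        have p14 : T C A C = T A C C := hT.s12 _ _ _
        have p15 : T C C A = T A C C := by rw [hT.rot, hT.rot]
        have p16 : T C B C = T B C C := hT.s12 _ _ _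
        have p17 : T C C B = T B C C := by rw [hT.rot, hT.rot]
        have e3' : T A B B = 0 := by linear_combination e3 - hp
        have e4' : T B B B = 0 := by linear_combination e4 - 6 * hq
        have e5' : T B B C = 0 := by linear_combination e5 - hr
        simp only [map_add, map_smul, LinearMap.add_apply, LinearMap.smul_apply, smul_eq_mul, p1, p2, p3, p4,
          p5, p6, p7, p8, p9, p10, p11, p12, p13, p14, p15, p16, p17, e1, e2, e3', e4', e5', e6, e7, hp, hq, hr]
        ring
      have h' := con_shear h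
      have hp' : T (A + B + C) (A + B + C) C ≠ 0 := by
        have p8 : T B A C = T A B C := hT.s12 _ _ _
        have p14 : T C A C = T A C C := hT.s12 _ _ _
        have p16 : T C B C = T B C C := hT.s12 _ _ _
        have e5' : T B B C = 0 := by linear_combination e5 - hr
        simp only [map_add, LinearMap.add_apply, p8, p14, p16, hp, hr, e5', e6, e7]
        intro h0
        apply hq
        have : (2 : k) * T A B C = 0 := by linear_combination h0
        exact (mul_eq_zero.1 this).resolve_left two_ne_zero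
      obtain ⟨⟨a, b⟩, u, r, hab, hu, hc⟩ := exists_psi_gen hT h' hp'
      refine ⟨(a - b, b), u, r, ?_, hu, ?_⟩
      · obtain ⟨h1, h2, h3, h4, h5⟩ := hab
        simp only at h1 h2 h3 h4 h5
        have p1 : T a b a = T a a b := hT.s23 _ _ _
        have p2 : T b a a = T a a b := hT.rot _ _ _
        have p5 : T b a b = T a b b := hT.s12 _ _ _
        have p6 : T b b a = T a b b := by rw [hT.rot, hT.rot]
        refine ⟨?_, ?_, ?_, ?_, ?_⟩
        · simp only
          rw [pair_iff] at h1 ⊢
          intro s t h0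
          obtain ⟨h6, h7⟩ := h1 s (t - s) (by rw [← h0]; module)
          exact ⟨h6, by rw [h6, sub_zero] at h7; exact h7⟩
        all_goals
          simp only [map_sub, LinearMap.sub_apply, p1, p2, p5, p6, h2, h3, h4, h5]
          try ring
      · simp only
        rw [psi_shear hT]
        have c0 := congrFun hc 0
        have c1 := congrFun hc 1
        have c2 := congrFun hc 2
        simp only [Matrix.cons_val, Pi.smul_apply] at c0 c1 c2
        funext i
        fin_cases i
        · simp only [Fin.zero_eta, Matrix.cons_val, Pi.smul_apply]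
          rw [smul_add, smul_sub, ← c0, ← c1, ← c2]
          module
        · simp only [Fin.mk_one, Matrix.cons_val, Pi.smul_apply]
          rw [smul_sub, smul_comm, ← c1, ← c2]
          module
        · simp only [Fin.reduceFinMk, Matrix.cons_val, Pi.smul_apply]
          exact c2
    · -- swap
      obtain ⟨⟨a, b⟩, u, r, hab, hu, hc⟩ := exists_psi_gen hT (con_swap h) (by
        rw [hT.rot, hT.rot]; exact hr)
      refine ⟨(b, a), u, r, ?_, hu, ?_⟩
      · obtain ⟨h1, h2, h3, h4, h5⟩ := hab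
        simp only at h1 h2 h3 h4 h5
        refine ⟨?_, h5, ?_, ?_, h2⟩
        · simp only
          rw [pair_iff] at h1 ⊢
          intro s t h0
          obtain ⟨h6, h7⟩ := h1 t s (by rw [← h0]; abel)
          exact ⟨h7, h6⟩
        · simp only
          rw [hT.rot, hT.rot]; exact h4
        · simp only
          rw [hT.rot]; exact h3
      · simp only
        rw [psi_swap hT]
        have c0 := congrFun hc 0
        have c1 := congrFun hc 1
        have c2 := congrFun hc 2
        simp only [Matrix.cons_val, Pi.smul_apply] at c0 c1 c2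
        funext i
        fin_cases i
        · exact c2
        · exact c1
        · exact c0
  · exact exists_psi_gen hT h hp

/-- polynomial maps into function spaces -/
theorem pm_pi {X W : Type u} [AddCommGroup X] [Module k X] [AddCommGroup W] [Module k W] {n : ℕ}
    {φ : X → Fin n → W} (h : ∀ i, IsPolyMap k (fun x => φ x i)) : IsPolyMap k φ := by
  intro l
  have : (fun v => l (φ v)) = fun v => ∑ i, (l.comp (LinearMap.single k (fun _ => W) i)) (φ v i) := by
    funext v
    conv_lhs => rw [← Finset.univ_sum_single (φ v), map_sum]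
    rfl
  rw [this]
  exact pf_sum _ fun i _ => h i _

theorem pf_T {X : Type u} [AddCommGroup X] [Module k X]
    {f g h : X → Fin 5 → k} (hf : IsPolyMap k f) (hg : IsPolyMap k g) (hh : IsPolyMap k h) :
    IsPolyFun k (fun x => T (f x) (g x) (h x)) := pf_tri T hf hg hh

theorem pm_psi (T : (Fin 5 → k) →ₗ[k] (Fin 5 → k) →ₗ[k] (Fin 5 → k) →ₗ[k] k)
    {X : Type u} [AddCommGroup X] [Module k X] {f g h : X → Fin 5 → k} (hf : IsPolyMap k f)
    (hg : IsPolyMap k g) (hh : IsPolyMap k h) : IsPolyMap k (fun x => psi T (f x) (g x) (h x)) := by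
  refine pm_pi fun i => ?_
  fin_cases i
  · exact pm_sub (pm_smul (pf_T hh hh hf) hf) (pm_smul (pf_T hh hf hf) hh)
  · exact pm_sub (pm_add (pm_smul (pf_T hh hh hf) hg) (pm_smul (pf_T hh hh hg) hf))
      (pm_smul (pf_const_mul 2 (pf_T hh hf hg)) hh)
  · exact pm_sub (pm_smul (pf_T hh hh hg) hg) (pm_smul (pf_T hh hg hg) hh)

/-- determinant criterion for the third point map -/
theorem psi_indep {a b u : Fin 5 → k} (hli : LinearIndependent k ![a, b, u])
    (hD : T u a a * T u u b ^ 2 - 2 * T u a b * T u u a * T u u b + T u b b * T u u a ^ 2 ≠ 0) :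
    LinearIndependent k (psi T a b u) := by
  have : psi T a b u = ![psi T a b u 0, psi T a b u 1, psi T a b u 2] := by
    funext i; fin_cases i <;> rfl
  rw [this, lin3]
  intro x y z h0
  simp only [psi, Matrix.cons_val] at h0
  obtain ⟨h1, h2, h3⟩ := lin3.1 hli (x * T u u a + y * T u u b) (y * T u u a + z * T u u b)
    (-(x * T u a a) - y * (2 * T u a b) - z * T u b b) (by rw [← h0]; module)
  set A := T u u a
  set B := T u u b
  set α := T u a a
  set β := T u a b
  set γ := T u b b
  have e1 : x * (α * B ^ 2 - 2 * β * A * B + γ * A ^ 2) = 0 := by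
    linear_combination (-(B ^ 2)) * h3 + (-2 * β * B + γ * A) * h1 +
      (-γ * B) * h2
  have hx := (mul_eq_zero.1 e1).resolve_right hD
  have e2 : y * (α * B ^ 2 - 2 * β * A * B + γ * A ^ 2) = 0 := by
    have h3' : -y * (2 * β) - z * γ = 0 := by rw [hx] at h3; linear_combination h3
    have h1' : y * B = 0 := by rw [hx] at h1; linear_combination h1
    linear_combination (α * B - 2 * β * A) * h1' + γ * A * h2 + (A * B) * h3' + (2 * β * A) * h1'
  have hy := (mul_eq_zero.1 e2).resolve_right hD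
  refine ⟨hx, hy, ?_⟩
  have e3 : z * (α * B ^ 2 - 2 * β * A * B + γ * A ^ 2) = 0 := by
    have h3' : z * γ = 0 := by rw [hx, hy] at h3; linear_combination -h3
    have h2' : z * B = 0 := by rw [hy] at h2; linear_combination h2
    linear_combination (α * B - 2 * β * A) * h2' + A ^ 2 * h3'
  exact (mul_eq_zero.1 e3).resolve_right hD

/-- finitely many lines on a smooth cubic surface -/
theorem lines_finite [IsAlgClosed k] [CharZero k] (hT : IsSym3 T) {W : Submodule k (Fin 5 → k)}
    (hW : finrank k ↥W = 4) (hsm : SmoothOn T W) : {U : Submodule k (Fin 5 → k) | IsLine T U ∧ U ≤ W}.Finite := by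
  let bW : Basis (Fin 4) k ↥W := finBasisOfFinrankEq k ↥W hW
  let Φ : (Fin 4 → k) →ₗ[k] (Fin 5 → k) := W.subtype.comp bW.equivFun.symm.toLinearMap
  have hΦ : Function.Injective Φ := by
    intro c d h
    exact bW.equivFun.symm.injective (Subtype.ext h)
  have hr : LinearMap.range Φ = W := by
    rw [LinearMap.range_comp, LinearEquiv.range, Submodule.map_top, Submodule.range_subtype]
  obtain ⟨F, hF, hFe⟩ := exists_poly T Φ
  have hsmF := smooth_poly hT hΦ (by rw [hr]; exact hsm) hF hFe
  have hF0 : F ≠ 0 := by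
    rintro rfl
    have h1 : (Pi.single 0 1 : Fin 4 → k) ≠ 0 := by
      intro h2
      have := congrFun h2 0
      simp at this
    obtain ⟨i, hi⟩ := hsmF _ h1 (map_zero _)
    simp at hi
  have h27 := Groth.Agent.S11854.result k F hF hF0 hsmF
  have hfin : {U : Submodule k (Fin 4 → k) | Module.finrank k ↥U = 2 ∧
      ∀ u ∈ U, MvPolynomial.eval u F = 0}.Finite := Set.finite_of_ncard_ne_zero (by rw [h27]; norm_num)
  have hcomap : ∀ U : Submodule k (Fin 5 → k), U ≤ W → (U.comap Φ).map Φ = U := by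
    intro U hU
    rw [Submodule.map_comap_eq, inf_eq_right, hr]
    exact hU
  refine Set.Finite.of_finite_image (f := fun U => U.comap Φ) (hfin.subset ?_) ?_
  · rintro _ ⟨U, ⟨hU, hUW⟩, rfl⟩
    refine ⟨?_, fun u hu => by rw [hFe]; exact hU.2 _ hu⟩
    rw [(Submodule.equivMapOfInjective _ hΦ (U.comap Φ)).finrank_eq, hcomap U hUW]
    exact hU.1
  · rintro U ⟨-, hUW⟩ U' ⟨-, hUW'⟩ h
    rw [← hcomap U hUW, ← hcomap U' hUW']
    exact congrArg (Submodule.map Φ) h

/-- A point on the cubic surface on no line. -/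
theorem exists_off_lines [IsAlgClosed k] [CharZero k] (hT : IsSym3 T) {W : Submodule k (Fin 5 → k)}
    (hW : finrank k ↥W = 4) (hsm : SmoothOn T W) :
    ∃ u ∈ W, u ≠ 0 ∧ T u u u = 0 ∧ ∀ U : Submodule k (Fin 5 → k), IsLine T U → U ≤ W → u ∉ U := by
  have hinf : Infinite k := IsAlgClosed.instInfinite
  have hfin := lines_finite hT hW hsm
  let S := {U : Submodule k (Fin 5 → k) | IsLine T U ∧ U ≤ W}
  have : Finite S := hfin
  obtain ⟨w, hwW, hw⟩ : ∃ w ∈ W, ∀ U : S, w ∉ U.1 := by
    by_contra hcon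
    push Not at hcon
    obtain ⟨U, hU⟩ := exists_le_of_cover (fun U : S => U.1) W hcon
    have := Submodule.finrank_mono hU
    rw [hW, U.2.1.1] at this
    omega
  obtain ⟨w', hwW', hw'⟩ : ∃ w' ∈ W, ∀ U : S, w' ∉ U.1 ⊔ Submodule.span k {w} := by
    by_contra hcon
    push Not at hcon
    obtain ⟨U, hU⟩ := exists_le_of_cover (fun U : S => U.1 ⊔ Submodule.span k {w}) W hcon
    have h1 := Submodule.finrank_mono hU
    have h2 := Submodule.finrank_add_le_finrank_add_finrank U.1 (Submodule.span k {w})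
    have h3 : finrank k ↥(Submodule.span k {w}) ≤ 1 := by
      simpa using finrank_span_le_card (R := k) ({w} : Set (Fin 5 → k))
    rw [U.2.1.1] at h2
    rw [hW] at h1
    omega
  have hST : S.Nonempty := by
    obtain ⟨U, hU, hUW⟩ := exists_line T hW
    exact ⟨U, hU, hUW⟩
  let Φ : (Fin 2 → k) →ₗ[k] (Fin 5 → k) := (LinearMap.toSpanSingleton k _ w).comp (LinearMap.proj 0) +
    (LinearMap.toSpanSingleton k _ w').comp (LinearMap.proj 1)
  have hΦ : ∀ c, Φ c = c 0 • w + c 1 • w' := fun c => rfl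
  obtain ⟨F, hF, hFe⟩ := exists_poly T Φ
  obtain ⟨c, hc0, hc⟩ := K714.Zeros.exists_ne_zero (k := k) (N := 2) (ι := Fin 1)
    (by simp) ![3] (by intro i; fin_cases i; norm_num) ![F]
    (by intro i; fin_cases i; exact hF)
  have hc' : T (Φ c) (Φ c) (Φ c) = 0 := by rw [← hFe]; exact hc 0
  have hoff : ∀ U : S, Φ c ∉ U.1 := by
    intro U hU
    rw [hΦ] at hU
    by_cases h1 : c 1 = 0
    · rw [h1, zero_smul, add_zero] at hU
      have h0 : c 0 ≠ 0 := by
        intro h0
        apply hc0
        funext i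
        fin_cases i
        · exact h0
        · exact h1
      have := U.1.smul_mem (c 0)⁻¹ hU
      rw [smul_smul, inv_mul_cancel₀ h0, one_smul] at this
      exact hw U this
    · apply hw' U
      have h2 : w' = (c 1)⁻¹ • (c 0 • w + c 1 • w') + (-((c 1)⁻¹ * c 0)) • w := by
        rw [smul_add, smul_smul, smul_smul, inv_mul_cancel₀ h1, one_smul]
        module
      rw [h2]
      exact Submodule.add_mem _ (Submodule.mem_sup_left (U.1.smul_mem _ hU))
        (Submodule.mem_sup_right (Submodule.smul_mem _ _ (Submodule.mem_span_singleton_self w)))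
  refine ⟨Φ c, ?_, ?_, hc', fun U hU hUW => hoff ⟨U, hU, hUW⟩⟩
  · rw [hΦ]
    exact W.add_mem (W.smul_mem _ hwW) (W.smul_mem _ hwW')
  · intro h0
    obtain ⟨U, hU⟩ := hST
    exact hoff ⟨U, hU⟩ (by rw [h0]; exact U.zero_mem)

/-- `D ≠ 0` off the lines -/
theorem disc_ne [IsAlgClosed k] [CharZero k] (hT : IsSym3 T) {W : Submodule k (Fin 5 → k)}
    {a b u : Fin 5 → k} (hab : (a, b) ∈ FR T) (ha : a ∈ W) (hb : b ∈ W) (hu : u ∈ W) (hu0 : u ≠ 0)
    (hTu : T u u u = 0) (hoff : ∀ U : Submodule k (Fin 5 → k), IsLine T U → U ≤ W → u ∉ U) :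
    LinearIndependent k ![a, b, u] ∧
      T u a a * T u u b ^ 2 - 2 * T u a b * T u u a * T u u b + T u b b * T u u a ^ 2 ≠ 0 := by
  have hline := (isLine_span_iff hT (p := (a, b)) hab.1).2 hab
  simp only at hline
  have hspW : Submodule.span k {a, b} ≤ W := by
    rw [Submodule.span_le]
    rintro x (rfl | hx)
    · exact ha
    · rw [Set.mem_singleton_iff.1 hx]; exact hb
  have huL := hoff _ hline hspW
  obtain ⟨hli, e1, e2, e3, e4⟩ := hab
  simp only at hli e1 e2 e3 e4
  -- no line through `u` and a point of the line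
  have hno : ∀ s t : k, (s ≠ 0 ∨ t ≠ 0) → T u u (s • a + t • b) = 0 →
      T u (s • a + t • b) (s • a + t • b) = 0 → False := by
    intro s t hst h1 h2
    set y := s • a + t • b with hy
    have hyL : y ∈ Submodule.span k {a, b} := Submodule.mem_span_pair.2 ⟨s, t, rfl⟩
    have hy0 : y ≠ 0 := by
      intro h0
      obtain ⟨h3, h4⟩ := pair_iff.1 hli s t h0
      rcases hst with h | h
      · exact h h3
      · exact h h4
    have hyy : T y y y = 0 := hline.2 y hyL
    have hind : LinearIndependent k ![u, y] := by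
      rw [pair_iff]
      intro p q h0
      have hp : p = 0 := by
        by_contra hp
        apply huL
        have : u = (-(p⁻¹ * q)) • y := by
          have h3 : p⁻¹ • (p • u + q • y) = 0 := by rw [h0, smul_zero]
          rw [smul_add, smul_smul, inv_mul_cancel₀ hp, one_smul, smul_smul] at h3
          rw [neg_smul]
          exact eq_neg_of_add_eq_zero_left h3
        rw [this]
        exact Submodule.smul_mem _ _ hyL
      rw [hp, zero_smul, zero_add] at h0
      exact ⟨hp, (smul_eq_zero.1 h0).resolve_right hy0⟩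
    have hFR : (u, y) ∈ FR T := ⟨hind, hTu, h1, h2, hyy⟩
    refine hoff _ ((isLine_span_iff hT (p := (u, y)) hind).2 hFR) ?_ (Submodule.subset_span (by simp))
    rw [Submodule.span_le]
    rintro x (rfl | hx)
    · exact hu
    · rw [Set.mem_singleton_iff.1 hx]; exact hspW hyL
  refine ⟨?_, ?_⟩
  · rw [lin3]
    intro x y z h0
    have hz : z = 0 := by
      by_contra hz
      apply huL
      have : u = (-(z⁻¹ * x)) • a + (-(z⁻¹ * y)) • b := by
        have h3 : z⁻¹ • (x • a + y • b + z • u) = 0 := by rw [h0, smul_zero]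
        rw [smul_add, smul_add, smul_smul, smul_smul, smul_smul, inv_mul_cancel₀ hz, one_smul] at h3
        rw [neg_smul, neg_smul, ← neg_add]
        exact eq_neg_of_add_eq_zero_right h3
      rw [this]
      exact Submodule.mem_span_pair.2 ⟨_, _, rfl⟩
    rw [hz, zero_smul, add_zero] at h0
    obtain ⟨h1, h2⟩ := pair_iff.1 hli x y h0
    exact ⟨h1, h2, hz⟩
  · intro hD
    have h1 : T u b a = T u a b := hT.s23 _ _ _
    by_cases hAB : T u u a = 0 ∧ T u u b = 0
    · obtain ⟨s, t, hst, hq⟩ := exists_quad_zero (T u a a) (2 * T u a b) (T u b b)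
      refine hno s t hst ?_ ?_
      · rw [map_add, map_smul, map_smul, hAB.1, hAB.2]; simp
      · simp only [map_add, map_smul, LinearMap.add_apply, LinearMap.smul_apply, smul_eq_mul, h1]
        linear_combination hq
    · refine hno (T u u b) (-(T u u a)) ?_ ?_ ?_
      · by_contra hcon
        push Not at hcon
        exact hAB ⟨neg_eq_zero.1 hcon.2, hcon.1⟩
      · simp only [map_add, map_smul, smul_eq_mul]
        ring
      · simp only [map_add, map_smul, LinearMap.add_apply, LinearMap.smul_apply, smul_eq_mul, h1]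
        linear_combination hD

/-- a smooth hyperplane section with a frame in it -/
theorem exists_frame_section [IsAlgClosed k] [CharZero k] (hT : IsSym3 T) (hsm : SmoothOn T ⊤) :
    ∃ (W : Submodule k (Fin 5 → k)) (a b : Fin 5 → k), finrank k ↥W = 4 ∧ SmoothOn T W ∧ (a, b) ∈ FR T ∧
      a ∈ W ∧ b ∈ W := by
  have hV : finrank k (Fin 5 → k) = 5 := by simp
  obtain ⟨⟨a, b⟩, hab⟩ := (frames_irr hT hsm).1
  have hl := (isLine_span_iff hT (p := (a, b)) hab.1).2 hab
  obtain ⟨ξ, hξ, hle, hs⟩ := K714.Bertini.exists_smooth_section hT hV hsm hl.1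
  refine ⟨LinearMap.ker ξ, a, b, ?_, hs, hab, hle (Submodule.subset_span (by simp)),
    hle (Submodule.subset_span (by simp))⟩
  have := LinearMap.finrank_range_add_finrank_ker ξ
  have hr : finrank k ↥(LinearMap.range ξ) = 1 := by
    rw [LinearMap.range_eq_top.mpr (LinearMap.surjective hξ), finrank_top, finrank_self]
  omega

theorem con_nonempty [IsAlgClosed k] [CharZero k] (hT : IsSym3 T) (hsm : SmoothOn T ⊤) : (Con T).Nonempty := by
  obtain ⟨W, a, b, hW, hs, hab, ha, hb⟩ := exists_frame_section hT hsm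
  obtain ⟨u, hu, hu0, hTu, hoff⟩ := exists_off_lines hT hW hs
  obtain ⟨hli, hD⟩ := disc_ne hT hab ha hb hu hu0 hTu hoff
  refine ⟨psi T a b u, psi_indep hli hD, fun s t => cube_qpt_psi hT ?_ hTu s t⟩
  intro s t
  exact ((isLine_span_iff hT (p := (a, b)) hab.1).2 hab).2 _ (Submodule.mem_span_pair.2 ⟨s, t, rfl⟩)

/-- the parameter space -/
def Ns (T : (Fin 5 → k) →ₗ[k] (Fin 5 → k) →ₗ[k] (Fin 5 → k) →ₗ[k] k) :
    Set (((Fin 5 → k) × (Fin 5 → k)) × ((Fin 5 → k) × k)) :=
  {p | p.1 ∈ FR T ∧ T p.2.1 p.2.1 p.2.1 = 0}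

theorem ns_irr [IsAlgClosed k] [CharZero k] (hT : IsSym3 T) (hsm : SmoothOn T ⊤) : Irr k (Ns T) := by
  have hinf : Infinite k := IsAlgClosed.instInfinite
  exact (frames_irr hT hsm).prod ((hyp_irr hT hsm).prod_univ (W := k))

/-- the parametrisation of parametrised conics -/
def phi (T : (Fin 5 → k) →ₗ[k] (Fin 5 → k) →ₗ[k] (Fin 5 → k) →ₗ[k] k)
    (x : ((Fin 5 → k) × (Fin 5 → k)) × ((Fin 5 → k) × k)) : Fin 3 → Fin 5 → k :=
  x.2.2 • psi T x.1.1 x.1.2 x.2.1

theorem pm_phi : IsPolyMap k (phi T) := by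
  have c1 : IsPolyMap k (fun x : ((Fin 5 → k) × (Fin 5 → k)) × ((Fin 5 → k) × k) => x.1.1) :=
    isPolyMap_linear ((LinearMap.fst k (Fin 5 → k) (Fin 5 → k)).comp
      (LinearMap.fst k ((Fin 5 → k) × (Fin 5 → k)) ((Fin 5 → k) × k)))
  have c2 : IsPolyMap k (fun x : ((Fin 5 → k) × (Fin 5 → k)) × ((Fin 5 → k) × k) => x.1.2) :=
    isPolyMap_linear ((LinearMap.snd k (Fin 5 → k) (Fin 5 → k)).comp
      (LinearMap.fst k ((Fin 5 → k) × (Fin 5 → k)) ((Fin 5 → k) × k)))
  have c3 : IsPolyMap k (fun x : ((Fin 5 → k) × (Fin 5 → k)) × ((Fin 5 → k) × k) => x.2.1) :=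
    isPolyMap_linear ((LinearMap.fst k (Fin 5 → k) k).comp
      (LinearMap.snd k ((Fin 5 → k) × (Fin 5 → k)) ((Fin 5 → k) × k)))
  have c4 : IsPolyFun k (fun x : ((Fin 5 → k) × (Fin 5 → k)) × ((Fin 5 → k) × k) => x.2.2) :=
    isPolyFun_linear' ((LinearMap.snd k (Fin 5 → k) k).comp
      (LinearMap.snd k ((Fin 5 → k) × (Fin 5 → k)) ((Fin 5 → k) × k)))
  exact pm_smul c4 (pm_psi T c1 c2 c3)

theorem phi_vanish [CharZero k] (hT : IsSym3 T) {x : ((Fin 5 → k) × (Fin 5 → k)) × ((Fin 5 → k) × k)}
    (hx : x ∈ Ns T) (s t : k) : T (qpt (phi T x) s t) (qpt (phi T x) s t) (qpt (phi T x) s t) = 0 := by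
  obtain ⟨⟨a, b⟩, ⟨u, r⟩⟩ := x
  obtain ⟨hab, hu⟩ := hx
  have h6 : qpt (phi T ((a, b), (u, r))) s t = r • qpt (psi T a b u) s t := by
    simp only [qpt, phi, Pi.smul_apply]
    module
  have h7 := cube_qpt_psi hT (fun s t => ((isLine_span_iff hT (p := (a, b)) hab.1).2 hab).2 _
    (Submodule.mem_span_pair.2 ⟨s, t, rfl⟩)) hu s t
  rw [h6]
  simp only [map_smul, LinearMap.smul_apply, smul_eq_mul, h7]
  ring

theorem con_eq [IsAlgClosed k] [CharZero k] (hT : IsSym3 T) (hsm : SmoothOn T ⊤) :
    phi T '' Ns T ∩ {c | LinearIndependent k c} = Con T := by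
  ext c
  constructor
  · rintro ⟨⟨x, hx, rfl⟩, hli⟩
    exact ⟨hli, phi_vanish hT hx⟩
  · intro hc
    obtain ⟨p, u, r, hp, hu, hc'⟩ := exists_psi hT hsm hc
    exact ⟨⟨(p, (u, r)), ⟨hp, hu⟩, hc'.symm⟩, hc.1⟩

theorem isZOpen_indepN {n : ℕ} : IsZOpen k {c : Fin n → Fin 5 → k | LinearIndependent k c} := by
  have hv : ∀ i : Fin n, IsPolyMap k (fun c : Fin n → Fin 5 → k => c i) := fun i =>
    isPolyMap_linear (LinearMap.proj (R := k) (φ := fun _ : Fin n => Fin 5 → k) i)
  exact K713.RangeOpen.isZOpen_linearIndependent (k := k) (V := Fin n → Fin 5 → k) (W := Fin 5 → k) (r := n)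
    (fun i c => c i) hv

/-- **The parametrised conics form an irreducible set.** -/
theorem con_irr [IsAlgClosed k] [CharZero k] (hT : IsSym3 T) (hsm : SmoothOn T ⊤) : Irr k (Con T) := by
  rw [← con_eq hT hsm]
  refine ((ns_irr hT hsm).image pm_phi).inter_open isZOpen_indepN ?_
  rw [con_eq hT hsm]
  exact con_nonempty hT hsm

end K714.ConicIrr
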