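import Groth.Agent.Fano.K714.RatDef
import Groth.Agent.Fano.K714.Irr
import Groth.Agent.Fano.K714.ConicIrr2
import Groth.Agent.Fano.K714.JacSm
import Groth.Agent.Fga.HilbFun

/-!
# Irreducibility of a locus in the Hilbert scheme from irreducibility of the parameter space

* `isClass_unique`: the class of a parametrised curve is unique.
* `irreducible_of`: abstract transfer of irreducibility from a parameter space to a topological space.
* `par2_irr`: the parametrised conics `Par f 2` form an irreducible set.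
-/

set_option autoImplicit false
universe u
open CategoryTheory CategoryTheory.Limits AlgebraicGeometry TopologicalSpace Opposite

namespace Groth.Agent.Fano.K714.RatTop

open Groth.Agent.Fano.K714.Rat K714.Irr LefPen Groth.Agent.Lefpen.H703.ZOpen

variable {k : Type u} [Field k]

theorem isPar_unique {f : Form 4 k 3} {d : ℕ} {c : Fin (d + 1) → Fin 5 → k}
    {i i' : CohB1.ProjSpace 1 k ⟶ Xf f} (h : IsPar f d c i) (h' : IsPar f d c i') : i = i' := by
  have h1 : i ≫ emb f = i' ≫ emb f := by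
    refine h.2.unique h'.2 ?_
    rw [Category.assoc, Category.assoc]
    exact h.1.trans h'.1.symm
  exact (cancel_mono (emb f)).1 h1

/-- two points of the Hilbert scheme with the same pullback agree -/
theorem hom_unique {X : Scheme.{u}} {x : X ⟶ Spec (CommRingCat.of k)} {H : Over (Spec (CommRingCat.of k))}
    {Z : FGA.HilbSet x H} (hH : FGA.HilbRepresentedBy x H Z) {h h' : pt k ⟶ H}
    (e : FGA.hilbPull x h Z.1 = FGA.hilbPull x h' Z.1) : h = h' := by
  have hn : IsLocallyNoetherian (pt k).left := by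
    change IsLocallyNoetherian (Spec (CommRingCat.of k))
    infer_instance
  obtain ⟨g, -, hg⟩ := hH.2 (pt k) ⟨FGA.hilbPull x h Z.1, Groth.Agent.Fga.HilbFun.hilbPull_mem x h Z.2⟩
  exact (hg h rfl).trans (hg h' e.symm).symm

theorem isClass_unique {f : Form 4 k 3} {H : Over (Spec (CommRingCat.of k))} {Z : FGA.HilbSet (ps f) H}
    (hH : FGA.HilbRepresentedBy (ps f) H Z) {d : ℕ} {c : Fin (d + 1) → Fin 5 → k} {x x' : ↥H.left}
    (h : IsClass f H Z d c x) (h' : IsClass f H Z d c x') : x = x' := by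
  obtain ⟨g, i, rfl, hi, hg⟩ := h
  obtain ⟨g', i', rfl, hi', hg'⟩ := h'
  obtain rfl := isPar_unique hi hi'
  obtain rfl := hom_unique hH (hg.trans hg'.symm)
  rfl

/-- Transfer of irreducibility. -/
theorem irreducible_of {Y : Type u} [TopologicalSpace Y] {V : Type u} [AddCommGroup V] [Module k V] {S : Set V}
    (hS : Irr k S) (P : V → Y → Prop) (huniq : ∀ c ∈ S, ∀ x x', P c x → P c x' → x = x')
    (hex : ∀ c ∈ S, ∃ x, P c x)
    (hopen : ∀ A : Set Y, IsOpen A → ∀ c₀ ∈ S, ∀ x₀, P c₀ x₀ → x₀ ∈ A →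
      ∃ O : Set V, IsZOpen k O ∧ c₀ ∈ O ∧ ∀ c ∈ S, c ∈ O → ∃ x ∈ A, P c x) :
    IsIrreducible {x | ∃ c ∈ S, P c x} := by
  refine ⟨?_, ?_⟩
  · obtain ⟨c, hc⟩ := hS.1
    obtain ⟨x, hx⟩ := hex c hc
    exact ⟨x, c, hc, hx⟩
  · rintro A A' hA hA' ⟨x, ⟨c, hc, hx⟩, hxA⟩ ⟨x', ⟨c', hc', hx'⟩, hxA'⟩
    obtain ⟨O, hO, hcO, h1⟩ := hopen A hA c hc x hx hxA
    obtain ⟨O', hO', hcO', h1'⟩ := hopen A' hA' c' hc' x' hx' hxA'
    obtain ⟨c₁, hc₁, h2, h3⟩ := hS.2 O O' hO hO' ⟨c, hc, hcO⟩ ⟨c', hc', hcO'⟩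
    obtain ⟨y, hy, hPy⟩ := h1 c₁ hc₁ h2
    obtain ⟨y', hy', hPy'⟩ := h1' c₁ hc₁ h3
    obtain rfl := huniq c₁ hc₁ y y' hPy hPy'
    exact ⟨y, ⟨c₁, hc₁, hPy⟩, hy, hy'⟩

/-- polynomial conditions on coefficient systems are open -/
theorem isZOpen_eval {n m : ℕ} (G : MvPolynomial (Fin n × Fin m) k) :
    IsZOpen k {c : Fin n → Fin m → k | MvPolynomial.eval (fun q => c q.1 q.2) G ≠ 0} := by
  refine isZOpen_basic (isPolyFun_eval G fun q => ?_)
  exact isPolyFun_linear' ((LinearMap.proj (R := k) (φ := fun _ : Fin m => k) q.2).comp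
    (LinearMap.proj (R := k) (φ := fun _ : Fin n => Fin m → k) q.1))

/-- The locus of the Hilbert scheme of parametrised rational normal curves of degree `d` is irreducible. -/
theorem irreducible_par {f : Form 4 k 3} {H : Over (Spec (CommRingCat.of k))} {Z : FGA.HilbSet (ps f) H}
    (hH : FGA.HilbRepresentedBy (ps f) H Z) {d : ℕ} (hS : Irr k (Par f d))
    (hex : ∀ c ∈ Par f d, ∃ x, IsClass f H Z d c x)
    (R3 : ∀ (A : H.left.Opens) (c₀ : Fin (d + 1) → Fin 5 → k), c₀ ∈ Par f d → ∀ x₀ : ↥H.left,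
      IsClass f H Z d c₀ x₀ → x₀ ∈ A →
      ∃ G : MvPolynomial (Fin (d + 1) × Fin 5) k, MvPolynomial.eval (fun q => c₀ q.1 q.2) G ≠ 0 ∧
        ∀ c ∈ Par f d, MvPolynomial.eval (fun q => c q.1 q.2) G ≠ 0 → ∃ x ∈ A, IsClass f H Z d c x) :
    IsIrreducible {x | ∃ c ∈ Par f d, IsClass f H Z d c x} := by
  refine irreducible_of hS (IsClass f H Z d) (fun c _ x x' h h' => isClass_unique hH h h') hex ?_
  intro A hA c₀ hc₀ x₀ hx₀ hxA
  obtain ⟨G, hG, h1⟩ := R3 ⟨A, hA⟩ c₀ hc₀ x₀ hx₀ hxA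
  exact ⟨_, isZOpen_eval G, hG, fun c hc hcG => h1 c hc hcG⟩

/-! ### conics -/

theorem cpt_two (c : Fin 3 → Fin 5 → k) (s t : k) : cpt (d := 2) c s t = K714.ConicIrr.qpt c s t := by
  have h := Fin.sum_univ_three fun m : Fin 3 => (s ^ (2 - (m : ℕ)) * t ^ (m : ℕ)) • c m
  refine h.trans ?_
  simp [K714.ConicIrr.qpt]

theorem par_two [CharZero k] (f : Form 4 k 3) : Par f 2 = K714.ConicIrr.Con (K656.Trilin.tri f.1) := by
  ext c
  refine and_congr Iff.rfl ?_
  refine forall₂_congr fun s t => ?_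
  rw [cpt_two, K656.Trilin.tri_diag f.2]

theorem par2_irr [IsAlgClosed k] [CharZero k] (f : Form 4 k 3) (hf : f ≠ 0) [hs : Smooth (ps f)] :
    Irr k (Par f 2) := by
  rw [par_two]
  exact K714.ConicIrr.con_irr (K656.Trilin.tri_sym f.1) (JacSm.smoothOn_tri f hf hs)

end Groth.Agent.Fano.K714.RatTop
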