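import Groth.Agent.Fano.K714.DimMv
import Groth.Agent.Lefpen.H703.Elim
import Groth.Prelude.Def_W4c2ratcurvhypCodim
import Mathlib.Algebra.MvPolynomial.Funext

/-!
# Codimension of subsets of vector spaces (`LefPen.CodimGE`)
-/

set_option autoImplicit false

universe u

namespace K714.Codim

open MvPolynomial LefPen Groth.Agent.Lefpen.H703.ZOpen

variable {k : Type u} [Field k] {V W : Type u} [AddCommGroup V] [Module k V] [AddCommGroup W] [Module k W]

/-- The polynomial function with given expression in coordinates. -/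
noncomputable def coordHom {ι : Type} (b : Module.Basis ι k V) :
    MvPolynomial ι k →ₐ[k] polyFunAlg k V :=
  aeval fun i => ⟨fun v => b.coord i v, isPolyFun_linear' (b.coord i)⟩

theorem coordHom_apply {ι : Type} (b : Module.Basis ι k V) (P : MvPolynomial ι k) (v : V) :
    (coordHom b P).1 v = eval (fun i => b.repr v i) P := by
  induction P using MvPolynomial.induction_on with
  | C a => simp [coordHom]
  | add p q hp hq => simp only [map_add]; rw [← hp, ← hq]; rfl
  | mul_X p i hp => simp only [map_mul, eval_X]; rw [← hp]; simp [coordHom]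

theorem coordHom_injective [Infinite k] {ι : Type} [Finite ι] (b : Module.Basis ι k V) :
    Function.Injective (coordHom b) := by
  rw [injective_iff_map_eq_zero]
  intro P hP
  refine MvPolynomial.funext fun x => ?_
  have h := coordHom_apply b P (b.equivFun.symm x)
  rw [hP] at h
  have h2 : (fun i => b.repr (b.equivFun.symm x) i) = x := by
    ext i
    exact congrFun (b.equivFun.apply_symm_apply x) i
  rw [h2] at h
  rw [← h, map_zero]
  rfl

theorem coordHom_surjective {ι : Type} [Finite ι] (b : Module.Basis ι k V) :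
    Function.Surjective (coordHom b) := by
  classical
  cases nonempty_fintype ι
  intro f
  obtain ⟨f, hf⟩ := f
  refine pf_induction (p := fun f => ∀ hf, ∃ a, coordHom b a = ⟨f, hf⟩) hf ?_ ?_ ?_ ?_ hf
  · intro l hl
    refine ⟨∑ i, C (l (b i)) * X i, ?_⟩
    apply Subtype.ext
    ext v
    rw [coordHom_apply]
    simp only [map_sum, map_mul, eval_C, eval_X]
    conv_rhs => rw [← b.sum_repr v, map_sum]
    exact Finset.sum_congr rfl fun i _ => by rw [map_smul, smul_eq_mul, mul_comm]
  · intro c hc
    refine ⟨C c, ?_⟩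
    apply Subtype.ext
    ext v
    rw [coordHom_apply, eval_C]
  · intro f g hf hg h1 h2 hfg
    obtain ⟨a, ha⟩ := h1 hf
    obtain ⟨a', ha'⟩ := h2 hg
    refine ⟨a + a', ?_⟩
    rw [map_add, ha, ha']
    rfl
  · intro f g hf hg h1 h2 hfg
    obtain ⟨a, ha⟩ := h1 hf
    obtain ⟨a', ha'⟩ := h2 hg
    refine ⟨a * a', ?_⟩
    rw [map_mul, ha, ha']
    rfl

theorem codimGE_iff [Infinite k] {ι : Type} [Finite ι] (b : Module.Basis ι k V) (D : Set V) (c : ℕ) :
    CodimGE k D c ↔ (c : ℕ∞) ≤ (vanishingIdeal k (b.equivFun '' D)).height := by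
  let e : MvPolynomial ι k ≃+* polyFunAlg k V :=
    RingEquiv.ofBijective (coordHom b).toRingHom ⟨coordHom_injective b, coordHom_surjective b⟩
  have h : (vanishingFun k D).comap e = vanishingIdeal k (b.equivFun '' D) := by
    ext P
    rw [Ideal.mem_comap, mem_vanishingIdeal_iff]
    constructor
    · rintro h _ ⟨v, hv, rfl⟩
      rw [aeval_eq_eval]
      have h1 : (coordHom b P).1 v = 0 := h v hv
      rw [coordHom_apply] at h1
      exact h1
    · intro h v hv
      have h1 := h _ ⟨v, hv, rfl⟩
      rw [aeval_eq_eval] at h1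
      change (coordHom b P).1 v = 0
      rw [coordHom_apply]
      exact h1
  rw [CodimGE, ← RingEquiv.height_comap e, h]

theorem le_height_iff {R : Type*} [CommRing R] (I : Ideal R) (c : ℕ∞) :
    c ≤ I.height ↔ ∀ P : Ideal R, P.IsPrime → I ≤ P → c ≤ P.height := by
  constructor
  · intro h P _ hIP
    exact h.trans (Ideal.height_mono hIP)
  · intro h
    rw [Ideal.height_eq_inf_minimalPrimes]
    exact le_iInf₂ fun J hJ => h J hJ.1.1 hJ.1.2

theorem codimGE_mono {D D' : Set V} (h : D ⊆ D') {c : ℕ} (hD : CodimGE k D' c) : CodimGE k D c :=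
  hD.trans (Ideal.height_mono fun _ hf v hv => hf v (h hv))

theorem codimGE_anti {D : Set V} {c c' : ℕ} (h : c ≤ c') (hD : CodimGE k D c') : CodimGE k D c :=
  le_trans (by exact_mod_cast h) hD

theorem codimGE_empty (c : ℕ) : CodimGE k (∅ : Set V) c := by
  have h : vanishingFun k (∅ : Set V) = ⊤ := by
    rw [Ideal.eq_top_iff_one]
    exact fun v hv => hv.elim
  rw [CodimGE, h, Ideal.height_top]
  exact le_top

theorem codimGE_union {D D' : Set V} {c : ℕ} (h : CodimGE k D c) (h' : CodimGE k D' c) :
    CodimGE k (D ∪ D') c := by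
  rw [CodimGE, le_height_iff]
  intro P hP hle
  have h1 : vanishingFun k D * vanishingFun k D' ≤ P := by
    refine le_trans ?_ hle
    rw [Ideal.mul_le]
    intro f hf g hg v hv
    change f.1 v * g.1 v = 0
    rcases hv with hv | hv
    · rw [hf v hv, zero_mul]
    · rw [hg v hv, mul_zero]
  rcases hP.mul_le.mp h1 with h2 | h2
  · exact le_trans h (Ideal.height_mono h2)
  · exact le_trans h' (Ideal.height_mono h2)

theorem codimGE_biUnion {ι : Type*} {s : Set ι} (hs : s.Finite) {D : ι → Set V} {c : ℕ}
    (h : ∀ i ∈ s, CodimGE k (D i) c) : CodimGE k (⋃ i ∈ s, D i) c := by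
  induction s, hs using Set.Finite.induction_on with
  | empty => simpa using codimGE_empty c
  | @insert a s ha hs ih =>
    rw [Set.biUnion_insert]
    exact codimGE_union (h a (Set.mem_insert _ _)) (ih fun i hi => h i (Set.mem_insert_of_mem _ hi))

theorem codimGE_equiv [Infinite k] [FiniteDimensional k V] (e : V ≃ₗ[k] W) (D : Set V) (c : ℕ) :
    CodimGE k (e '' D) c ↔ CodimGE k D c := by
  let b := Module.finBasis k V
  rw [codimGE_iff b, codimGE_iff (b.map e)]
  have h : (b.map e).equivFun '' (e '' D) = b.equivFun '' D := by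
    rw [← Set.image_comp]
    refine Set.image_congr fun v _ => ?_
    ext i
    simp
  rw [h]

theorem codimGE_preimage [Infinite k] [FiniteDimensional k V] (e : V ≃ₗ[k] W) (D : Set W) (c : ℕ) :
    CodimGE k (e ⁻¹' D) c ↔ CodimGE k D c := by
  have h : e ⁻¹' D = e.symm '' D := by
    ext v
    constructor
    · intro hv
      exact ⟨e v, hv, e.symm_apply_apply v⟩
    · rintro ⟨w, hw, rfl⟩
      simpa using hw
  rw [h]
  have : FiniteDimensional k W := Module.Finite.equiv e
  exact codimGE_equiv e.symm D c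

/-- A polynomial function in coordinates. -/
theorem exists_mvPoly {ι : Type} [Finite ι] (b : Module.Basis ι k V) {f : V → k} (hf : IsPolyFun k f) :
    ∃ P : MvPolynomial ι k, ∀ v, f v = eval (b.equivFun v) P := by
  obtain ⟨P, hP⟩ := coordHom_surjective b ⟨f, hf⟩
  refine ⟨P, fun v => ?_⟩
  have := coordHom_apply b P v
  rw [hP] at this
  exact this

theorem isPolyFun_eval_coord {ι : Type} [Finite ι] (b : Module.Basis ι k V) (P : MvPolynomial ι k) :
    IsPolyFun k (fun v => eval (b.equivFun v) P) :=
  isPolyFun_eval P fun i => isPolyFun_linear' (b.coord i)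

/-- In coordinates, a closed subset is the zero locus of its vanishing ideal. -/
theorem mem_of_mem_zeroLocus {ι : Type} [Finite ι] (b : Module.Basis ι k V) {D : Set V} (hD : IsZOpen k Dᶜ)
    (v : V) (hv : b.equivFun v ∈ zeroLocus k (vanishingIdeal k (b.equivFun '' D))) : v ∈ D := by
  by_contra hvD
  obtain ⟨f, hf, hfv, hfD⟩ := hD v hvD
  obtain ⟨P, hP⟩ := exists_mvPoly b hf
  apply hfv
  rw [hP]
  have h := hv P (by
    rintro _ ⟨w, hw, rfl⟩
    rw [aeval_eq_eval]
    by_contra hne
    exact hfD w (by rw [hP]; exact hne) hw)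
  rwa [aeval_eq_eval] at h

section Fibre

variable [IsAlgClosed k]

omit [IsAlgClosed k] in
theorem equivFun_prod {ι κ : Type} [Finite ι] [Finite κ] (b : Module.Basis ι k V) (b' : Module.Basis κ k W)
    (v : V) (w : W) : (b.prod b').equivFun (v, w) = Sum.elim (b.equivFun v) (b'.equivFun w) := by
  ext i
  rcases i with i | i <;> simp

theorem le_height_of_slice {ι κ : Type} [Finite ι] [Finite κ] (b : Module.Basis ι k V)
    (b' : Module.Basis κ k W) {Z : Set (V × W)} (hZ : IsZOpen k Zᶜ)
    (P : Ideal (MvPolynomial (ι ⊕ κ) k)) [P.IsPrime] (hP : vanishingIdeal k ((b.prod b').equivFun '' Z) ≤ P)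
    (v : V) (w : W) (hvw : (b.prod b').equivFun (v, w) ∈ zeroLocus k P) (c : ℕ)
    (hc : CodimGE k {w' : W | (v, w') ∈ Z} c) : (c : ℕ∞) ≤ P.height := by
  have : Infinite k := IsAlgClosed.instInfinite
  rw [codimGE_iff b'] at hc
  rw [equivFun_prod] at hvw
  refine hc.trans (le_trans (Ideal.height_mono ?_) (DimMv.height_slice_le P _ _ hvw))
  refine vanishingIdeal_anti_mono ?_
  intro w' hw'
  refine ⟨b'.equivFun.symm w', ?_, by simp⟩
  refine mem_of_mem_zeroLocus (b.prod b') hZ (v, b'.equivFun.symm w') ?_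
  rw [equivFun_prod]
  refine zeroLocus_anti_mono hP ?_
  simpa using hw'

variable [FiniteDimensional k V] [FiniteDimensional k W]

theorem exists_mem_zeroLocus {ι : Type} [Finite ι] (P : Ideal (MvPolynomial ι k)) [hP : P.IsPrime] :
    ∃ x, x ∈ zeroLocus k P := by
  by_contra hcon
  push Not at hcon
  have h := IsPrime.vanishingIdeal_zeroLocus (K := k) P
  rw [Set.eq_empty_of_forall_notMem hcon, vanishingIdeal_empty] at h
  exact hP.ne_top h.symm

/-- A closed subset all of whose fibres over `V` have codimension at least `c` has codimension at least `c`. -/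
theorem codimGE_of_fibres {Z : Set (V × W)} (hZ : IsZOpen k Zᶜ) (c : ℕ)
    (h : ∀ v : V, CodimGE k {w : W | (v, w) ∈ Z} c) : CodimGE k Z c := by
  have : Infinite k := IsAlgClosed.instInfinite
  let b := Module.finBasis k V
  let b' := Module.finBasis k W
  rw [codimGE_iff (b.prod b'), le_height_iff]
  intro P hP hle
  obtain ⟨x, hx⟩ := exists_mem_zeroLocus P
  have hx' : (b.prod b').equivFun ((b.prod b').equivFun.symm x) ∈ zeroLocus k P := by
    rw [LinearEquiv.apply_symm_apply]; exact hx
  exact le_height_of_slice b b' hZ P hle _ _ hx' c (h _)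

omit [IsAlgClosed k] [FiniteDimensional k V] [FiniteDimensional k W] in
theorem isZOpen_compl_closure (T : Set V) :
    IsZOpen k ({v : V | ∀ f ∈ vanishingFun k T, f.1 v = 0}ᶜ : Set V) := by
  intro v hv
  simp only [Set.mem_compl_iff, Set.mem_ofPred_eq, not_forall] at hv
  obtain ⟨f, hf, hfv⟩ := hv
  refine ⟨f.1, f.2, hfv, fun w hw h => hw (h f hf)⟩

omit [IsAlgClosed k] [FiniteDimensional k V] in
theorem codimGE_closure {T : Set V} {c : ℕ} (hT : CodimGE k T c) :
    CodimGE k {v : V | ∀ f ∈ vanishingFun k T, f.1 v = 0} c :=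
  hT.trans (Ideal.height_mono fun f hf _ hv => hv f hf)

omit [IsAlgClosed k] [FiniteDimensional k V] in
theorem subset_closure (T : Set V) : T ⊆ {v : V | ∀ f ∈ vanishingFun k T, f.1 v = 0} :=
  fun v hv _ hf => hf v hv

/-- Cylinders. -/
theorem codimGE_cylinder {T : Set V} {c : ℕ} (hT : CodimGE k T c) :
    CodimGE k {p : V × W | p.1 ∈ T} c := by
  have : Infinite k := IsAlgClosed.instInfinite
  let T' := {v : V | ∀ f ∈ vanishingFun k T, f.1 v = 0}
  have h1 : CodimGE k {p : W × V | p.2 ∈ T'} c := by
    refine codimGE_of_fibres ?_ c fun w => codimGE_closure hT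
    exact zo_preimage (isZOpen_compl_closure T) isPolyMap_snd
  have h2 := (codimGE_preimage (LinearEquiv.prodComm k V W) {p : W × V | p.2 ∈ T'} c).mpr h1
  refine codimGE_mono ?_ h2
  intro p hp
  exact subset_closure T hp

/-- A closed subset of `V × W` whose fibres have codimension at least `c` outside a set `T` which itself has
codimension at least `c` in `V` has codimension at least `c`. -/
theorem codimGE_of_fibres' {Z : Set (V × W)} (hZ : IsZOpen k Zᶜ) (c : ℕ) {T : Set V} (hT : CodimGE k T c)
    (h : ∀ v : V, v ∉ T → CodimGE k {w : W | (v, w) ∈ Z} c) : CodimGE k Z c := by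
  have : Infinite k := IsAlgClosed.instInfinite
  let b := Module.finBasis k V
  let b' := Module.finBasis k W
  rw [codimGE_iff (b.prod b'), le_height_iff]
  intro P hP hle
  by_cases hex : ∃ v : V, ∃ w : W, (b.prod b').equivFun (v, w) ∈ zeroLocus k P ∧ v ∉ T
  · obtain ⟨v, w, hvw, hvT⟩ := hex
    exact le_height_of_slice b b' hZ P hle v w hvw c (h v hvT)
  · push Not at hex
    have h1 := codimGE_cylinder (W := W) hT
    rw [codimGE_iff (b.prod b')] at h1
    refine h1.trans (Ideal.height_mono ?_)
    conv_rhs => rw [← IsPrime.vanishingIdeal_zeroLocus (K := k) P]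
    refine vanishingIdeal_anti_mono ?_
    intro x hx
    refine ⟨(b.prod b').equivFun.symm x, ?_, LinearEquiv.apply_symm_apply _ _⟩
    exact hex _ ((b.prod b').equivFun.symm x).2 (by
      rw [Prod.mk.eta, LinearEquiv.apply_symm_apply]; exact hx)

/-- The origin. -/
theorem codimGE_zero : CodimGE k ({0} : Set V) (Module.finrank k V) := by
  have : Infinite k := IsAlgClosed.instInfinite
  let b := Module.finBasis k V
  rw [codimGE_iff b, Set.image_singleton, map_zero,
    Groth.Agent.CalgC.DimFT.height_mvPolynomial_isMaximal]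

/-- Linear subspaces. -/
theorem codimGE_submodule (L : Submodule k V) (c : ℕ) (hc : c + Module.finrank k L ≤ Module.finrank k V) :
    CodimGE k (L : Set V) c := by
  have : Infinite k := IsAlgClosed.instInfinite
  obtain ⟨L', hL'⟩ := L.exists_isCompl
  have hsum := Submodule.finrank_add_eq_of_isCompl hL'
  let e : (L × L') ≃ₗ[k] V := Submodule.prodEquivOfIsCompl L L' hL'
  rw [← codimGE_preimage e]
  refine codimGE_mono (D' := {p : L × L' | p.2 ∈ ({0} : Set L')}) ?_ ?_
  · rintro ⟨a, b⟩ h
    have h1 : (a : V) + b ∈ L := by simpa [e] using h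
    have h2 : (b : V) ∈ L := (Submodule.add_mem_iff_right L a.2).mp h1
    have h3 : (b : V) ∈ L ⊓ L' := ⟨h2, b.2⟩
    rw [hL'.inf_eq_bot, Submodule.mem_bot] at h3
    simpa using h3
  · refine codimGE_of_fibres ?_ c fun w => ?_
    · refine zo_preimage (S := ({0} : Set L')ᶜ) ?_ isPolyMap_snd
      exact Groth.Agent.Lefpen.H703.Elim.isZOpen_ne_zero
    · exact codimGE_anti (by omega) codimGE_zero

end Fibre

end K714.Codim
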