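import Groth.Agent.CalgC.DimFT
import Mathlib.RingTheory.Nullstellensatz
import Mathlib.RingTheory.Ideal.KrullsHeightTheorem
import Mathlib.RingTheory.Ideal.MinimalPrime.Noetherian

/-!
# Dimension theory of affine space: heights, dimensions, slices and images

`R = k[σ]`, `k` algebraically closed.

* `exists_nat_dim`: for a prime `P` of `k[ι]`: `ht P + dim k[ι]/P = card ι`, all natural numbers.
* `height_slice_le`: a slice `{v} × k^τ` through a point of `V(P) ⊆ k^σ × k^τ` has codimension `≤ ht P` in `k^τ`.
* `exists_vanishing_image`: a polynomial image of `k^σ × D` in `k^ρ` satisfies a nontrivial equation if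
  `card σ + card τ < card ρ + codim D`.
-/

set_option autoImplicit false

namespace K714.DimMv

open MvPolynomial Groth.Agent.CalgC.DimFT

variable {k : Type*} [Field k]

theorem exists_nat_dim {ι : Type*} [Finite ι] (P : Ideal (MvPolynomial ι k)) [P.IsPrime] :
    ∃ d h : ℕ, ringKrullDim (MvPolynomial ι k ⧸ P) = d ∧ Algebra.trdeg k (MvPolynomial ι k ⧸ P) = d ∧
      P.height = h ∧ h + d = Nat.card ι := by
  obtain ⟨d, hd1, hd2, -⟩ := exists_dim k (MvPolynomial ι k ⧸ P)
  have h1 := height_add_ringKrullDim_quotient k (MvPolynomial ι k) P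
  have h2 : ringKrullDim (MvPolynomial ι k) = Nat.card ι := by
    have e := (renameEquiv k (Finite.equivFin ι)).toRingEquiv
    rw [ringKrullDim_eq_of_ringEquiv e, ringKrullDim_mvPolynomial_fin]
  rw [hd1, h2] at h1
  obtain ⟨h, hh⟩ := ENat.ne_top_iff_exists.mp (Ideal.height_ne_top_of_isPrime (I := P))
  rw [← hh] at h1
  exact ⟨d, h, hd1, hd2, hh.symm, by exact_mod_cast h1⟩

/-- Substitution of a point in the first group of variables. -/
noncomputable def slice {σ τ : Type*} (v : σ → k) : MvPolynomial (σ ⊕ τ) k →ₐ[k] MvPolynomial τ k :=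
  aeval (Sum.elim (fun i => C (v i)) X)

theorem slice_surjective {σ τ : Type*} (v : σ → k) :
    Function.Surjective (slice (τ := τ) v) := by
  intro p
  refine ⟨rename Sum.inr p, ?_⟩
  rw [slice, aeval_rename]
  simp

theorem eval_slice {σ τ : Type*} (v : σ → k) (w : τ → k) (p : MvPolynomial (σ ⊕ τ) k) :
    eval w (slice v p) = eval (Sum.elim v w) p := by
  induction p using MvPolynomial.induction_on with
  | C a => simp [slice]
  | add p q hp hq => simp only [map_add, hp, hq]
  | mul_X p j hp =>
    simp only [map_mul, hp]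
    rcases j with j | j <;> simp [slice]

theorem sub_mem_span {σ τ : Type*} (v : σ → k) (p : MvPolynomial (σ ⊕ τ) k) :
    p - rename Sum.inr (slice v p) ∈
      Ideal.span (Set.range fun i : σ => (X (Sum.inl i) : MvPolynomial (σ ⊕ τ) k) - C (v i)) := by
  induction p using MvPolynomial.induction_on with
  | C a => simp [slice]
  | add p q hp hq =>
    have := Ideal.add_mem _ hp hq
    simp only [map_add]
    convert this using 1
    ring
  | mul_X p j hp =>
    rcases j with j | j
    · have h1 := Ideal.mul_mem_right (X (Sum.inl j)) _ hp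
      have h2 : (X (Sum.inl j) : MvPolynomial (σ ⊕ τ) k) - C (v j) ∈
        Ideal.span (Set.range fun i : σ => (X (Sum.inl i) : MvPolynomial (σ ⊕ τ) k) - C (v i)) :=
        Ideal.subset_span ⟨j, rfl⟩
      have h3 := Ideal.add_mem _ h1 (Ideal.mul_mem_left _ (rename Sum.inr (slice v p)) h2)
      convert h3 using 1
      simp only [slice, map_mul, aeval_X, Sum.elim_inl, algHom_C, algebraMap_eq]
      ring
    · have h1 := Ideal.mul_mem_right (X (Sum.inr j)) _ hp
      convert h1 using 1
      simp only [slice, map_mul, aeval_X, Sum.elim_inr, rename_X]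
      ring

theorem ker_slice {σ τ : Type*} (v : σ → k) :
    RingHom.ker (slice (τ := τ) v) =
      Ideal.span (Set.range fun i : σ => (X (Sum.inl i) : MvPolynomial (σ ⊕ τ) k) - C (v i)) := by
  apply le_antisymm
  · intro p hp
    have h := sub_mem_span v p
    rw [RingHom.mem_ker] at hp
    rwa [hp, map_zero, sub_zero] at h
  · rw [Ideal.span_le]
    rintro _ ⟨i, rfl⟩
    simp [slice, RingHom.mem_ker]

variable [IsAlgClosed k]

/-- A slice through a point of a closed set has codimension at most the codimension of the closed set. -/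
theorem height_slice_le {σ τ : Type*} [Finite σ] [Finite τ] (P : Ideal (MvPolynomial (σ ⊕ τ) k)) [P.IsPrime]
    (v : σ → k) (w : τ → k) (h : Sum.elim v w ∈ zeroLocus k P) :
    (vanishingIdeal k {w' : τ → k | Sum.elim v w' ∈ zeroLocus k P}).height ≤ P.height := by
  classical
  set R := MvPolynomial (σ ⊕ τ) k with hR
  set s : Set R := Set.range fun i : σ => (X (Sum.inl i) : R) - C (v i) with hs
  have hle : P ⊔ Ideal.span s ≤ (vanishingIdeal k {(Sum.elim v w : σ ⊕ τ → k)} : Ideal R) := by
    refine sup_le ?_ ?_
    · intro p hp x hx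
      rw [Set.mem_singleton_iff.mp hx]
      exact h p hp
    · rw [Ideal.span_le]
      rintro _ ⟨i, rfl⟩ x hx
      rw [Set.mem_singleton_iff.mp hx]
      simp
  obtain ⟨Q, hQmin, hQle⟩ := Ideal.exists_minimalPrimes_le hle
  have hQ : Q.IsPrime := hQmin.1.1
  have hPQ : P ≤ Q := le_sup_left.trans hQmin.1.2
  have hsQ : Ideal.span s ≤ Q := le_sup_right.trans hQmin.1.2
  -- the image of `Q` modulo `P`
  have h1 : Q.height ≤ P.height + Nat.card σ := by
    set Q1 : Ideal (R ⧸ P) := Q.map (Ideal.Quotient.mk P) with hQ1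
    have hker : RingHom.ker (Ideal.Quotient.mk P) ≤ Q := by rw [Ideal.mk_ker]; exact hPQ
    have hQ1p : Q1.IsPrime := Ideal.map_isPrime_of_surjective Ideal.Quotient.mk_surjective hker
    have h2 := height_add_height_quotient k R P Q1
    rw [hQ1, Ideal.comap_map_mk hPQ, ← hQ1] at h2
    have h3 : Q1 ∈ (Ideal.span (Ideal.Quotient.mk P '' s)).minimalPrimes := by
      rw [← Ideal.map_span, Ideal.minimalPrimes_map_of_surjective Ideal.Quotient.mk_surjective,
        Ideal.mk_ker]
      exact ⟨Q, by rwa [sup_comm], rfl⟩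
    have hfin : s.Finite := Set.finite_range _
    have h4 := Ideal.height_le_card_of_mem_minimalPrimes_span (hfin.image _) h3
    have h5 : (Ideal.Quotient.mk P '' s).ncard ≤ Nat.card σ := by
      refine (Set.ncard_image_le hfin).trans ?_
      rw [← Nat.card_coe_set_eq]
      exact Finite.card_range_le _
    rw [← h2]
    exact add_le_add le_rfl (h4.trans (by exact_mod_cast h5))
  -- the image of `Q` in `k[τ]`
  set Q2 : Ideal (MvPolynomial τ k) := Q.map (slice v) with hQ2
  have hker2 : RingHom.ker (slice (τ := τ) v) ≤ Q := by rw [ker_slice]; exact hsQ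
  have hQ2p : Q2.IsPrime := Ideal.map_isPrime_of_surjective (slice_surjective v) hker2
  have hcomap : Q2.comap (slice v) = Q := by
    rw [hQ2, Ideal.comap_map_of_surjective _ (slice_surjective v)]
    exact sup_eq_left.mpr hker2
  have h6 : Q2.height + Nat.card σ = Q.height := by
    obtain ⟨d, a, hd, -, ha, had⟩ := exists_nat_dim Q
    obtain ⟨d', a', hd', -, ha', had'⟩ := exists_nat_dim Q2
    have e : (R ⧸ Q) ≃+* (MvPolynomial τ k ⧸ Q2) := by
      refine (Ideal.quotEquivOfEq hcomap.symm).trans ?_
      exact RingEquiv.ofBijective (Ideal.quotientMap Q2 (slice v).toRingHom le_rfl)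
        ⟨Ideal.quotientMap_injective, Ideal.quotientMap_surjective (slice_surjective v)⟩
    have hdd : d = d' := by
      have := ringKrullDim_eq_of_ringEquiv e
      rw [hd, hd'] at this
      exact_mod_cast this
    rw [ha, ha']
    rw [Nat.card_sum] at had
    have : a' + Nat.card σ = a := by omega
    exact_mod_cast this
  have h7 : Q2.height ≤ P.height := by
    rw [← h6] at h1
    exact (ENat.add_le_add_iff_right (ENat.natCast_ne_top _)).mp h1
  refine le_trans (Ideal.height_mono ?_) h7
  intro g hg
  rw [← IsPrime.vanishingIdeal_zeroLocus (K := k) Q2]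
  intro w' hw'
  apply hg
  intro p hp
  have h8 := hw' (slice v p) (Ideal.mem_map_of_mem _ (hPQ hp))
  rw [aeval_eq_eval] at h8 ⊢
  rwa [eval_slice] at h8

end K714.DimMv
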