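import Groth.Agent.Fano.K714.TypeConst2
import Groth.Agent.Lefpen.H702.Engine

/-!
# Smooth hyperplane sections through a line of a smooth cubic threefold
-/

set_option autoImplicit false

universe u

namespace K714.Bertini

open K656.Trilin Module K714.Surf K714.SurfGeo LefPen Groth.Agent.Lefpen.H703.ZOpen MvPolynomial

/-- Expansion of a trilinear form. -/
theorem tri_expand {k V ι : Type*} [Field k] [AddCommGroup V] [Module k V] [Fintype ι]
    (T : V →ₗ[k] V →ₗ[k] V →ₗ[k] k) (B : ι → V) (x y z : ι → k) :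
    T (∑ j, x j • B j) (∑ l, y l • B l) (∑ m, z m • B m) =
      ∑ j, ∑ l, ∑ m, T (B j) (B l) (B m) * x j * y l * z m := by
  have e1 : ∀ (v w : V), T (∑ j, x j • B j) v w = ∑ j, x j * T (B j) v w := by
    intro v w
    simp only [map_sum, LinearMap.sum_apply, map_smul, LinearMap.smul_apply, smul_eq_mul]
  have e2 : ∀ (u w : V), T u (∑ j, y j • B j) w = ∑ j, y j * T u (B j) w := by
    intro v w
    simp only [map_sum, LinearMap.sum_apply, map_smul, LinearMap.smul_apply, smul_eq_mul]
  have e3 : ∀ (u w : V), T u w (∑ j, z j • B j) = ∑ j, z j * T u w (B j) := by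
    intro v w
    simp only [map_sum, map_smul, smul_eq_mul]
  rw [e1]
  refine Finset.sum_congr rfl fun j _ => ?_
  rw [e2, Finset.mul_sum]
  refine Finset.sum_congr rfl fun l _ => ?_
  rw [e3, Finset.mul_sum, Finset.mul_sum]
  refine Finset.sum_congr rfl fun m _ => ?_
  ring

section Field

variable {k K : Type*} [Field k] [Field K] [Algebra k K] [CharZero k]

/-- The cubic has no "generic" tangent hyperplane containing the line. -/
theorem no_generic (C : Fin 2 ⊕ Fin 3 → Fin 2 ⊕ Fin 3 → Fin 2 ⊕ Fin 3 → k)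
    (h12 : ∀ i j l, C i j l = C j i l) (h23 : ∀ i j l, C i j l = C i l j)
    (p : Fin 2 ⊕ Fin 3 → K) (y : Fin 3 → K)
    (h0 : ∀ i : Fin 2, ∑ l, ∑ m, algebraMap k K (C (Sum.inl i) l m) * p l * p m = 0)
    (h1 : ∀ i : Fin 3, ∑ l, ∑ m, algebraMap k K (C (Sum.inr i) l m) * p l * p m = y i)
    (h3 : ∑ j, ∑ l, ∑ m, algebraMap k K (C j l m) * p j * p l * p m = 0) :
    ¬ AlgebraicIndependent k y := by
  intro hy
  have hK : CharZero K := charZero_of_injective_algebraMap (algebraMap k K).injective
  have hsym : ∀ i j l, C i j l = C l j i := fun i j l => by rw [h12 i j l, h23 j i l, h12 j l i]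
  -- derivative of the quadratic forms
  have hd1 : ∀ (D : Derivation k K K) (j : Fin 2 ⊕ Fin 3),
      D (∑ l, ∑ m, algebraMap k K (C j l m) * p l * p m) =
        2 * ∑ l, ∑ m, algebraMap k K (C j l m) * p l * D (p m) := by
    intro D j
    rw [map_sum, two_mul]
    conv_rhs =>
      enter [2]
      rw [Finset.sum_comm]
    rw [← Finset.sum_add_distrib]
    refine Finset.sum_congr rfl fun l _ => ?_
    rw [map_sum, ← Finset.sum_add_distrib]
    refine Finset.sum_congr rfl fun m _ => ?_
    rw [Derivation.leibniz, Derivation.leibniz, Derivation.map_algebraMap, h23 j m l]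
    simp only [smul_eq_mul]
    ring
  -- derivative of the cubic form
  have hd3 : ∀ (D : Derivation k K K), ∑ j, p j * D (∑ l, ∑ m, algebraMap k K (C j l m) * p l * p m) = 0 := by
    intro D
    have e1 := congrArg D h3
    rw [map_zero, map_sum] at e1
    have e2 : ∀ j, D (∑ l, ∑ m, algebraMap k K (C j l m) * p j * p l * p m) =
        p j * D (∑ l, ∑ m, algebraMap k K (C j l m) * p l * p m) +
          (∑ l, ∑ m, algebraMap k K (C j l m) * p l * p m) * D (p j) := by
      intro j
      have : ∑ l, ∑ m, algebraMap k K (C j l m) * p j * p l * p m =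
          p j * ∑ l, ∑ m, algebraMap k K (C j l m) * p l * p m := by
        rw [Finset.mul_sum]
        refine Finset.sum_congr rfl fun l _ => ?_
        rw [Finset.mul_sum]
        exact Finset.sum_congr rfl fun m _ => by ring
      rw [this, Derivation.leibniz]
      simp only [smul_eq_mul]
    simp only [e2] at e1
    rw [Finset.sum_add_distrib] at e1
    -- the second sum is half the first one
    have e3 : ∑ j, p j * D (∑ l, ∑ m, algebraMap k K (C j l m) * p l * p m) =
        2 * ∑ j, (∑ l, ∑ m, algebraMap k K (C j l m) * p l * p m) * D (p j) := by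
      simp only [hd1]
      have e4 : ∑ j, p j * (2 * ∑ l, ∑ m, algebraMap k K (C j l m) * p l * D (p m)) =
          2 * ∑ j, ∑ l, ∑ m, algebraMap k K (C j l m) * p j * p l * D (p m) := by
        rw [Finset.mul_sum]
        refine Finset.sum_congr rfl fun j _ => ?_
        have : ∑ l, ∑ m, algebraMap k K (C j l m) * p j * p l * D (p m) =
            p j * ∑ l, ∑ m, algebraMap k K (C j l m) * p l * D (p m) := by
          rw [Finset.mul_sum]
          refine Finset.sum_congr rfl fun l _ => ?_
          rw [Finset.mul_sum]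
          exact Finset.sum_congr rfl fun m _ => by ring
        rw [this]; ring
      have e5 : ∑ j, (∑ l, ∑ m, algebraMap k K (C j l m) * p l * p m) * D (p j) =
          ∑ j, ∑ l, ∑ m, algebraMap k K (C j l m) * p l * p m * D (p j) := by
        refine Finset.sum_congr rfl fun j _ => ?_
        rw [Finset.sum_mul]
        refine Finset.sum_congr rfl fun l _ => ?_
        rw [Finset.sum_mul]
      rw [e4, e5]
      congr 1
      conv_lhs =>
        enter [2, j]
        rw [Finset.sum_comm]
      rw [Finset.sum_comm]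
      refine Finset.sum_congr rfl fun j _ => ?_
      refine Finset.sum_congr rfl fun l _ => ?_
      refine Finset.sum_congr rfl fun m _ => ?_
      rw [h12 l m j, hsym m l j]
    have h32 : (3 : K) ≠ 0 := by norm_num
    rw [e3] at e1
    have e6 : 3 * ∑ j, (∑ l, ∑ m, algebraMap k K (C j l m) * p l * p m) * D (p j) = 0 := by
      linear_combination e1
    rw [e3, (mul_eq_zero.1 e6).resolve_left h32, mul_zero]
  -- the last three coordinates vanish
  have hz : ∀ i : Fin 3, p (Sum.inr i) = 0 := by
    intro i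
    obtain ⟨D, hD⟩ := Groth.Agent.Lefpen.H702.Generic.exists_derivation y hy (Pi.single i 1)
    have := hd3 D
    rw [Fintype.sum_sum_type] at this
    simp only [h0, h1, map_zero, mul_zero, Finset.sum_const_zero, zero_add, hD] at this
    simpa [Pi.single_apply] using this
  -- too few parameters
  have hyi : ∀ (D : Derivation k K K) (i : Fin 3), D (y i) = D (p (Sum.inl 0)) *
      (2 * ∑ l : Fin 2, algebraMap k K (C (Sum.inr i) (Sum.inl l) (Sum.inl 0)) * p (Sum.inl l)) +
      D (p (Sum.inl 1)) *
      (2 * ∑ l : Fin 2, algebraMap k K (C (Sum.inr i) (Sum.inl l) (Sum.inl 1)) * p (Sum.inl l)) := by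
    intro D i
    rw [← h1 i, hd1]
    simp only [Fintype.sum_sum_type, hz, mul_zero, zero_mul, Finset.sum_const_zero, add_zero,
      map_zero, Fin.sum_univ_two]
    ring
  let P : Fin 3 → K := fun i =>
    2 * ∑ l : Fin 2, algebraMap k K (C (Sum.inr i) (Sum.inl l) (Sum.inl 0)) * p (Sum.inl l)
  let Q : Fin 3 → K := fun i =>
    2 * ∑ l : Fin 2, algebraMap k K (C (Sum.inr i) (Sum.inl l) (Sum.inl 1)) * p (Sum.inl l)
  have hspan : (⊤ : Submodule K (Fin 3 → K)) ≤ Submodule.span K {P, Q} := by
    intro u _
    obtain ⟨D, hD⟩ := Groth.Agent.Lefpen.H702.Generic.exists_derivation y hy u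
    rw [Submodule.mem_span_pair]
    refine ⟨D (p (Sum.inl 0)), D (p (Sum.inl 1)), ?_⟩
    funext i
    rw [← hD i, hyi D i]
    rfl
  have h4 := Submodule.finrank_mono hspan
  rw [finrank_top, finrank_fin_fun] at h4
  have h5 : finrank K ↥(Submodule.span K ({P, Q} : Set (Fin 3 → K))) ≤ 2 := by
    classical
    have := finrank_span_finset_le_card (R := K) ({P, Q} : Finset (Fin 3 → K))
    rw [Set.finrank, Finset.coe_insert, Finset.coe_singleton] at this
    exact this.trans (Finset.card_le_two)
  omega

end Field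

variable {k : Type u} [Field k] [IsAlgClosed k] [CharZero k]
variable {V : Type u} [AddCommGroup V] [Module k V] [FiniteDimensional k V]
variable {T : V →ₗ[k] V →ₗ[k] V →ₗ[k] k}

/-- A line of a smooth cubic threefold lies on a smooth hyperplane section. -/
theorem exists_smooth_section (hT : IsSym3 T) (hV : finrank k V = 5) (hsm : SmoothOn T ⊤)
    {M : Submodule k V} (hM : finrank k ↥M = 2) :
    ∃ ξ : Dual k V, ξ ≠ 0 ∧ M ≤ LinearMap.ker ξ ∧ SmoothOn T (LinearMap.ker ξ) := by
  have hinf : Infinite k := IsAlgClosed.instInfinite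
  obtain ⟨C, hC⟩ := Submodule.exists_isCompl M
  have hCf : finrank k ↥C = 3 := by
    have := Submodule.finrank_add_eq_of_isCompl hC
    omega
  let bM : Basis (Fin 2) k ↥M := finBasisOfFinrankEq k ↥M hM
  let bC : Basis (Fin 3) k ↥C := finBasisOfFinrankEq k ↥C hCf
  let B : Basis (Fin 2 ⊕ Fin 3) k V := (bM.prod bC).map (Submodule.prodEquivOfIsCompl M C hC)
  have hBl : ∀ i, B (Sum.inl i) = (bM i : V) := fun i => by simp [B]
  have hBr : ∀ i, B (Sum.inr i) = (bC i : V) := fun i => by simp [B]
  let Cf : Fin 2 ⊕ Fin 3 → Fin 2 ⊕ Fin 3 → Fin 2 ⊕ Fin 3 → k := fun i j l => T (B i) (B j) (B l)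
  let ξ : (Fin 3 → k) → Dual k V := fun y => ∑ i, y i • B.coord (Sum.inr i)
  have hξl : ∀ y i, ξ y (B (Sum.inl i)) = 0 := by
    intro y i
    simp [ξ]
  have hξr : ∀ y i, ξ y (B (Sum.inr i)) = y i := by
    intro y i
    simp [ξ, Finsupp.single_apply]
  have hgen : IsGeneric k {y : Fin 3 → k | y ≠ 0 ∧ SmoothOn T (LinearMap.ker (ξ y))} := by
    have hg : IsGeneric k {y : Fin 3 → k | SmoothOn T (LinearMap.ker (ξ y))} := by
      let S : Set (MvPolynomial (Fin 3 ⊕ (Fin 2 ⊕ Fin 3)) k) :=
        (Set.range fun i : Fin 2 => ∑ l, ∑ m, MvPolynomial.C (Cf (Sum.inl i) l m) * X (Sum.inr l) *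
          X (Sum.inr m)) ∪
        (Set.range fun i : Fin 3 => ∑ l, ∑ m, MvPolynomial.C (Cf (Sum.inr i) l m) * X (Sum.inr l) *
          X (Sum.inr m) - X (Sum.inl i)) ∪
        {∑ j, ∑ l, ∑ m, MvPolynomial.C (Cf j l m) * X (Sum.inr j) * X (Sum.inr l) * X (Sum.inr m)}
      refine Groth.Agent.Lefpen.H702.Engine.isGeneric_of_system (LinearEquiv.refl k (Fin 3 → k)) S ?_ ?_
      · intro K _ _ y p hS
        refine no_generic Cf (fun i j l => hT.s12 _ _ _) (fun i j l => hT.s23 _ _ _) p y ?_ ?_ ?_
        · intro i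
          have := hS _ (Or.inl (Or.inl ⟨i, rfl⟩))
          simpa using this
        · intro i
          have := hS _ (Or.inl (Or.inr ⟨i, rfl⟩))
          rw [map_sub, sub_eq_zero] at this
          simpa using this
        · have := hS _ (Or.inr rfl)
          simpa using this
      · intro y hy
        simp only [Set.mem_ofPred_eq, SmoothOn, not_forall, not_exists, not_and, not_not] at hy
        obtain ⟨v, hvξ, hv0, hvv, hvw⟩ := hy
        -- `T v v` is a multiple of `ξ y`
        have hy0 : ξ y ≠ 0 := by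
          intro h0
          obtain ⟨w, -, hw⟩ := hsm v trivial hv0 hvv
          exact hw (hvw w (by rw [h0]; trivial))
        obtain ⟨w0, hw0⟩ : ∃ w, ξ y w ≠ 0 := by
          by_contra hcon
          push Not at hcon
          exact hy0 (LinearMap.ext hcon)
        set c := T v v w0 / ξ y w0 with hc
        have hcT : ∀ w, T v v w = c * ξ y w := by
          intro w
          have h1 : w - (ξ y w / ξ y w0) • w0 ∈ LinearMap.ker (ξ y) := by
            rw [LinearMap.mem_ker, map_sub, map_smul, smul_eq_mul]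
            field_simp
            ring
          have h2 := hvw _ h1
          rw [map_sub, map_smul, smul_eq_mul, sub_eq_zero] at h2
          rw [h2, hc]
          field_simp
        have hc0 : c ≠ 0 := by
          intro h0
          obtain ⟨w, -, hw⟩ := hsm v trivial hv0 hvv
          exact hw (by rw [hcT, h0, zero_mul])
        obtain ⟨r, hr⟩ := IsAlgClosed.exists_pow_nat_eq (c⁻¹) (n := 2) (by norm_num)
        have hpT : ∀ w, T (r • v) (r • v) w = ξ y w := by
          intro w
          simp only [map_smul, LinearMap.smul_apply, smul_eq_mul, hcT]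
          have : r * (r * (c * ξ y w)) = (r ^ 2 * c) * ξ y w := by ring
          rw [this, hr, inv_mul_cancel₀ hc0, one_mul]
        have hrepr : r • v = ∑ l, (B.repr (r • v) l) • B l := (B.sum_repr _).symm
        have hexp : ∀ w, T (r • v) (r • v) w =
            ∑ l, ∑ m, T w (B l) (B m) * B.repr (r • v) l * B.repr (r • v) m := by
          intro w
          conv_lhs => rw [hrepr]
          simp only [map_sum, map_smul, LinearMap.sum_apply, LinearMap.smul_apply, smul_eq_mul,
            Finset.mul_sum]
          rw [Finset.sum_comm]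
          refine Finset.sum_congr rfl fun l _ => Finset.sum_congr rfl fun m _ => ?_
          rw [hT.rot' (B l) (B m) w]
          ring
        refine ⟨fun l => B.repr (r • v) l, ?_⟩
        rintro P ((⟨i, rfl⟩ | ⟨i, rfl⟩) | hP)
        · have h1 := hpT (B (Sum.inl i))
          rw [hexp, hξl] at h1
          simpa using h1
        · have h1 := hpT (B (Sum.inr i))
          rw [hexp, hξr] at h1
          simp only [LinearEquiv.refl_apply, map_sub, aeval_X, Sum.elim_inl, sub_eq_zero]
          simpa using h1
        · rw [Set.mem_singleton_iff.1 hP]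
          have h1 : T (r • v) (r • v) (r • v) = 0 := by
            rw [LinearMap.mem_ker] at hvξ
            rw [hpT, map_smul, hvξ, smul_zero]
          rw [hrepr, tri_expand] at h1
          simpa [Cf] using h1
    obtain ⟨f, hf, hv, h⟩ := hg
    obtain ⟨w, hw⟩ := exists_mul_ne_zero hf (isPolyFun_linear' (LinearMap.proj 0 : (Fin 3 → k) →ₗ[k] k))
      hv ⟨Pi.single 0 1, by simp⟩
    refine ⟨fun v => f v * (LinearMap.proj 0 : (Fin 3 → k) →ₗ[k] k) v,
      pf_mul hf (isPolyFun_linear' _), ⟨w, hw⟩, fun v hv => ⟨?_, h v (left_ne_zero_of_mul hv)⟩⟩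
    intro h0
    rw [h0] at hv
    simp at hv
  obtain ⟨f', -, ⟨y, hfy⟩, hgen'⟩ := hgen
  obtain ⟨hy0, hy⟩ := hgen' y hfy
  refine ⟨ξ y, ?_, ?_, hy⟩
  · intro h
    apply hy0
    funext i
    rw [← hξr y i, h]
    rfl
  · intro v hv
    have h1 : (⟨v, hv⟩ : ↥M) = ∑ i, bM.repr ⟨v, hv⟩ i • bM i := (bM.sum_repr _).symm
    have h2 := congrArg Subtype.val h1
    simp only [Fin.sum_univ_two, Submodule.coe_add, Submodule.coe_smul] at h2
    rw [LinearMap.mem_ker, h2, map_add, map_smul, map_smul, ← hBl, ← hBl, hξl, hξl]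
    simp

end K714.Bertini
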