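import Groth.Agent.Fano.K714.SurfGeo
import Groth.Agent.Fano.K714.Bertini
import Groth.Agent.S12425
import Groth.Agent.S11851

/-!
# Five tritangent planes through each line; existence of lines
-/

set_option autoImplicit false

universe u

namespace K714.Five

open K656.Trilin Module K714.Surf K714.SurfGeo MvPolynomial

variable {k : Type u} [Field k] [IsAlgClosed k] [CharZero k]
variable {V : Type u} [AddCommGroup V] [Module k V] [FiniteDimensional k V]
variable {T : V →ₗ[k] V →ₗ[k] V →ₗ[k] k}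

omit [IsAlgClosed k] [FiniteDimensional k V] in
/-- The cubic polynomial of a trilinear form in coordinates. -/
theorem exists_poly (T : V →ₗ[k] V →ₗ[k] V →ₗ[k] k) {n : ℕ} (Φ : (Fin n → k) →ₗ[k] V) :
    ∃ F : MvPolynomial (Fin n) k, F.IsHomogeneous 3 ∧ ∀ v, eval v F = T (Φ v) (Φ v) (Φ v) := by
  refine ⟨∑ i, ∑ j, ∑ l, C (T (Φ (Pi.single i 1)) (Φ (Pi.single j 1)) (Φ (Pi.single l 1))) * X i *
    X j * X l, ?_, ?_⟩
  · refine IsHomogeneous.sum _ _ _ fun i _ => IsHomogeneous.sum _ _ _ fun j _ =>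
      IsHomogeneous.sum _ _ _ fun l _ => ?_
    exact (((isHomogeneous_C _ _).mul (isHomogeneous_X k i)).mul (isHomogeneous_X k j)).mul
      (isHomogeneous_X k l)
  · intro v
    have hv : Φ v = ∑ i, v i • Φ (Pi.single i 1) := by
      conv_lhs => rw [← Finset.univ_sum_single v, map_sum]
      refine Finset.sum_congr rfl fun i _ => ?_
      rw [← map_smul, ← Pi.single_smul, smul_eq_mul, mul_one]
    rw [hv, K714.Bertini.tri_expand]
    simp only [map_sum, map_mul, eval_C, eval_X]

omit [IsAlgClosed k] [FiniteDimensional k V] in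
/-- Smoothness in terms of the polynomial. -/
theorem smooth_poly (hT : IsSym3 T) {n : ℕ} {Φ : (Fin n → k) →ₗ[k] V}
    (hΦ : Function.Injective Φ) (hsm : SmoothOn T (LinearMap.range Φ))
    {F : MvPolynomial (Fin n) k} (hF : F.IsHomogeneous 3)
    (hFe : ∀ v, eval v F = T (Φ v) (Φ v) (Φ v)) :
    ∀ v : Fin n → k, v ≠ 0 → eval v F = 0 → ∃ i, eval v (pderiv i F) ≠ 0 := by
  intro v hv h0
  have htri : tri F = (T.compl₁₂ Φ Φ).compr₂ (LinearMap.lcomp k k Φ) := by
    refine (tri_sym F).ext_diag ⟨fun u v w => ?_, fun u v w => ?_⟩ fun v => ?_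
    · exact hT.s12 _ _ _
    · exact hT.s23 _ _ _
    · rw [tri_diag hF, hFe]; rfl
  rw [exists_pderiv_ne_zero_iff hF]
  obtain ⟨w, ⟨w', rfl⟩, hw⟩ := hsm (Φ v) ⟨v, rfl⟩ (fun h => hv (hΦ (h.trans (map_zero Φ).symm)))
    (by rw [← hFe]; exact h0)
  exact ⟨w', by rw [htri]; exact hw⟩

/-- The five planes axiom for smooth cubic surfaces. -/
theorem five (hT : IsSym3 T) {W : Submodule k V} (hW : finrank k ↥W = 4) (hsm : SmoothOn T W) :
    Five T W := by
  classical
  intro x
  obtain ⟨x, hx, hxW⟩ := x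
  let bW : Basis (Fin 4) k ↥W := finBasisOfFinrankEq k ↥W hW
  let Φ : (Fin 4 → k) →ₗ[k] V := W.subtype.comp bW.equivFun.symm.toLinearMap
  have hΦ : Function.Injective Φ := by
    intro c d h
    exact bW.equivFun.symm.injective (Subtype.ext h)
  have hr : LinearMap.range Φ = W := by
    rw [LinearMap.range_comp, LinearEquiv.range, Submodule.map_top, Submodule.range_subtype]
  obtain ⟨F, hF, hFe⟩ := exists_poly T Φ
  have hsmF := smooth_poly hT hΦ (by rw [hr]; exact hsm) hF hFe
  have hF0 : F ≠ 0 := by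
    rintro rfl
    have h1 : (Pi.single 0 1 : Fin 4 → k) ≠ 0 := by
      intro h2
      have := congrFun h2 0
      simp at this
    obtain ⟨i, hi⟩ := hsmF _ h1 (map_zero _)
    simp at hi
  have hcomap : ∀ U : Submodule k V, U ≤ W → (U.comap Φ).map Φ = U := by
    intro U hU
    rw [Submodule.map_comap_eq, inf_eq_right, hr]
    exact hU
  have hcf : ∀ U : Submodule k V, U ≤ W → finrank k ↥(U.comap Φ) = finrank k ↥U := by
    intro U hU
    rw [(Submodule.equivMapOfInjective _ hΦ (U.comap Φ)).finrank_eq, hcomap U hU]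
  have hmf : ∀ U : Submodule k (Fin 4 → k), finrank k ↥(U.map Φ) = finrank k ↥U := by
    intro U
    exact (Submodule.equivMapOfInjective _ hΦ U).finrank_eq.symm
  have h5 := Groth.Agent.S12425.result k F hF hF0 hsmF (x.comap Φ) (by rw [hcf x hxW]; exact hx.1)
    (fun u hu => by rw [hFe]; exact hx.2 _ hu)
  set S := {H : Submodule k (Fin 4 → k) | Module.finrank k ↥H = 3 ∧ x.comap Φ ≤ H ∧
      ∃ L' L'' : Submodule k (Fin 4 → k), Module.finrank k ↥L' = 2 ∧ Module.finrank k ↥L'' = 2 ∧
        L' ≠ x.comap Φ ∧ L'' ≠ x.comap Φ ∧ L' ≠ L'' ∧ L' ≤ H ∧ L'' ≤ H ∧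
        (∀ u ∈ L', MvPolynomial.eval u F = 0) ∧ (∀ u ∈ L'', MvPolynomial.eval u F = 0)} with hS
  have hfin : S.Finite := Set.finite_of_ncard_ne_zero (by rw [h5]; norm_num)
  have hcard : hfin.toFinset.card = 5 := by
    rw [← Set.ncard_eq_toFinset_card S hfin]; exact h5
  let e : Fin 5 ≃ hfin.toFinset := (Finset.equivFinOfCardEq hcard).symm
  have he : ∀ i, (e i).1 ∈ S := fun i => hfin.mem_toFinset.1 (e i).2
  choose hH3 hxH L' L'' h1 h2 h3 h4 h6 h7 h8 h9 h10 using he
  have hline : ∀ L : Submodule k (Fin 4 → k), finrank k ↥L = 2 → (∀ u ∈ L, eval u F = 0) →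
      IsLine T (L.map Φ) := by
    intro L hL h0
    refine ⟨by rw [hmf, hL], ?_⟩
    rintro _ ⟨u, hu, rfl⟩
    rw [← hFe]; exact h0 u hu
  have hmapW : ∀ L : Submodule k (Fin 4 → k), L.map Φ ≤ W := by
    intro L
    rw [← hr]; exact LinearMap.map_le_range
  have hinjm : Function.Injective (Submodule.map Φ) := Submodule.map_injective_of_injective hΦ
  refine ⟨fun i => ⟨(L' i).map Φ, hline _ (h1 i) (h9 i), hmapW _⟩,
    fun i => ⟨(L'' i).map Φ, hline _ (h2 i) (h10 i), hmapW _⟩, ?_, ?_⟩
  · intro i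
    refine ⟨⟨?_, ?_, ?_⟩, ((e i).1).map Φ, by rw [hmf, hH3], ?_, Submodule.map_mono (h7 i),
      Submodule.map_mono (h8 i)⟩
    · intro h
      apply h3 i
      apply hinjm
      rw [hcomap x hxW]; exact h.symm
    · intro h
      apply h4 i
      apply hinjm
      rw [hcomap x hxW]; exact h.symm
    · intro h
      exact h6 i (hinjm h)
    · have := Submodule.map_mono (f := Φ) (hxH i)
      rwa [hcomap x hxW] at this
  · intro i j hij
    -- the plane is determined by one residual line
    have hpl : ∀ (i : Fin 5) (L : Submodule k (Fin 4 → k)), finrank k ↥L = 2 → L ≠ x.comap Φ →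
        L ≤ (e i).1 → (e i).1 = x.comap Φ ⊔ L := by
      intro i L hL hne hle
      symm
      refine Submodule.eq_of_le_of_finrank_le (sup_le (hxH i) hle) ?_
      rw [hH3]
      have hlt : x.comap Φ < x.comap Φ ⊔ L := by
        refine lt_of_le_of_ne le_sup_left fun h => hne ?_
        have : L ≤ x.comap Φ := by rw [h]; exact le_sup_right
        exact Submodule.eq_of_le_of_finrank_eq this (by rw [hL, hcf x hxW, hx.1])
      have := Submodule.finrank_lt_finrank_of_lt hlt
      rw [hcf x hxW, hx.1] at this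
      omega
    constructor
    · intro h
      have h' : L' i = L' j := hinjm (congrArg Subtype.val h)
      apply hij
      apply e.injective
      apply Subtype.ext
      rw [hpl i (L' i) (h1 i) (h3 i) (h7 i), hpl j (L' j) (h1 j) (h3 j) (h7 j), h']
    · intro h
      have h' : L' i = L'' j := hinjm (congrArg Subtype.val h)
      apply hij
      apply e.injective
      apply Subtype.ext
      rw [hpl i (L' i) (h1 i) (h3 i) (h7 i), hpl j (L'' j) (h2 j) (h4 j) (h8 j), h']

/-- Every cubic surface contains a line. -/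
theorem exists_line (T : V →ₗ[k] V →ₗ[k] V →ₗ[k] k) {W : Submodule k V} (hW : finrank k ↥W = 4) :
    ∃ U : Submodule k V, IsLine T U ∧ U ≤ W := by
  let bW : Basis (Fin 4) k ↥W := finBasisOfFinrankEq k ↥W hW
  let Φ : (Fin 4 → k) →ₗ[k] V := W.subtype.comp bW.equivFun.symm.toLinearMap
  have hΦ : Function.Injective Φ := by
    intro c d h
    exact bW.equivFun.symm.injective (Subtype.ext h)
  have hr : LinearMap.range Φ = W := by
    rw [LinearMap.range_comp, LinearEquiv.range, Submodule.map_top, Submodule.range_subtype]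
  obtain ⟨F, hF, hFe⟩ := exists_poly T Φ
  obtain ⟨U, hU, hU0⟩ := Groth.Agent.S11851.result k 3 3 (by norm_num) (by norm_num) F hF
  refine ⟨U.map Φ, ⟨?_, ?_⟩, ?_⟩
  · rw [← (Submodule.equivMapOfInjective _ hΦ U).finrank_eq]; exact hU
  · rintro _ ⟨u, hu, rfl⟩
    rw [← hFe]; exact hU0 u hu
  · rw [← hr]; exact LinearMap.map_le_range

end K714.Five
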