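import Groth.Agent.Fano.K714.RatDef

/-!
# Elliptic quartics on a cubic threefold as residual complete intersections (definitions)

A decomposition `f = v₀ M₀ + v₁ M₁ + v₂ M₂` of the cubic form `f` with three linearly independent linear forms
`v_j` (given by their coefficient vectors) and three quadratic forms `M_j` (given by coefficient matrices)
defines the curve `V_+(v₀, M₁, M₂) ⊂ V_+(f)`, the intersection of two quadrics in the hyperplane `v₀ = 0`.
-/

set_option autoImplicit false
universe u
open CategoryTheory CategoryTheory.Limits AlgebraicGeometry TopologicalSpace Opposite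

namespace Groth.Agent.Fano.K714.Quart

open Groth.Agent.Fano.K714.Rat

variable {k : Type u} [Field k]

/-- The linear form with coefficients `v`. -/
noncomputable def lin (v : Fin 5 → k) : LefPen.Form 4 k 1 :=
  ∑ i, v i • (⟨MvPolynomial.X i, LefPen.X_mem 4 k i⟩ : LefPen.Form 4 k 1)

/-- The quadratic form with coefficient matrix `M`. -/
noncomputable def quad (M : Fin 5 → Fin 5 → k) : LefPen.Form 4 k 2 :=
  ∑ i, ∑ j, M i j • (⟨MvPolynomial.X i * MvPolynomial.X j,
    (MvPolynomial.mem_homogeneousSubmodule _ _).mpr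
      ((MvPolynomial.isHomogeneous_X k i).mul (MvPolynomial.isHomogeneous_X k j))⟩ : LefPen.Form 4 k 2)

theorem eval_lin (v x : Fin 5 → k) : MvPolynomial.eval x (lin v).1 = ∑ i, v i * x i := by
  simp [lin, MvPolynomial.smul_eval]

theorem eval_quad (M : Fin 5 → Fin 5 → k) (x : Fin 5 → k) :
    MvPolynomial.eval x (quad M).1 = ∑ i, ∑ j, M i j * (x i * x j) := by
  simp [quad, MvPolynomial.smul_eval]

/-- The parameter space: three vectors and three matrices. -/
abbrev Data (k : Type u) : Type u := (Fin 3 → Fin 5 → k) × (Fin 3 → Fin 5 → Fin 5 → k)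

/-- The coordinates of a point of the parameter space. -/
def coord (p : Data k) : (Fin 3 × Fin 5) ⊕ (Fin 3 × Fin 5 × Fin 5) → k :=
  Sum.elim (fun q => p.1 q.1 q.2) (fun q => p.2 q.1 q.2.1 q.2.2)

/-- The decompositions of `f`. -/
def Sol (f : LefPen.Form 4 k 3) : Set (Data k) :=
  {p | LinearIndependent k p.1 ∧ f.1 = ∑ j : Fin 3, (lin (p.1 j)).1 * (quad (p.2 j)).1}

/-- The ideal sheaf on `P^4` of the curve `V_+(v₀, M₁, M₂)`. -/
noncomputable def cI (p : Data k) : (CohB1.ProjSpace 4 k).IdealSheafData :=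
  LefPen.hypIdeal (lin (p.1 0)) ⊔ LefPen.hypIdeal (quad (p.2 1)) ⊔ LefPen.hypIdeal (quad (p.2 2))

/-- The curve is smooth of dimension one. -/
def Good (p : Data k) : Prop :=
  Smooth ((cI p).subschemeι ≫ CohB1.ProjSpace.toSpec 4 k) ∧ topologicalKrullDim ↥(cI p).subscheme = 1

/-- `x` is the point of the Hilbert scheme of `V_+(f)` given by the curve `V_+(v₀, M₁, M₂)`. -/
def IsClassQ (f : LefPen.Form 4 k 3) (H : Over (Spec (CommRingCat.of k))) (Z : FGA.HilbSet (ps f) H)
    (p : Data k) (x : ↥H.left) : Prop :=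
  ∃ h : pt k ⟶ H, x = h.left.base (IsLocalRing.closedPoint k) ∧
    FGA.hilbPull (ps f) h Z.1 = ((cI p).comap (emb f)).comap (pullback.fst (ps f) (pt k).hom)

end Groth.Agent.Fano.K714.Quart
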