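import Groth.Agent.Fano.K714.Codim
import Mathlib.RingTheory.AlgebraicIndependent.TranscendenceBasis

/-!
# Codimension of subsets of vector spaces: subspaces times closed sets, polynomial images
-/

set_option autoImplicit false

universe u

namespace K714.Codim2

open MvPolynomial LefPen Groth.Agent.Lefpen.H703.ZOpen K714.Codim K714.DimMv

section Mv

variable {k : Type*} [Field k]

theorem height_map_slice {σ τ : Type*} [Finite σ] [Finite τ] (v : σ → k)
    (Q : Ideal (MvPolynomial (σ ⊕ τ) k)) [Q.IsPrime] (hker : RingHom.ker (slice (τ := τ) v) ≤ Q) :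
    (Q.map (slice (τ := τ) v)).height + Nat.card σ = Q.height := by
  set Q2 : Ideal (MvPolynomial τ k) := Q.map (slice v) with hQ2
  have hQ2p : Q2.IsPrime := Ideal.map_isPrime_of_surjective (slice_surjective v) hker
  have hcomap : Q2.comap (slice v) = Q := by
    rw [hQ2, Ideal.comap_map_of_surjective _ (slice_surjective v)]
    exact sup_eq_left.mpr hker
  obtain ⟨d, a, hd, -, ha, had⟩ := exists_nat_dim Q
  obtain ⟨d', a', hd', -, ha', had'⟩ := exists_nat_dim Q2
  have e : (MvPolynomial (σ ⊕ τ) k ⧸ Q) ≃+* (MvPolynomial τ k ⧸ Q2) := by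
    refine (Ideal.quotEquivOfEq hcomap.symm).trans ?_
    exact RingEquiv.ofBijective (Ideal.quotientMap Q2 (slice v).toRingHom le_rfl)
      ⟨Ideal.quotientMap_injective, Ideal.quotientMap_surjective (slice_surjective v)⟩
  have hdd : d = d' := by
    have := ringKrullDim_eq_of_ringEquiv e
    rw [hd, hd'] at this
    exact_mod_cast this
  rw [ha, ha']
  rw [Nat.card_sum] at had
  have : a' + Nat.card σ = a := by omega
  exact_mod_cast this

end Mv

variable {k : Type u} [Field k] [IsAlgClosed k] {U V W : Type u} [AddCommGroup U] [Module k U]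
  [AddCommGroup V] [Module k V] [AddCommGroup W] [Module k W]
  [FiniteDimensional k U] [FiniteDimensional k V] [FiniteDimensional k W]

/-- `{0} × D` has codimension `dim V + codim D` in `V × W`. -/
theorem codimGE_zero_prod {D : Set W} {c : ℕ} (hD : CodimGE k D c) :
    CodimGE k {p : V × W | p.1 = 0 ∧ p.2 ∈ D} (Module.finrank k V + c) := by
  have : Infinite k := IsAlgClosed.instInfinite
  let b := Module.finBasis k V
  let b' := Module.finBasis k W
  rw [codimGE_iff b'] at hD
  rw [codimGE_iff (b.prod b'), le_height_iff]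
  intro P hP hle
  have hker : RingHom.ker (slice (τ := Fin (Module.finrank k W)) (0 : Fin (Module.finrank k V) → k)) ≤ P := by
    rw [ker_slice, Ideal.span_le]
    rintro _ ⟨i, rfl⟩
    apply hle
    rintro _ ⟨⟨v, w⟩, ⟨hv, hw⟩, rfl⟩
    have hv' : v = 0 := hv
    subst hv'
    rw [aeval_eq_eval]
    rw [equivFun_prod]
    simp
  have h1 := height_map_slice (0 : Fin (Module.finrank k V) → k) P hker
  rw [← h1, Nat.card_eq_fintype_card, Fintype.card_fin]
  have h2 : (c : ℕ∞) ≤ (P.map (slice (τ := Fin (Module.finrank k W))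
      (0 : Fin (Module.finrank k V) → k))).height := by
    refine hD.trans (Ideal.height_mono ?_)
    intro f hf
    have h3 : rename Sum.inr f ∈ P := by
      apply hle
      rintro _ ⟨⟨v, w⟩, ⟨hv, hw⟩, rfl⟩
      rw [aeval_eq_eval, equivFun_prod]
      rw [eval_rename]
      have h4 := hf _ ⟨w, hw, rfl⟩
      rw [aeval_eq_eval] at h4
      exact h4
    have h5 := Ideal.mem_map_of_mem (slice (τ := Fin (Module.finrank k W))
      (0 : Fin (Module.finrank k V) → k)) h3
    have h6 : slice (τ := Fin (Module.finrank k W)) (0 : Fin (Module.finrank k V) → k) (rename Sum.inr f) = f := by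
      rw [slice, aeval_rename]
      simp
    rwa [h6] at h5
  push_cast
  rw [add_comm]
  exact add_le_add h2 le_rfl

/-- A polynomial image of `U × D` satisfies a nontrivial equation when the dimensions force it. -/
theorem exists_polyFun_vanishing {D : Set W} {c : ℕ} (hD : CodimGE k D c) {μ : U × W → V}
    (hμ : IsPolyMap k μ) (hdim : Module.finrank k U + Module.finrank k W < Module.finrank k V + c) :
    ∃ f : V → k, IsPolyFun k f ∧ (∃ v, f v ≠ 0) ∧ ∀ u : U, ∀ w ∈ D, f (μ (u, w)) = 0 := by
  have : Infinite k := IsAlgClosed.instInfinite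
  let bU := Module.finBasis k U
  let bW := Module.finBasis k W
  let bV := Module.finBasis k V
  set D' : Set (U × W) := {p | p.2 ∈ D} with hD'
  have hD'c : CodimGE k D' c := by
    have h1 := codimGE_cylinder (W := U) hD
    have h2 := (codimGE_preimage (LinearEquiv.prodComm k U W) {p : W × U | p.1 ∈ D} c).mpr h1
    exact h2
  rw [codimGE_iff (bU.prod bW)] at hD'c
  set J := vanishingIdeal k ((bU.prod bW).equivFun '' D') with hJ
  -- the comorphism
  have hP : ∀ i, ∃ P : MvPolynomial (Fin (Module.finrank k U) ⊕ Fin (Module.finrank k W)) k,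
      ∀ p, bV.coord i (μ p) = eval ((bU.prod bW).equivFun p) P := fun i =>
    exists_mvPoly (bU.prod bW) (hμ (bV.coord i))
  choose P hP using hP
  let φ : MvPolynomial (Fin (Module.finrank k V)) k →ₐ[k]
      MvPolynomial (Fin (Module.finrank k U) ⊕ Fin (Module.finrank k W)) k := aeval P
  have hφ : ∀ (f : MvPolynomial (Fin (Module.finrank k V)) k) (p : U × W),
      eval ((bU.prod bW).equivFun p) (φ f) = eval (bV.equivFun (μ p)) f := by
    intro f p
    induction f using MvPolynomial.induction_on with
    | C a => simp [φ]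
    | add f g hf hg => simp only [map_add, hf, hg]
    | mul_X f i hf =>
      simp only [map_mul, hf, eval_X]
      congr 1
      simp only [φ, aeval_X]
      rw [← hP]
      rfl
  by_cases hex : ∃ f : MvPolynomial (Fin (Module.finrank k V)) k, f ≠ 0 ∧ φ f ∈ J
  · obtain ⟨f, hf0, hfJ⟩ := hex
    refine ⟨fun v => eval (bV.equivFun v) f, isPolyFun_eval_coord bV f, ?_, ?_⟩
    · by_contra hcon
      push Not at hcon
      apply hf0
      refine MvPolynomial.funext fun x => ?_
      rw [map_zero, ← hcon (bV.equivFun.symm x), LinearEquiv.apply_symm_apply]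
    · intro u w hw
      change eval (bV.equivFun (μ (u, w))) f = 0
      rw [← hφ]
      have h1 := hfJ _ ⟨(u, w), hw, rfl⟩
      rwa [aeval_eq_eval] at h1
  · exfalso
    push Not at hex
    have hcomap : J.comap φ = ⊥ := by
      rw [eq_bot_iff]
      intro f hf
      by_contra hf0
      exact hex f (by simpa using hf0) hf
    have hrad : J.radical = J := by
      refine le_antisymm ?_ Ideal.le_radical
      rw [← vanishingIdeal_zeroLocus_eq_radical (K := k)]
      refine vanishingIdeal_anti_mono ?_
      exact zeroLocus_vanishingIdeal_le _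
    have hfin : J.minimalPrimes.Finite := Ideal.finite_minimalPrimes_of_isNoetherianRing _ J
    have hinf : (hfin.toFinset.inf fun Q => Q.comap φ) ≤ (⊥ : Ideal (MvPolynomial (Fin (Module.finrank k V)) k)) := by
      intro f hf
      have hfJ : φ f ∈ J.radical := by
        rw [← Ideal.sInf_minimalPrimes, Submodule.mem_sInf]
        intro Q hQ
        rw [Submodule.mem_finsetInf] at hf
        exact hf Q (hfin.mem_toFinset.mpr hQ)
      rw [hrad] at hfJ
      rw [← hcomap]
      exact hfJ
    obtain ⟨Q, hQ, hQle⟩ := (Ideal.IsPrime.inf_le' (Ideal.isPrime_bot)).mp hinf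
    rw [hfin.mem_toFinset] at hQ
    have hQp : Q.IsPrime := hQ.1.1
    obtain ⟨d, a, hd, htr, ha, had⟩ := exists_nat_dim Q
    have hinj : Function.Injective ((Ideal.Quotient.mkₐ k Q).comp φ) := by
      rw [injective_iff_map_eq_zero]
      intro f hf
      have h1 : φ f ∈ Q := Ideal.Quotient.eq_zero_iff_mem.mp hf
      have h2 : f ∈ Q.comap φ := h1
      simpa using hQle h2
    have h3 := lift_trdeg_le_of_injective ((Ideal.Quotient.mkₐ k Q).comp φ) hinj
    rw [htr, MvPolynomial.trdeg_of_isDomain] at h3
    simp only [Cardinal.mk_fin, Cardinal.lift_natCast, Nat.cast_le] at h3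
    have h4 : (c : ℕ∞) ≤ Q.height := hD'c.trans (Ideal.height_mono hQ.1.2)
    rw [ha] at h4
    have h5 : c ≤ a := by exact_mod_cast h4
    simp only [Nat.card_eq_fintype_card, Fintype.card_sum, Fintype.card_fin] at had
    omega

end K714.Codim2
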