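import Groth.Agent.Fano.K714.PlaneFac

/-!
# Colours of the residual lines in the planes through a line

`V` five-dimensional, `T` a smooth cubic on `V`, `χ` a colouring of the lines of `T` such that both `χ` and
its complement are closed conditions.  For a line `L`, the unordered pair of colours of the residual lines of a degenerate
plane through `L` does not depend on the plane (`type_const`).
-/

set_option autoImplicit false

universe u

namespace K714.TypeConst

open K656.Trilin Module K714.Surf K714.SurfGeo K714.PlaneFac LefPen Groth.Agent.Lefpen.H703.ZOpen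
  Groth.Agent.Lefpen.H703.Elim

variable {k : Type u} [Field k]
variable {V : Type u} [AddCommGroup V] [Module k V]

/-- Polynomiality of a trilinear expression. -/
theorem pf_tri [FiniteDimensional k V] (T : V →ₗ[k] V →ₗ[k] V →ₗ[k] k) {X : Type u} [AddCommGroup X]
    [Module k X] {φ ψ χ : X → V} (hφ : IsPolyMap k φ) (hψ : IsPolyMap k ψ) (hχ : IsPolyMap k χ) :
    IsPolyFun k (fun x => T (φ x) (ψ x) (χ x)) := by
  let b := finBasis k V
  have h : (fun x => T (φ x) (ψ x) (χ x)) = fun x => ∑ i, ∑ j, ∑ l,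
      (b.coord i (φ x) * b.coord j (ψ x) * b.coord l (χ x)) * T (b i) (b j) (b l) := by
    funext x
    conv_lhs => rw [← b.sum_repr (φ x), ← b.sum_repr (ψ x), ← b.sum_repr (χ x)]
    simp only [map_sum, map_smul, LinearMap.sum_apply, LinearMap.smul_apply, smul_eq_mul,
      Basis.coord_apply, Finset.mul_sum, Finset.sum_mul]
    rw [Finset.sum_comm]
    conv_lhs =>
      enter [2, j]
      rw [Finset.sum_comm]
    rw [Finset.sum_comm]
    refine Finset.sum_congr rfl fun i _ => Finset.sum_congr rfl fun j _ =>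
      Finset.sum_congr rfl fun l _ => by ring
  rw [h]
  exact pf_sum _ fun i _ => pf_sum _ fun j _ => pf_sum _ fun l _ =>
    pf_mul (pf_mul (pf_mul (hφ _) (hψ _)) (hχ _)) (isPolyFun_const _)

/-- The coefficients of the residual conic in the plane `⟨a, b, p⟩`. -/
def G6 (T : V →ₗ[k] V →ₗ[k] V →ₗ[k] k) (a b p : V) : Fin 6 → k :=
  ![3 * T p a a, 3 * T p b b, T p p p, 3 * T p p b, 3 * T p p a, 6 * T p a b]

theorem eval_plane {T : V →ₗ[k] V →ₗ[k] V →ₗ[k] k} (hT : IsSym3 T) {a b : V} (h1 : T a a a = 0)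
    (h2 : T a a b = 0) (h3 : T a b b = 0) (h4 : T b b b = 0) (p : V) (c : Fin 3 → k) :
    T (c 0 • a + c 1 • b + c 2 • p) (c 0 • a + c 1 • b + c 2 • p) (c 0 • a + c 1 • b + c 2 • p) =
      c 2 * Q6 (G6 T a b p) c := by
  have s1 : T a b a = 0 := by rw [hT.s23]; exact h2
  have s2 : T b a a = 0 := by rw [hT.rot b a a]; exact h2
  have s3 : T b a b = 0 := by rw [hT.s12]; exact h3
  have s4 : T b b a = 0 := by rw [hT.rot' b b a]; exact h3
  have p1 : T a a p = T p a a := hT.rot' _ _ _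
  have p2 : T a p a = T p a a := hT.s12 _ _ _
  have p3 : T b b p = T p b b := hT.rot' _ _ _
  have p4 : T b p b = T p b b := hT.s12 _ _ _
  have p5 : T a b p = T p a b := hT.rot' _ _ _
  have p6 : T a p b = T p a b := hT.s12 _ _ _
  have p7 : T b a p = T p a b := by rw [hT.rot' b a p, hT.s23]
  have p8 : T b p a = T p a b := by rw [hT.s12 b p a, hT.s23]
  have p9 : T p b a = T p a b := hT.s23 _ _ _
  have p10 : T p a p = T p p a := hT.s23 _ _ _
  have p11 : T a p p = T p p a := hT.rot _ _ _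
  have p12 : T p b p = T p p b := hT.s23 _ _ _
  have p13 : T b p p = T p p b := hT.rot _ _ _
  simp only [map_add, map_smul, LinearMap.add_apply, LinearMap.smul_apply, smul_eq_mul, h1, h2, h3,
    h4, s1, s2, s3, s4, p1, p2, p3, p4, p5, p6, p7, p8, p9, p10, p11, p12, p13, Q6, G6,
    Matrix.cons_val]
  ring

/-- A colouring of lines which is a closed condition. -/
def ClosedL (χ : Submodule k V → Prop) : Prop :=
  IsZOpen k {q : V × V | LinearIndependent k ![q.1, q.2] ∧ ¬ χ (Submodule.span k {q.1, q.2})}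

section Fam

variable (a b : V) (ι : (Fin 3 → k) →ₗ[k] V)

theorem pm_e (j : Fin 3) :
    IsPolyMap k (fun x : (Fin 3 → k) × (Fin 3 → k) => (![a, b, ι x.2] : Fin 3 → V) j) := by
  fin_cases j
  · exact isPolyMap_const a
  · exact isPolyMap_const b
  · exact isPolyMap_linear (ι.comp (LinearMap.snd k (Fin 3 → k) (Fin 3 → k)))

theorem pf_coord (i : Fin 3) : IsPolyFun k (fun x : (Fin 3 → k) × (Fin 3 → k) => x.1 i) :=
  isPolyFun_linear' ((LinearMap.proj i).comp (LinearMap.fst k (Fin 3 → k) (Fin 3 → k)))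

variable {a b ι}

theorem lineOpen [FiniteDimensional k V] (hι : ∀ c, c ≠ 0 → LinearIndependent k ![a, b, ι c])
    {χ : Submodule k V → Prop} (hχ : ClosedL χ) :
    IsZOpen k {x : (Fin 3 → k) × (Fin 3 → k) | x.1 ≠ 0 ∧ x.2 ≠ 0 ∧
      ¬ χ (lineOf ![a, b, ι x.2] x.1)} := by
  refine isZOpen_of_local ?_
  rintro ⟨m, p⟩ ⟨hm, hp, hχm⟩
  simp only at hm hp hχm
  obtain ⟨i, hi⟩ : ∃ i, m i ≠ 0 := by
    by_contra hcon
    push Not at hcon
    exact hm (funext hcon)
  have hpm : IsPolyMap k (fun x : (Fin 3 → k) × (Fin 3 → k) =>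
      (fr ![a, b, ι x.2] x.1 i (i + 1), fr ![a, b, ι x.2] x.1 i (i + 2))) := by
    unfold fr
    exact pm_prodMk (pm_sub (pm_smul (pf_coord _) (pm_e a b ι _)) (pm_smul (pf_coord _) (pm_e a b ι _)))
      (pm_sub (pm_smul (pf_coord _) (pm_e a b ι _)) (pm_smul (pf_coord _) (pm_e a b ι _)))
  have h1 := zo_preimage hχ hpm
  have h2 : IsZOpen k {x : (Fin 3 → k) × (Fin 3 → k) | x.1 i ≠ 0} := isZOpen_basic (pf_coord i)
  have h3 : IsZOpen k {x : (Fin 3 → k) × (Fin 3 → k) | x.2 ≠ 0} :=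
    zo_preimage (isZOpen_ne_zero (k := k) (E := Fin 3 → k)) isPolyMap_snd
  refine ⟨_, zo_inter (zo_inter h2 h3) h1, ⟨⟨hi, hp⟩, ?_⟩, ?_⟩
  · refine ⟨fr_linearIndependent (hι p hp) hi, ?_⟩
    simp only
    rw [← lineOf_eq_span (hι p hp) hi]
    exact hχm
  · rintro ⟨m', p'⟩ ⟨⟨hi', hp'⟩, -, h4⟩
    simp only at h4
    rw [← lineOf_eq_span (hι p' hp') hi'] at h4
    refine ⟨?_, hp', h4⟩
    rintro h
    apply hi'
    simp only at h ⊢
    rw [h]; rfl

/-- The closed set of degenerate planes with prescribed colours. -/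
def SS (T : V →ₗ[k] V →ₗ[k] V →ₗ[k] k) (a b : V) (ι : (Fin 3 → k) →ₗ[k] V)
    (χ₁ χ₂ : Submodule k V → Prop) (p : Fin 3 → k) : Prop :=
  ∃ m : Fin 3 → k, m ≠ 0 ∧ ∃ n : Fin 3 → k, n ≠ 0 ∧
    (∀ i j, G6 T a b (ι p) i * M6 m n j = G6 T a b (ι p) j * M6 m n i) ∧
      χ₁ (lineOf ![a, b, ι p] m) ∧ χ₂ (lineOf ![a, b, ι p] n)

theorem M6_smul_right (c : k) (m n : Fin 3 → k) : M6 m (c • n) = c • M6 m n := by
  funext i
  fin_cases i <;> simp [M6] <;> ring

theorem M6_smul_left (c : k) (m n : Fin 3 → k) : M6 (c • m) n = c • M6 m n := by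
  funext i
  fin_cases i <;> simp [M6] <;> ring

theorem isZOpen_SS_compl [IsAlgClosed k] [FiniteDimensional k V]
    (T : V →ₗ[k] V →ₗ[k] V →ₗ[k] k) (hι : ∀ c, c ≠ 0 → LinearIndependent k ![a, b, ι c])
    {χ₁ χ₂ : Submodule k V → Prop} (hχ₁ : ClosedL χ₁) (hχ₂ : ClosedL χ₂) :
    IsZOpen k {p : Fin 3 → k | p ≠ 0 ∧ ¬ SS T a b ι χ₁ χ₂ p} := by
  -- the open set of triples
  let E := Fin 3 → k
  let O : Set (E × (E × E)) := {x | x.1 ≠ 0 ∧ x.2.1 ≠ 0 ∧ x.2.2 ≠ 0 ∧
    ((∃ q : Fin 6 × Fin 6, G6 T a b (ι x.2.2) q.1 * M6 x.2.1 x.1 q.2 -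
      G6 T a b (ι x.2.2) q.2 * M6 x.2.1 x.1 q.1 ≠ 0) ∨
      ¬ χ₁ (lineOf ![a, b, ι x.2.2] x.2.1) ∨ ¬ χ₂ (lineOf ![a, b, ι x.2.2] x.1))}
  have hO : IsZOpen k O := by
    have h1 : IsZOpen k {x : E × (E × E) | x.1 ≠ 0} :=
      zo_preimage (isZOpen_ne_zero (k := k) (E := E)) isPolyMap_fst
    have h2 : IsZOpen k {x : E × (E × E) | x.2.1 ≠ 0} :=
      zo_preimage (isZOpen_ne_zero (k := k) (E := E))
        (isPolyMap_linear ((LinearMap.fst k E E).comp (LinearMap.snd k E (E × E))))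
    have h3 : IsZOpen k {x : E × (E × E) | x.2.2 ≠ 0} :=
      zo_preimage (isZOpen_ne_zero (k := k) (E := E))
        (isPolyMap_linear ((LinearMap.snd k E E).comp (LinearMap.snd k E (E × E))))
    have c1 : ∀ i : Fin 3, IsPolyFun k (fun x : E × (E × E) => x.1 i) := fun i =>
      isPolyFun_linear' ((LinearMap.proj i).comp (LinearMap.fst k E (E × E)))
    have c2 : ∀ i : Fin 3, IsPolyFun k (fun x : E × (E × E) => x.2.1 i) := fun i =>
      isPolyFun_linear' ((LinearMap.proj i).comp ((LinearMap.fst k E E).comp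
        (LinearMap.snd k E (E × E))))
    have c3 : IsPolyMap k (fun x : E × (E × E) => ι x.2.2) :=
      isPolyMap_linear (ι.comp ((LinearMap.snd k E E).comp (LinearMap.snd k E (E × E))))
    have hG : ∀ i : Fin 6, IsPolyFun k (fun x : E × (E × E) => G6 T a b (ι x.2.2) i) := by
      have ca : IsPolyMap k (fun _ : E × (E × E) => a) := isPolyMap_const a
      have cb : IsPolyMap k (fun _ : E × (E × E) => b) := isPolyMap_const b
      intro i
      fin_cases i
      · exact pf_const_mul _ (pf_tri T c3 ca ca)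
      · exact pf_const_mul _ (pf_tri T c3 cb cb)
      · exact pf_tri T c3 c3 c3
      · exact pf_const_mul _ (pf_tri T c3 c3 cb)
      · exact pf_const_mul _ (pf_tri T c3 c3 ca)
      · exact pf_const_mul _ (pf_tri T c3 ca cb)
    have hM : ∀ i : Fin 6, IsPolyFun k (fun x : E × (E × E) => M6 x.2.1 x.1 i) := by
      intro i
      fin_cases i
      · exact pf_mul (c2 _) (c1 _)
      · exact pf_mul (c2 _) (c1 _)
      · exact pf_mul (c2 _) (c1 _)
      · exact pf_add (pf_mul (c2 _) (c1 _)) (pf_mul (c2 _) (c1 _))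
      · exact pf_add (pf_mul (c2 _) (c1 _)) (pf_mul (c2 _) (c1 _))
      · exact pf_add (pf_mul (c2 _) (c1 _)) (pf_mul (c2 _) (c1 _))
    have h4 : IsZOpen k {x : E × (E × E) | ∃ q : Fin 6 × Fin 6, G6 T a b (ι x.2.2) q.1 * M6 x.2.1 x.1 q.2 -
        G6 T a b (ι x.2.2) q.2 * M6 x.2.1 x.1 q.1 ≠ 0} :=
      isZOpen_compl_zeros fun q : Fin 6 × Fin 6 =>
        pf_sub (pf_mul (hG q.1) (hM q.2)) (pf_mul (hG q.2) (hM q.1))
    have h5 := zo_preimage (lineOpen hι hχ₁) (φ := fun x : E × (E × E) => (x.2.1, x.2.2))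
      (isPolyMap_linear (LinearMap.snd k E (E × E)))
    have h6 := zo_preimage (lineOpen hι hχ₂) (φ := fun x : E × (E × E) => (x.1, x.2.2))
      (isPolyMap_linear (LinearMap.prod (LinearMap.fst k E (E × E))
        ((LinearMap.snd k E E).comp (LinearMap.snd k E (E × E)))))
    refine (isZOpen_congr fun x => ?_).1 (zo_union (zo_inter (zo_inter (zo_inter h1 h2) h3) h4)
      (zo_union (zo_inter (zo_inter (zo_inter h1 h2) h3) h5)
        (zo_inter (zo_inter (zo_inter h1 h2) h3) h6)))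
    simp only [Set.mem_union, Set.mem_inter_iff, Set.mem_preimage, Set.mem_ofPred_eq, O]
    tauto
  have hE1 := isZOpen_forall_ne_zero (k := k) (E := E) (V := E × E) hO (by
    rintro n ⟨m, p⟩ c hc ⟨h1, h2, h3, h4⟩
    refine ⟨smul_ne_zero hc h1, h2, h3, ?_⟩
    rcases h4 with ⟨q, hq⟩ | h4 | h4
    · left
      refine ⟨q, ?_⟩
      simp only at hq ⊢
      intro h5
      apply hq
      have e1 : ∀ j, M6 m (c • n) j = c * M6 m n j := fun j => congrFun (M6_smul_right c m n) j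
      have : c * (G6 T a b (ι p) q.1 * M6 m n q.2 - G6 T a b (ι p) q.2 * M6 m n q.1) = 0 := by
        linear_combination h5 - G6 T a b (ι p) q.1 * e1 q.2 + G6 T a b (ι p) q.2 * e1 q.1
      exact (mul_eq_zero.1 this).resolve_left hc
    · exact Or.inr (Or.inl h4)
    · right; right
      simp only at h4 ⊢
      rw [lineOf_smul hc]; exact h4)
  have hE2 := isZOpen_forall_ne_zero (k := k) (E := E) (V := E) hE1 (by
    rintro m p c hc h n hn
    obtain ⟨h1, h2, h3, h4⟩ := h n hn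
    refine ⟨h1, smul_ne_zero hc h2, h3, ?_⟩
    rcases h4 with ⟨q, hq⟩ | h4 | h4
    · left
      refine ⟨q, ?_⟩
      simp only at hq ⊢
      intro h5
      apply hq
      have e1 : ∀ j, M6 (c • m) n j = c * M6 m n j := fun j => congrFun (M6_smul_left c m n) j
      have : c * (G6 T a b (ι p) q.1 * M6 m n q.2 - G6 T a b (ι p) q.2 * M6 m n q.1) = 0 := by
        linear_combination h5 - G6 T a b (ι p) q.1 * e1 q.2 + G6 T a b (ι p) q.2 * e1 q.1
      exact (mul_eq_zero.1 this).resolve_left hc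
    · right; left
      simp only at h4 ⊢
      rw [lineOf_smul hc]; exact h4
    · exact Or.inr (Or.inr h4))
  refine (isZOpen_congr fun p => ?_).1 hE2
  constructor
  · intro h
    have h1 : (Pi.single 0 1 : E) ≠ 0 := by
      intro h2
      have := congrFun h2 0
      simp at this
    refine ⟨(h _ h1 _ h1).2.2.1, ?_⟩
    rintro ⟨m, hm, n, hn, hG, hc1, hc2⟩
    obtain ⟨-, -, -, h4⟩ := h m hm n hn
    rcases h4 with ⟨q, hq⟩ | h4 | h4
    · exact hq (sub_eq_zero.2 (hG q.1 q.2))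
    · exact h4 hc1
    · exact h4 hc2
  · rintro ⟨hp, h⟩ m hm n hn
    refine ⟨hn, hm, hp, ?_⟩
    by_contra hcon
    push Not at hcon
    obtain ⟨h1, h2, h3⟩ := hcon
    exact h ⟨m, hm, n, hn, fun i j => sub_eq_zero.1 (h1 (i, j)), h2, h3⟩

end Fam

end K714.TypeConst
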