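import Groth.Agent.S7797
import Groth.Agent.VBPn.K699.SerreSeq
import Groth.Agent.VBPn.K699.GMat
import Groth.Agent.FormalB.TwistGen

/-!
# Splitting of rank two bundles on `P^1` with given degree and no maps to `O(m)`

* `mulMap_ne_zero`: multiplication by a nonzero form `O(m) ⟶ O(m + d)` is nonzero.
* `exists_split`: a rank two bundle `E` on `P^1` of degree `D` with `Hom(E, O(m)) = 0` is `O(a) ⊕ O(b)` with
  `a + b = D`, `m < a ≤ b`.
-/

set_option autoImplicit false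
universe u
open CategoryTheory CategoryTheory.Limits AlgebraicGeometry TopologicalSpace Opposite

namespace Groth.Agent.Fano.K714.ConSplit

open Groth.Agent.VarietyB

variable {k : Type u} [Field k]

theorem not_isZero_of_gen {X : Scheme.{u}} {M : X.Modules} {U : X.Opens} (x : X) (hx : x ∈ U) {e : Γ(M, U)}
    (he : Groth.Agent.Fdesc.LocGen.IsGen e) : ¬ IsZero M := by
  intro hz
  have : Nonempty U := ⟨⟨x, hx⟩⟩
  have h0 : e = 0 := by
    have h1 : 𝟙 M = 0 := hz.eq_of_src _ _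
    exact congr((Scheme.Modules.Hom.app $h1 U) e)
  have h4 : (1 : Γ(X, U)) = 0 := by
    apply he.bijective.1
    simp only
    rw [h0, smul_zero, smul_zero]
  exact one_ne_zero h4

theorem twist_not_zero (n : ℕ) (m : ℤ) : ¬ IsZero (Twist.twistProjSpace n k m) := by
  obtain ⟨x⟩ : Nonempty (CohB1.ProjSpace n k) := inferInstance
  obtain ⟨i, hi⟩ := Groth.Agent.FormalB.TwistGen.exists_X_notMem (n := n) (S := k) x
  obtain ⟨m', rfl⟩ : ∃ m' : ℤ, m = ((1 : ℕ) : ℤ) * m' := ⟨m, by simp⟩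
  exact not_isZero_of_gen (X := CohB1.ProjSpace n k) x hi (Groth.Agent.FormalB.TwistGen.isGen_gen (𝒜 := CohB1.polyGrading n k)
    (MvPolynomial.isHomogeneous_X k i) m' (Proj.basicOpen (CohB1.polyGrading n k) (MvPolynomial.X i)) le_rfl)

theorem mulMap_ne_zero {n d : ℕ} (a : CohB1.polyGrading n k d) (ha : a.1 ≠ 0) {m m' : ℤ} (h : m + d = m') :
    (TwistMul.mulMap (𝒜 := CohB1.polyGrading n k) a h : Twist.twistProjSpace n k m ⟶ Twist.twistProjSpace n k m') ≠ 0 := by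
  intro h0
  have hm : Mono (TwistMul.mulMap (𝒜 := CohB1.polyGrading n k) a h :
      Twist.twistProjSpace n k m ⟶ Twist.twistProjSpace n k m') := K699.SerreSeq.mono_mulMap n k a ha h
  rw [h0] at hm
  exact twist_not_zero n m (@IsZero.of_mono_zero _ _ _ _ _ hm)

theorem exists_ne_zero (n : ℕ) {m m' : ℤ} (h : m ≤ m') :
    ∃ φ : Twist.twistProjSpace n k m ⟶ Twist.twistProjSpace n k m', φ ≠ 0 := by
  obtain ⟨d, hd⟩ := Int.le.dest h
  refine ⟨_, mulMap_ne_zero (⟨MvPolynomial.X 0 ^ d, by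
    have := (MvPolynomial.isHomogeneous_X k (0 : Fin (n + 1))).pow d
    rwa [one_mul] at this⟩ : CohB1.polyGrading n k d) (pow_ne_zero _ (MvPolynomial.X_ne_zero _)) hd⟩

/-- No maps to `O(m)` implies that all summands have degree `> m`. -/
theorem lt_of_hom_eq_zero {n r : ℕ} {E : (CohB1.ProjSpace n k).Modules} {m : ℤ}
    (hhom : ∀ θ : E ⟶ Twist.twistProjSpace n k m, θ = 0) {a : Fin r → ℤ}
    (e : E ≅ ∐ fun j : Fin r => Twist.twistProjSpace n k (a j)) (j : Fin r) : m < a j := by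
  by_contra hcon
  push Not at hcon
  obtain ⟨φ, hφ⟩ := exists_ne_zero (k := k) n hcon
  have h1 := hhom (e.hom ≫ Sigma.π (fun j : Fin r => Twist.twistProjSpace n k (a j)) j ≫ φ)
  apply hφ
  have h2 : Sigma.ι (fun j : Fin r => Twist.twistProjSpace n k (a j)) j ≫ e.inv ≫
      (e.hom ≫ Sigma.π (fun j : Fin r => Twist.twistProjSpace n k (a j)) j ≫ φ) = 0 := by
    rw [h1, comp_zero, comp_zero]
  rw [e.inv_hom_id_assoc, Sigma.ι_π_eq_id_assoc] at h2
  exact h2

/-- the two orders -/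
noncomputable def swapIso {n : ℕ} (a b : ℤ) :
    (∐ fun j : Fin 2 => Twist.twistProjSpace n k (![a, b] j)) ≅
      ∐ fun j : Fin 2 => Twist.twistProjSpace n k (![b, a] j) :=
  Sigma.whiskerEquiv (Equiv.swap 0 1) fun j => eqToIso (by fin_cases j <;> rfl)

theorem exists_split {E : (CohB1.ProjSpace 1 k).Modules} (hE : FlatMod.IsFinLocFreeOfRank 2 E) (D m : ℤ)
    (hdeg : ∀ a : Fin 2 → ℤ, Nonempty (E ≅ ∐ fun j : Fin 2 => Twist.twistProjSpace 1 k (a j)) → a 0 + a 1 = D)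
    (hhom : ∀ θ : E ⟶ Twist.twistProjSpace 1 k m, θ = 0) :
    ∃ a b : ℤ, m < a ∧ a ≤ b ∧ a + b = D ∧
      Nonempty (E ≅ ∐ fun j : Fin 2 => Twist.twistProjSpace 1 k (![a, b] j)) ∧
      Nonempty (E ≅ ∐ fun j : Fin 2 => Twist.twistProjSpace 1 k (![b, a] j)) := by
  obtain ⟨d, ⟨hd, ⟨e⟩⟩, -⟩ := Groth.Agent.S7797.result k 2 E hE
  have h1 := hdeg d ⟨e⟩
  have h2 := lt_of_hom_eq_zero hhom e 1
  have h3 : d 1 ≤ d 0 := hd (by decide)
  have h4 : d = ![d 0, d 1] := by funext j; fin_cases j <;> rfl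
  rw [h4] at e
  exact ⟨d 1, d 0, h2, h3, by rw [add_comm]; exact h1, ⟨e ≪≫ swapIso _ _⟩, ⟨e⟩⟩

end Groth.Agent.Fano.K714.ConSplit
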