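import Groth.Agent.Fano.K714.FrIrr

/-!
# Parametrised twisted cubics on a cubic threefold (definitions)

* `tpt c s t = s^3 c_0 + s^2 t c_1 + s t^2 c_2 + t^3 c_3`, with derivatives `tds`, `tdt`.
* `TC T`: linearly independent systems `c : Fin 4 → V` with `T` vanishing on all `tpt c s t`.
* `phipt T a b p q l₀ l₁ s t`: the explicit parametrised cubic attached to two lines `⟨a, b⟩`, `⟨p, q⟩` of the
  cubic and a linear form `l₀ s + l₁ t`.
-/

set_option autoImplicit false

universe u v

namespace K714.Tw

open K656.Trilin Module K714.Surf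

variable {k : Type u} [Field k] {V : Type v} [AddCommGroup V] [Module k V]

/-- The point with parameters `(s, t)`. -/
def tpt (c : Fin 4 → V) (s t : k) : V :=
  s ^ 3 • c 0 + (s ^ 2 * t) • c 1 + (s * t ^ 2) • c 2 + t ^ 3 • c 3

/-- The derivative with respect to `s`. -/
def tds (c : Fin 4 → V) (s t : k) : V := (3 * s ^ 2) • c 0 + (2 * s * t) • c 1 + t ^ 2 • c 2

/-- The derivative with respect to `t`. -/
def tdt (c : Fin 4 → V) (s t : k) : V := s ^ 2 • c 1 + (2 * s * t) • c 2 + (3 * t ^ 2) • c 3

/-- The parametrised twisted cubics on the cubic hypersurface. -/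
def TC (T : V →ₗ[k] V →ₗ[k] V →ₗ[k] k) : Set (Fin 4 → V) :=
  {c | LinearIndependent k c ∧ ∀ s t : k, T (tpt c s t) (tpt c s t) (tpt c s t) = 0}

/-- The explicit parametrisation: with `x = s a + t b`, `l = l₀ s + l₁ t`. -/
def phipt (T : V →ₗ[k] V →ₗ[k] V →ₗ[k] k) (a b p q : V) (l₀ l₁ s t : k) : V :=
  (T (s • a + t • b) p p * T (s • a + t • b) q q - T (s • a + t • b) p q ^ 2 + (l₀ * s + l₁ * t) ^ 2) •
      (s • a + t • b) -
    (T (s • a + t • b) q q * T (s • a + t • b) (s • a + t • b) p -
      T (s • a + t • b) p q * T (s • a + t • b) (s • a + t • b) q -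
      (l₀ * s + l₁ * t) * T (s • a + t • b) (s • a + t • b) q) • p -
    (T (s • a + t • b) p p * T (s • a + t • b) (s • a + t • b) q -
      T (s • a + t • b) p q * T (s • a + t • b) (s • a + t • b) p +
      (l₀ * s + l₁ * t) * T (s • a + t • b) (s • a + t • b) p) • q

/-- The cubic vanishes on the explicit parametrisation, for two lines on it. -/
theorem cube_phipt {T : V →ₗ[k] V →ₗ[k] V →ₗ[k] k} (hT : IsSym3 T) {a b p q : V}
    (h₁ : ∀ s t : k, T (s • a + t • b) (s • a + t • b) (s • a + t • b) = 0)
    (h₂ : ∀ s t : k, T (s • p + t • q) (s • p + t • q) (s • p + t • q) = 0) (l₀ l₁ s t : k) :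
    T (phipt T a b p q l₀ l₁ s t) (phipt T a b p q l₀ l₁ s t) (phipt T a b p q l₀ l₁ s t) = 0 := by
  set x := s • a + t • b with hx
  set l := l₀ * s + l₁ * t with hl
  have hphi : phipt T a b p q l₀ l₁ s t =
      (T x p p * T x q q - T x p q ^ 2 + l ^ 2) • x +
      (-1 : k) • ((T x q q * T x x p - T x p q * T x x q - l * T x x q) • p +
        (T x p p * T x x q - T x p q * T x x p + l * T x x p) • q) := by
    simp only [phipt, ← hx, ← hl]
    module
  rw [hphi]
  set y := (T x q q * T x x p - T x p q * T x x q - l * T x x q) • p +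
        (T x p p * T x x q - T x p q * T x x p + l * T x x p) • q with hy
  rw [hT.cube_smul_add_smul, h₁ s t, h₂]
  have e1 : T x x y = (T x q q * T x x p - T x p q * T x x q - l * T x x q) * T x x p +
        (T x p p * T x x q - T x p q * T x x p + l * T x x p) * T x x q := by
    simp only [hy, map_add, map_smul, smul_eq_mul]
  have e3 : T x q p = T x p q := hT.s23 _ _ _
  have e4 : T x y y = (T x q q * T x x p - T x p q * T x x q - l * T x x q) ^ 2 * T x p p +
      2 * (T x q q * T x x p - T x p q * T x x q - l * T x x q) *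
        (T x p p * T x x q - T x p q * T x x p + l * T x x p) * T x p q +
      (T x p p * T x x q - T x p q * T x x p + l * T x x p) ^ 2 * T x q q := by
    simp only [hy, map_add, map_smul, LinearMap.add_apply, LinearMap.smul_apply, smul_eq_mul, e3]
    ring
  rw [e1, e4]
  ring

end K714.Tw
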