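import Groth.Agent.Fano.K714.Taylor

/-!
# Lines through a point of a general hypersurface
-/

set_option autoImplicit false

universe u

namespace K714.Cone

open MvPolynomial LefPen Groth.Agent.Lefpen.H703.ZOpen Groth.Agent.Lefpen.H703.NondegOpen K714.Codim
  K714.HypSeq K714.Taylor

variable {k : Type u} [Field k] {m d : ℕ}

theorem sum_choose (m d : ℕ) :
    1 + ∑ j : Fin d, (m + 1 + (j.1 + 1) - 1).choose (j.1 + 1) = (m + 2 + d - 1).choose d := by
  induction d with
  | zero => simp
  | succ d ih =>
    rw [Fin.sum_univ_castSucc, ← add_assoc]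
    simp only [Fin.val_castSucc, Fin.val_last]
    rw [ih]
    have h1 : m + 2 + d - 1 = m + d + 1 := by omega
    have h2 : m + 1 + (d + 1) - 1 = m + d + 1 := by omega
    have h3 : m + 2 + (d + 1) - 1 = (m + d + 1) + 1 := by omega
    rw [h1, h2, h3, Nat.choose_succ_succ' (m + d + 1) d]

theorem finrank_eq : Module.finrank k (k × Sq k m d) = Module.finrank k (Form (m + 1) k d) := by
  rw [Module.finrank_prod, Module.finrank_self, Module.finrank_pi_fintype]
  simp only [HilbBound.finrank_homogeneousSubmodule, Fintype.card_fin]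
  exact sum_choose m d

/-- The expansion map as a linear map into the forms. -/
noncomputable def T' (i : Fin (m + 2)) (v : Fin (m + 1) → k) : (k × Sq k m d) →ₗ[k] Form (m + 1) k d :=
  (T i v).codRestrict _ fun p => (mem_homogeneousSubmodule _ _).2 (isHomogeneous_T i v p)

theorem T'_injective [Infinite k] (i : Fin (m + 2)) (v : Fin (m + 1) → k) :
    Function.Injective (T' (d := d) i v) := by
  intro p q h
  exact T_injective i v (congrArg Subtype.val h)

theorem T'_surjective [Infinite k] (i : Fin (m + 2)) (v : Fin (m + 1) → k) :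
    Function.Surjective (T' (d := d) i v) := by
  have h := LinearMap.injective_iff_surjective_of_finrank_eq_finrank (f := T' (k := k) (d := d) i v) finrank_eq
  exact h.mp (T'_injective i v)

/-- A polynomial map with values in all polynomials whose values are forms is a polynomial map into forms. -/
theorem isPolyMap_codRestrict {V A : Type u} [AddCommGroup V] [Module k V] [AddCommGroup A] [Module k A]
    {W : Submodule k A} {φ : V → W} (h : IsPolyMap k (fun v => (φ v : A))) : IsPolyMap k φ := by
  intro l
  obtain ⟨l', hl'⟩ := LinearMap.exists_extend l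
  have : (fun v => l (φ v)) = fun v => l' (φ v : A) := by
    ext v
    rw [← hl']
    rfl
  rw [this]
  exact h l'

theorem pm_linear_comp {V A B : Type u} [AddCommGroup V] [Module k V] [AddCommGroup A] [Module k A]
    [AddCommGroup B] [Module k B] (L : A →ₗ[k] B) {φ : V → A} (h : IsPolyMap k φ) :
    IsPolyMap k (fun v => L (φ v)) := fun l => h (l.comp L)

theorem pm_sum {V A : Type u} [AddCommGroup V] [Module k V] [AddCommGroup A] [Module k A] {ι : Type*}
    (s : Finset ι) {φ : ι → V → A} (h : ∀ i ∈ s, IsPolyMap k (φ i)) :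
    IsPolyMap k (fun v => ∑ i ∈ s, φ i v) := by
  intro l
  simp only [map_sum]
  exact pf_sum s fun i hi => h i hi l

/-- Substitution of the linear forms `x_l - v_l x_i` depends polynomially on `v`. -/
theorem isPolyMap_subst {V : Type u} [AddCommGroup V] [Module k V] (i : Fin (m + 2))
    (F : MvPolynomial (Fin (m + 1)) k) {y : V → Fin (m + 1) → k}
    (hy : ∀ l, IsPolyFun k (fun v => y v l)) :
    IsPolyMap k (fun v : V => (aeval (lin i (y v)) F : MvPolynomial (Fin (m + 2)) k)) := by
  induction F using MvPolynomial.induction_on with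
  | C a => simpa using isPolyMap_const _
  | add F G hF hG => simpa using pm_add hF hG
  | mul_X F l hF =>
    have h1 : (fun v : V => (aeval (lin i (y v)) (F * X l) : MvPolynomial (Fin (m + 2)) k)) =
        fun v => (LinearMap.mulRight k (X (i.succAbove l))) (aeval (lin i (y v)) F) -
          (y v l) • (LinearMap.mulRight k (X i)) (aeval (lin i (y v)) F) := by
      ext1 v
      simp only [map_mul, aeval_X, LinearMap.mulRight_apply, lin, smul_eq_C_mul]
      ring
    rw [h1]
    exact pm_sub (pm_linear_comp _ hF) (pm_smul (hy l) (pm_linear_comp _ hF))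

/-- The expansion map is polynomial in the point and the coefficients. -/
theorem isPolyMap_T' (i : Fin (m + 2)) :
    IsPolyMap k (fun p : (Fin (m + 1) → k) × (k × Sq k m d) => T' i p.1 p.2) := by
  refine isPolyMap_codRestrict ?_
  let V := (Fin (m + 1) → k) × (k × Sq k m d)
  have hy : ∀ l, IsPolyFun k (fun p : V => p.1 l) := fun l =>
    isPolyFun_linear' (V := V) ((LinearMap.proj l).comp (LinearMap.fst k (Fin (m + 1) → k) (k × Sq k m d)))
  have h1 : (fun p : V => (T' i p.1 p.2 : MvPolynomial (Fin (m + 2)) k)) =
      fun p => p.2.1 • X i ^ d + ∑ j : Fin d, X i ^ (d - 1 - j.1) * aeval (lin i p.1) (p.2.2 j).1 := rfl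
  rw [h1]
  refine pm_add (pm_smul ?_ (isPolyMap_const _)) (pm_sum _ fun j _ => ?_)
  · exact isPolyFun_linear' (V := V) ((LinearMap.fst k k (Sq k m d)).comp
      (LinearMap.snd k (Fin (m + 1) → k) (k × Sq k m d)))
  · let b := Module.finBasis k (Form m k (j.1 + 1))
    have h2 : (fun p : V => (X i ^ (d - 1 - j.1) * aeval (lin i p.1) (p.2.2 j).1 : MvPolynomial (Fin (m + 2)) k)) =
        fun p => ∑ l, (b.repr (p.2.2 j) l) •
          (LinearMap.mulLeft k (X i ^ (d - 1 - j.1))) (aeval (lin i p.1) (b l).1) := by
      ext1 p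
      have h3 : (p.2.2 j).1 = ∑ l, b.repr (p.2.2 j) l • (b l).1 := by
        have h4 := congrArg (Submodule.subtype (CohB1.polyGrading m k (j.1 + 1))) (b.sum_repr (p.2.2 j))
        rw [map_sum] at h4
        simpa only [map_smul, Submodule.subtype_apply] using h4.symm
      conv_lhs => rw [h3]
      simp only [map_sum, map_smul, Finset.mul_sum, mul_smul_comm, LinearMap.mulLeft_apply]
    rw [h2]
    refine pm_sum _ fun l _ => pm_smul ?_ (pm_linear_comp _ (isPolyMap_subst i _ hy))
    exact isPolyFun_linear' (V := V) ((b.coord l).comp ((LinearMap.proj j).comp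
      ((LinearMap.snd k k (Sq k m d)).comp (LinearMap.snd k (Fin (m + 1) → k) (k × Sq k m d)))))

end K714.Cone
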