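import Groth.Agent.Fano.K714.Zeros
import Groth.Agent.Fano.K714.Codim
import Groth.Agent.Fano.K713.HomFactor
import Mathlib.RingTheory.Nullstellensatz
import Mathlib.RingTheory.Polynomial.UniqueFactorization

/-!
# Projective hypersurfaces in `P^n`, `n ≥ 2`, are connected
-/

set_option autoImplicit false

universe u

namespace K714.ConnHyp

open MvPolynomial LefPen Groth.Agent.Lefpen.H703.ZOpen

variable {k : Type u} [Field k] [IsAlgClosed k]

/-- An irreducible hypersurface is irreducible. -/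
theorem exists_zero_of_prime {N : ℕ} {h f g : MvPolynomial (Fin N) k} (hh : Irreducible h)
    {w v : Fin N → k} (hw : eval w h = 0) (hv : eval v h = 0) (hf : eval w f ≠ 0)
    (hg : eval v g ≠ 0) (hw0 : w ≠ 0) :
    ∃ u : Fin N → k, u ≠ 0 ∧ eval u h = 0 ∧ eval u f ≠ 0 ∧ eval u g ≠ 0 := by
  obtain ⟨i, hi⟩ : ∃ i, w i ≠ 0 := by
    by_contra hcon
    push Not at hcon
    exact hw0 (funext hcon)
  by_contra hcon
  push Not at hcon
  have hp : Prime h := hh.prime
  have hmem : f * X i * g ∈ (Ideal.span {h} : Ideal (MvPolynomial (Fin N) k)).radical := by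
    rw [← vanishingIdeal_zeroLocus_eq_radical (K := k)]
    intro u hu
    have hu' : eval u h = 0 := by
      have := hu h (Ideal.mem_span_singleton_self h)
      rwa [MvPolynomial.aeval_eq_eval] at this
    rw [MvPolynomial.aeval_eq_eval]
    change eval u (f * X i * g) = 0
    by_cases hu0 : u = 0
    · simp [hu0]
    · by_cases hfu : eval u f = 0
      · simp [hfu]
      · simp [hcon u hu0 hu' hfu]
  have hpr : (Ideal.span {h} : Ideal (MvPolynomial (Fin N) k)).IsPrime :=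
    (Ideal.span_singleton_prime hp.ne_zero).2 hp
  rw [hpr.radical, Ideal.mem_span_singleton] at hmem
  have hev : ∀ {q : MvPolynomial (Fin N) k} {x : Fin N → k}, eval x h = 0 → h ∣ q → eval x q = 0 := by
    rintro q x hx ⟨c, rfl⟩
    rw [map_mul, hx, zero_mul]
  rcases hp.dvd_or_dvd hmem with h1 | h1
  · rcases hp.dvd_or_dvd h1 with h2 | h2
    · exact hf (hev hw h2)
    · exact hi (by simpa using hev hw h2)
  · exact hg (hev hv h1)

/-- A zero of a nonzero polynomial is a zero of an irreducible factor. -/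
theorem exists_factor {N : ℕ} {D : MvPolynomial (Fin N) k} (hD : D ≠ 0) {v : Fin N → k}
    (hv : eval v D = 0) : ∃ h c : MvPolynomial (Fin N) k, Irreducible h ∧ h * c = D ∧ eval v h = 0 := by
  revert hD hv
  refine WfDvdMonoid.induction_on_irreducible D (fun h => absurd rfl h) ?_ ?_
  · intro u hu _ hv
    exact absurd hv ((hu.map (eval v)).ne_zero)
  · intro a i ha hi ih _ hv
    rw [map_mul] at hv
    rcases mul_eq_zero.1 hv with h | h
    · exact ⟨i, a, hi, rfl, h⟩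
    · obtain ⟨h', c, h1, h2, h3⟩ := ih ha h
      exact ⟨h', i * c, h1, by rw [← h2]; ring, h3⟩

/-- **Connectedness of projective hypersurfaces.** -/
theorem conn_hyp {N d : ℕ} (hN : 3 ≤ N) {D : MvPolynomial (Fin N) k} (hD : D.IsHomogeneous d)
    {O₁ O₂ : Set (Fin N → k)} (h₁ : IsZOpen k O₁) (h₂ : IsZOpen k O₂)
    (hcov : ∀ v, v ≠ 0 → eval v D = 0 → v ∈ O₁ ∨ v ∈ O₂)
    (hdis : ∀ v, v ≠ 0 → eval v D = 0 → v ∈ O₁ → v ∈ O₂ → False) :
    (∀ v, v ≠ 0 → eval v D = 0 → v ∈ O₁) ∨ (∀ v, v ≠ 0 → eval v D = 0 → v ∈ O₂) := by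
  by_contra hcon
  push Not at hcon
  obtain ⟨⟨v₁, hv₁0, hv₁D, hv₁⟩, v₂, hv₂0, hv₂D, hv₂⟩ := hcon
  have hv₁' : v₁ ∈ O₂ := (hcov v₁ hv₁0 hv₁D).resolve_left hv₁
  have hv₂' : v₂ ∈ O₁ := (hcov v₂ hv₂0 hv₂D).resolve_right hv₂
  -- polynomials cutting out neighbourhoods
  have hpoly : ∀ (O : Set (Fin N → k)), IsZOpen k O → ∀ v ∈ O, ∃ P : MvPolynomial (Fin N) k,
      eval v P ≠ 0 ∧ ∀ w, eval w P ≠ 0 → w ∈ O := by
    intro O hO v hv
    obtain ⟨f, hf, hfv, hfO⟩ := hO v hv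
    obtain ⟨P, hP⟩ := K714.Codim.exists_mvPoly (Pi.basisFun k (Fin N)) hf
    have hP' : ∀ w, f w = eval w P := fun w => by rw [hP w]; rfl
    exact ⟨P, by rw [← hP']; exact hfv, fun w hw => hfO w (by rw [hP']; exact hw)⟩
  obtain ⟨P₁, hP₁, hP₁O⟩ := hpoly O₁ h₁ v₂ hv₂'
  obtain ⟨P₂, hP₂, hP₂O⟩ := hpoly O₂ h₂ v₁ hv₁'
  by_cases hD0 : D = 0
  · -- the whole space
    obtain ⟨i, hi⟩ : ∃ i, v₂ i ≠ 0 := by
      by_contra hcon
      push Not at hcon
      exact hv₂0 (funext hcon)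
    have hinf : Infinite k := IsAlgClosed.instInfinite
    have hne : P₁ * X i * P₂ ≠ 0 := by
      refine mul_ne_zero (mul_ne_zero ?_ (X_ne_zero i)) ?_
      · rintro rfl; exact hP₁ (map_zero _)
      · rintro rfl; exact hP₂ (map_zero _)
    obtain ⟨u, hu⟩ : ∃ u, eval u (P₁ * X i * P₂) ≠ 0 := by
      by_contra hcon
      push Not at hcon
      exact hne (MvPolynomial.funext fun u => by rw [hcon, map_zero])
    rw [map_mul, map_mul, eval_X] at hu
    have hu0 : u ≠ 0 := by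
      rintro rfl
      apply hu
      simp
    exact hdis u hu0 (by rw [hD0, map_zero]) (hP₁O u (left_ne_zero_of_mul (left_ne_zero_of_mul hu)))
      (hP₂O u (right_ne_zero_of_mul hu))
  · obtain ⟨p₁, c₁, hp₁, hpc₁, hpv₁⟩ := exists_factor hD0 hv₁D
    obtain ⟨p₂, c₂, hp₂, hpc₂, hpv₂⟩ := exists_factor hD0 hv₂D
    have hhom : ∀ p c : MvPolynomial (Fin N) k, Irreducible p → p * c = D →
        ∃ a : ℕ, 0 < a ∧ p.IsHomogeneous a := by
      intro p c hp hpc
      obtain ⟨a, b, -, ha, -⟩ := K713.HomFactor.exists_isHomogeneous (hpc ▸ hD) (hpc ▸ hD0)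
      refine ⟨a, Nat.pos_of_ne_zero ?_, ha⟩
      rintro rfl
      have h1 : p.totalDegree = 0 := Nat.le_zero.mp ha.totalDegree_le
      rw [totalDegree_eq_zero_iff_eq_C] at h1
      apply hp.not_isUnit
      rw [h1]
      refine (IsUnit.mk0 _ ?_).map (C : k →+* MvPolynomial (Fin N) k)
      intro h2
      rw [h2, map_zero] at h1
      exact hp.ne_zero h1
    obtain ⟨a₁, ha₁, hom₁⟩ := hhom p₁ c₁ hp₁ hpc₁
    obtain ⟨a₂, ha₂, hom₂⟩ := hhom p₂ c₂ hp₂ hpc₂
    obtain ⟨w, hw0, hw⟩ := K714.Zeros.exists_ne_zero (k := k) (N := N) (ι := Fin 2)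
      (by rw [Fintype.card_fin]; omega) ![a₁, a₂] (by
        intro i; fin_cases i
        · exact ha₁
        · exact ha₂) ![p₁, p₂] (by
        intro i; fin_cases i
        · exact hom₁
        · exact hom₂)
    have hw1 : eval w p₁ = 0 := hw 0
    have hw2 : eval w p₂ = 0 := hw 1
    have hwD : eval w D = 0 := by rw [← hpc₁, map_mul, hw1, zero_mul]
    rcases hcov w hw0 hwD with hwO | hwO
    · obtain ⟨Q, hQ, hQO⟩ := hpoly O₁ h₁ w hwO
      obtain ⟨u, hu0, hu1, hu2, hu3⟩ := exists_zero_of_prime hp₁ hw1 hpv₁ hQ hP₂ hw0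
      exact hdis u hu0 (by rw [← hpc₁, map_mul, hu1, zero_mul]) (hQO u hu2) (hP₂O u hu3)
    · obtain ⟨Q, hQ, hQO⟩ := hpoly O₂ h₂ w hwO
      obtain ⟨u, hu0, hu1, hu2, hu3⟩ := exists_zero_of_prime hp₂ hw2 hpv₂ hQ hP₁ hw0
      exact hdis u hu0 (by rw [← hpc₂, map_mul, hu1, zero_mul]) (hP₁O u hu3) (hQO u hu2)

end K714.ConnHyp
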