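import Groth.Agent.Fano.K714.DimMv
import Groth.Agent.Lefpen.H703.NondegOpen
import Mathlib.Data.Sym.Card
import Mathlib.Data.Finsupp.Multiset

/-!
# A lower bound for the Hilbert function of a projective variety

`choose_add_finrank_le`: if `P ⊆ k[x_0, …, x_m]` is prime with `dim k[x]/P = r`, the forms of degree `e` in `P` have
codimension at least `C(r + e - 1, e)` in all forms of degree `e`.
-/

set_option autoImplicit false

universe u

namespace K714.HilbBound

open MvPolynomial LefPen

variable {k : Type u} [Field k]

theorem finrank_homogeneousSubmodule (σ : Type*) [Fintype σ] (e : ℕ) :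
    Module.finrank k (homogeneousSubmodule σ k e) = (Fintype.card σ + e - 1).choose e := by
  classical
  have h : homogeneousSubmodule σ k e =
    AddMonoidAlgebra.supported k k {m : σ →₀ ℕ | m.degree = e} :=
    homogeneousSubmodule_eq_finsupp_supported σ k e
  rw [h, (AddMonoidAlgebra.supportedEquivFinsupp (R := k) (S := k)
    {m : σ →₀ ℕ | m.degree = e}).finrank_eq]
  rw [Module.finrank, rank_finsupp_self, Cardinal.toNat_lift]
  have e1 : Sym σ e ≃ {m : σ →₀ ℕ | m.degree = e} :=
    (Sym.equivNatSum σ e).trans (Equiv.subtypeEquivRight fun P => by rfl)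
  have h2 := Sym.card_sym_eq_choose (α := σ) e
  rw [← h2, ← Nat.card_eq_fintype_card, Nat.card_congr e1]
  rfl

theorem choose_add_finrank_le {m : ℕ} (P : Ideal (MvPolynomial (Fin (m + 1)) k)) [P.IsPrime] (r : ℕ)
    (hr : ringKrullDim (MvPolynomial (Fin (m + 1)) k ⧸ P) = r) (e : ℕ) :
    (r + e - 1).choose e + Module.finrank k
      ((Submodule.restrictScalars k P).comap (Submodule.subtype (CohB1.polyGrading m k e))) ≤
      Module.finrank k (Form m k e) := by
  classical
  obtain ⟨d, a, hd, htr, ha, had⟩ := DimMv.exists_nat_dim P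
  have hdr : d = r := by rw [hd] at hr; exact_mod_cast hr
  subst hdr
  let x : Fin (m + 1) → MvPolynomial (Fin (m + 1)) k ⧸ P := fun i => Ideal.Quotient.mk P (X i)
  have hgen : Algebra.adjoin k (Set.range x) = ⊤ := by
    have h1 : Set.range x = (Ideal.Quotient.mkₐ k P) '' (Set.range X) := by
      rw [← Set.range_comp]; rfl
    rw [h1, ← AlgHom.map_adjoin, MvPolynomial.adjoin_range_X, Algebra.map_top,
      AlgHom.range_eq_top]
    exact Ideal.Quotient.mk_surjective
  have halg : Algebra.IsAlgebraic (Algebra.adjoin k (Set.range x)) (MvPolynomial (Fin (m + 1)) k ⧸ P) := by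
    rw [hgen]
    exact ⟨fun y => isAlgebraic_algebraMap (⟨y, trivial⟩ : (⊤ : Subalgebra k (MvPolynomial (Fin (m + 1)) k ⧸ P)))⟩
  have : FaithfulSMul k (MvPolynomial (Fin (m + 1)) k ⧸ P) := by
    have h0 := (algebraMap k (MvPolynomial (Fin (m + 1)) k ⧸ P)).injective
    exact (faithfulSMul_iff_algebraMap_injective _ _).mpr h0
  obtain ⟨t, hts, ht⟩ := exists_isTranscendenceBasis_subset (R := k) (Set.range x)
  have htfin : t.Finite := (Set.finite_range x).subset hts
  have : Fintype t := htfin.fintype
  have hcard : Fintype.card t = d := by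
    have h1 := ht.cardinalMk_eq_trdeg
    rw [htr, Cardinal.mk_fintype] at h1
    exact_mod_cast h1
  have hidx : ∀ y : t, ∃ i, x i = y := fun y => hts y.2
  choose idx hidx using hidx
  -- the subspace of forms in the chosen variables
  let φ : MvPolynomial t k →ₐ[k] MvPolynomial (Fin (m + 1)) k := rename idx
  have hφ : Function.Injective (fun p : MvPolynomial t k => Ideal.Quotient.mk P (φ p)) := by
    have h1 : ∀ p : MvPolynomial t k, Ideal.Quotient.mk P (φ p) = aeval (fun y : t => (y : MvPolynomial (Fin (m + 1)) k ⧸ P)) p := by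
      intro p
      induction p using MvPolynomial.induction_on with
      | C a => simp [φ]; rfl
      | add p q hp hq => simp only [map_add, hp, hq]
      | mul_X p j hp =>
        have h2 : Ideal.Quotient.mk P (φ (X j)) = j := by
          rw [← hidx j]
          simp [φ, x]
        rw [map_mul, map_mul, map_mul, hp, h2, aeval_X]
    intro p q hpq
    simp only [h1] at hpq
    exact ht.1 hpq
  let ψ : homogeneousSubmodule t k e →ₗ[k] Form m k e :=
    (φ.toLinearMap.comp (Submodule.subtype _)).codRestrict _ fun p =>
      (mem_homogeneousSubmodule _ _).2 (((mem_homogeneousSubmodule _ _).1 p.2).rename_isHomogeneous)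
  have hψ : Function.Injective ψ := by
    intro p q hpq
    apply Subtype.ext
    apply hφ
    have := congrArg Subtype.val hpq
    change φ p.1 = φ q.1 at this
    simp only [this]
  have hdisj : Disjoint (LinearMap.range ψ)
      ((Submodule.restrictScalars k P).comap (Submodule.subtype (CohB1.polyGrading m k e))) := by
    rw [Submodule.disjoint_def]
    rintro _ ⟨p, rfl⟩ hp
    have h1 : φ p.1 ∈ P := hp
    have h2 : (fun p : MvPolynomial t k => Ideal.Quotient.mk P (φ p)) p.1 =
        (fun p : MvPolynomial t k => Ideal.Quotient.mk P (φ p)) 0 := by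
      simp only [map_zero]
      exact Ideal.Quotient.eq_zero_iff_mem.mpr h1
    have h3 : p = 0 := Subtype.ext (hφ h2)
    rw [h3, map_zero]
  have h4 := Submodule.finrank_add_finrank_le_of_disjoint hdisj
  rw [LinearMap.finrank_range_of_inj hψ, finrank_homogeneousSubmodule, hcard] at h4
  exact h4

theorem le_choose (n e : ℕ) (h1 : 1 ≤ e) (h2 : e < n) : n ≤ n.choose e := by
  induction n with
  | zero => omega
  | succ n ih =>
    obtain ⟨e, rfl⟩ : ∃ e', e = e' + 1 := ⟨e - 1, by omega⟩
    rw [Nat.choose_succ_succ']
    by_cases h : e + 1 < n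
    · have h3 := ih h
      have h4 : 1 ≤ n.choose e := Nat.choose_pos (by omega)
      omega
    · have h5 : n = e + 1 := by omega
      subst h5
      rw [Nat.choose_self, Nat.choose_succ_self_right]

end K714.HilbBound
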