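import Groth.Agent.Fano.K714.Codim
import Groth.Agent.Fano.K714.HomDim
import Groth.Agent.Fano.K714.HilbBound

/-!
# Sequences of hypersurfaces of degrees `1, …, d` with an intersection of excessive dimension

`codimGE_bad`: for `d ≤ m`, the sequences `(G_1, …, G_d)` of forms of degrees `1, …, d` in `m + 1` variables over an
algebraically closed field with `dim k[x]/(G_1, …, G_d) ≥ m + 2 - d` form a subset of codimension at least `m + 1`.
-/

set_option autoImplicit false

universe u

namespace K714.HypSeq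

open MvPolynomial LefPen Groth.Agent.Lefpen.H703.ZOpen Groth.Agent.Lefpen.H703.NondegOpen
  Groth.Agent.Lefpen.H703.Elim K714.Codim K714.HomDim

variable {k : Type u} [Field k] [IsAlgClosed k]

/-- Upper semicontinuity of the dimension of the cone defined by forms depending linearly on a parameter. -/
theorem isZOpen_dim_le {V : Type u} [AddCommGroup V] [Module k V] [FiniteDimensional k V] {m : ℕ}
    {ι : Type*} (L : ι → V →ₗ[k] MvPolynomial (Fin (m + 1)) k) (a : ι → ℕ)
    (hL : ∀ i v, (L i v).IsHomogeneous (a i)) (t : ℕ) :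
    IsZOpen k {v : V | ringKrullDim (MvPolynomial (Fin (m + 1)) k ⧸
      Ideal.span (Set.range fun i => L i v)) ≤ t} := by
  have h1 : {v : V | ringKrullDim (MvPolynomial (Fin (m + 1)) k ⧸
      Ideal.span (Set.range fun i => L i v)) ≤ t} =
      ⋃ ℓ : Fin t → Form m k 1, {v : V | ∀ x : Fin (m + 1) → k, x ≠ 0 →
        (x, v) ∈ {p : (Fin (m + 1) → k) × V | (∃ i, eval p.1 (L i p.2) ≠ 0) ∨ ∃ j, eval p.1 (ℓ j).1 ≠ 0}} := by
    ext v
    rw [Set.mem_iUnion]
    have hh : (Ideal.span (Set.range fun i => L i v)).IsHomogeneous (CohB1.polyGrading m k) := by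
      refine Ideal.homogeneous_span _ _ ?_
      rintro _ ⟨i, rfl⟩
      exact ⟨a i, (mem_homogeneousSubmodule _ _).2 (hL i v)⟩
    change ringKrullDim (MvPolynomial (Fin (m + 1)) k ⧸
      Ideal.span (Set.range fun i => L i v)) ≤ t ↔ _
    rw [dim_le_iff hh]
    refine exists_congr fun ℓ => forall_congr' fun x => imp_congr_right fun _ => or_congr ?_ Iff.rfl
    constructor
    · rintro ⟨p, hp, hne⟩
      by_contra hcon
      push Not at hcon
      apply hne
      have h2 : Ideal.span (Set.range fun i => L i v) ≤ RingHom.ker (eval x) := by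
        rw [Ideal.span_le]
        rintro _ ⟨i, rfl⟩
        exact hcon i
      exact h2 hp
    · rintro ⟨i, hi⟩
      exact ⟨_, Ideal.subset_span ⟨i, rfl⟩, hi⟩
  rw [h1]
  refine isZOpen_iUnion fun ℓ => ?_
  refine isZOpen_forall_ne_zero (E := Fin (m + 1) → k) ?_ ?_
  · have h2 : {p : (Fin (m + 1) → k) × V | (∃ i, eval p.1 (L i p.2) ≠ 0) ∨ ∃ j, eval p.1 (ℓ j).1 ≠ 0} =
        (⋃ i, {p : (Fin (m + 1) → k) × V | eval p.1 (L i p.2) ≠ 0}) ∪
          ⋃ j, {p : (Fin (m + 1) → k) × V | eval p.1 (ℓ j).1 ≠ 0} := by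
      ext p
      simp
    rw [h2]
    refine zo_union (isZOpen_iUnion fun i => isZOpen_basic (isPolyFun_eval_linear (L i)))
      (isZOpen_iUnion fun j => isZOpen_basic (isPolyFun_eval _ fun i => ?_))
    exact isPolyFun_linear' (V := (Fin (m + 1) → k) × V)
      ((LinearMap.proj i).comp (LinearMap.fst k (Fin (m + 1) → k) V))
  · intro x v c hc h
    rcases h with ⟨i, hi⟩ | ⟨j, hj⟩
    · left
      refine ⟨i, ?_⟩
      change eval (c • x) (L i v) ≠ 0
      rw [eval_smul_of_isHomogeneous (hL i v)]
      exact mul_ne_zero (pow_ne_zero _ hc) hi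
    · right
      refine ⟨j, ?_⟩
      change eval (c • x) (ℓ j).1 ≠ 0
      rw [eval_smul_of_isHomogeneous ((mem_homogeneousSubmodule _ _).1 (ℓ j).2)]
      exact mul_ne_zero (pow_ne_zero _ hc) hj

variable (k) in
/-- Sequences of forms of degrees `1, …, d` in `m + 1` variables. -/
abbrev Sq (m d : ℕ) : Type u := (j : Fin d) → Form m k (j.1 + 1)

variable (k) in
/-- The sequences whose intersection has dimension larger than expected. -/
def bad (m d : ℕ) : Set (Sq k m d) :=
  {G | ((m + 2 - d : ℕ) : WithBot ℕ∞) ≤ ringKrullDim (MvPolynomial (Fin (m + 1)) k ⧸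
    Ideal.span (Set.range fun j : Fin d => (G j).1))}

variable (k) in
/-- Separation of the last form. -/
noncomputable def lastEquiv (m d : ℕ) : Sq k m (d + 1) ≃ₗ[k] Sq k m d × Form m k (d + 1) where
  toFun G := (fun j => G j.castSucc, G (Fin.last d))
  map_add' _ _ := rfl
  map_smul' _ _ := rfl
  invFun p := Fin.snoc (α := fun j : Fin (d + 1) => Form m k (j.1 + 1)) p.1 p.2
  left_inv G := by
    funext j
    refine Fin.lastCases ?_ (fun i => ?_) j
    · simp
    · simp
  right_inv p := by
    refine Prod.ext ?_ ?_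
    · funext j
      simp
    · simp

theorem not_le_iff (x : WithBot ℕ∞) (n : ℕ) : ¬ (((n + 1 : ℕ) : WithBot ℕ∞) ≤ x) ↔ x ≤ (n : WithBot ℕ∞) := by
  rw [not_le]
  exact_mod_cast ENat.WithBot.lt_add_one_iff

theorem codimGE_mem_prime {m : ℕ} (P : Ideal (MvPolynomial (Fin (m + 1)) k)) [P.IsPrime] (d : ℕ) (hd : d < m)
    (hP : ringKrullDim (MvPolynomial (Fin (m + 1)) k ⧸ P) = (m + 1 - d : ℕ)) :
    CodimGE k {H : Form m k (d + 1) | H.1 ∈ P} (m + 1) := by
  refine codimGE_submodule
    ((Submodule.restrictScalars k P).comap (Submodule.subtype (CohB1.polyGrading m k (d + 1)))) (m + 1) ?_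
  refine le_trans ?_ (HilbBound.choose_add_finrank_le P (m + 1 - d) hP (d + 1))
  refine Nat.add_le_add_right ?_ _
  have h1 : m + 1 - d + (d + 1) - 1 = m + 1 := by omega
  rw [h1]
  exact HilbBound.le_choose _ _ (by omega) (by omega)

theorem codimGE_bad (m d : ℕ) (hd : d ≤ m) : CodimGE k (bad k m d) (m + 1) := by
  have : Infinite k := IsAlgClosed.instInfinite
  induction d with
  | zero =>
    refine codimGE_mono (D' := ∅) ?_ (codimGE_empty _)
    intro G hG
    change ((m + 2 - 0 : ℕ) : WithBot ℕ∞) ≤ _ at hG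
    have h1 : ringKrullDim (MvPolynomial (Fin (m + 1)) k ⧸
      Ideal.span (Set.range fun j : Fin 0 => (G j).1)) ≤ (m + 1 : ℕ) := by
      refine (ringKrullDim_quotient_le _).trans ?_
      rw [Groth.Agent.CalgC.DimFT.ringKrullDim_mvPolynomial_fin]
    have h2 := hG.trans h1
    have h3 : m + 2 - 0 ≤ m + 1 := by exact_mod_cast h2
    omega
  | succ d ih =>
    have ih := ih (by omega)
    let Z : Set (Sq k m d × Form m k (d + 1)) := {p | ((m + 1 - d : ℕ) : WithBot ℕ∞) ≤
      ringKrullDim (MvPolynomial (Fin (m + 1)) k ⧸ Ideal.span (Set.range fun j : Fin (d + 1) =>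
        (((lastEquiv k m d).symm p) j).1))}
    have hbad : bad k m (d + 1) = (lastEquiv k m d) ⁻¹' Z := by
      ext G
      change ((m + 2 - (d + 1) : ℕ) : WithBot ℕ∞) ≤ _ ↔ ((m + 1 - d : ℕ) : WithBot ℕ∞) ≤
        ringKrullDim (MvPolynomial (Fin (m + 1)) k ⧸ Ideal.span (Set.range fun j : Fin (d + 1) =>
        (((lastEquiv k m d).symm (lastEquiv k m d G)) j).1))
      rw [show m + 2 - (d + 1) = m + 1 - d by omega, (lastEquiv k m d).symm_apply_apply G]
    rw [hbad, codimGE_preimage]
    obtain ⟨e, he⟩ : ∃ e, m + 1 - d = e + 1 := ⟨m - d, by omega⟩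
    refine codimGE_of_fibres' ?_ _ ih ?_
    · have h1 := isZOpen_dim_le (V := Sq k m d × Form m k (d + 1)) (m := m)
        (fun j : Fin (d + 1) => (Submodule.subtype (CohB1.polyGrading m k (j.1 + 1))).comp
          ((LinearMap.proj j).comp (lastEquiv k m d).symm.toLinearMap)) (fun j => j.1 + 1)
        (fun j p => (mem_homogeneousSubmodule _ _).1 (((lastEquiv k m d).symm p) j).2) e
      refine (isZOpen_congr fun p => ?_).1 h1
      simp only [Z, Set.mem_compl_iff, Set.mem_ofPred_eq, he]
      rw [not_le_iff]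
      rfl
    · intro G hG
      have hGd : ringKrullDim (MvPolynomial (Fin (m + 1)) k ⧸
          Ideal.span (Set.range fun j : Fin d => (G j).1)) ≤ (e + 1 : ℕ) := by
        rw [← not_le_iff]
        intro h
        apply hG
        change ((m + 2 - d : ℕ) : WithBot ℕ∞) ≤ _
        rwa [show m + 2 - d = e + 1 + 1 by omega]
      set I := Ideal.span (Set.range fun j : Fin d => (G j).1) with hI
      rw [ringKrullDim_quotient_le_iff] at hGd
      refine codimGE_mono (D' := ⋃ P ∈ {P | P ∈ I.minimalPrimes ∧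
        ringKrullDim (MvPolynomial (Fin (m + 1)) k ⧸ P) = (m + 1 - d : ℕ)}, {H : Form m k (d + 1) | H.1 ∈ P}) ?_ ?_
      · intro H hH
        have hH' : ((e + 1 : ℕ) : WithBot ℕ∞) ≤ ringKrullDim (MvPolynomial (Fin (m + 1)) k ⧸
          Ideal.span (Set.range fun j : Fin (d + 1) => (((lastEquiv k m d).symm (G, H)) j).1)) := by
          rw [← he]; exact hH
        have hspan : Ideal.span (Set.range fun j : Fin (d + 1) => (((lastEquiv k m d).symm (G, H)) j).1) =
            I ⊔ Ideal.span {H.1} := by
          rw [hI, ← Ideal.span_union]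
          congr 1
          ext p
          constructor
          · rintro ⟨j, rfl⟩
            refine Fin.lastCases ?_ (fun i => ?_) j
            · right
              simp [lastEquiv]
            · left
              exact ⟨i, by simp [lastEquiv]⟩
          · rintro (⟨j, rfl⟩ | h)
            · exact ⟨j.castSucc, by simp [lastEquiv]⟩
            · rw [Set.mem_singleton_iff] at h
              exact ⟨Fin.last d, by simp [lastEquiv, h]⟩
        rw [hspan] at hH'
        obtain ⟨Q, hQ, hQd⟩ : ∃ Q ∈ (I ⊔ Ideal.span {H.1}).minimalPrimes,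
            ((e + 1 : ℕ) : WithBot ℕ∞) ≤ ringKrullDim (MvPolynomial (Fin (m + 1)) k ⧸ Q) := by
          by_contra hcon
          push Not at hcon
          refine (not_le_iff _ e).mpr ?_ hH'
          rw [ringKrullDim_quotient_le_iff]
          intro Q hQ
          rw [← not_le_iff]
          exact not_le.mpr (hcon Q hQ)
        have hQp : Q.IsPrime := hQ.1.1
        obtain ⟨P, hP, hPQ⟩ := Ideal.exists_minimalPrimes_le (I := I) (J := Q) (le_sup_left.trans hQ.1.2)
        have hPp : P.IsPrime := hP.1.1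
        have hPQ' : P = Q := by
          by_contra hne
          have h3 := lt_of_lt (lt_of_le_of_ne hPQ hne) e (hGd P hP)
          exact (not_le_iff _ e).mpr h3 hQd
        rw [Set.mem_iUnion₂]
        refine ⟨P, ⟨hP, ?_⟩, ?_⟩
        · rw [he]
          exact le_antisymm (hGd P hP) (hPQ' ▸ hQd)
        · change H.1 ∈ P
          rw [hPQ']
          exact hQ.1.2 (Ideal.mem_sup_right (Ideal.mem_span_singleton_self _))
      · refine codimGE_biUnion ?_ ?_
        · exact (Ideal.finite_minimalPrimes_of_isNoetherianRing _ I).subset fun P hP => hP.1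
        · rintro P ⟨hP, hPd⟩
          have hPp : P.IsPrime := hP.1.1
          exact codimGE_mem_prime P d (by omega) hPd

end K714.HypSeq
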