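import Groth.Agent.Fano.K714.RatDef
import Groth.Prelude.Def_Curv2
import Groth.Prelude.Def_DCoh4
import Groth.Prelude.Def_LCI2
import Groth.Prelude.Def_ExtPow2
import Groth.Prelude.Def_FlatMod2

/-!
# PLAN (sorried, never import in a shipped proof): Hilbert schemes of curves on a cubic threefold

Rows S16521, S16522, S16523, S16524, S16527.
-/

set_option autoImplicit false
universe u
open CategoryTheory CategoryTheory.Limits AlgebraicGeometry TopologicalSpace Opposite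

namespace Groth.Agent.Fano.K714.PlanA

open Groth.Agent.Fano.K714.Rat

/-! ## R0: families give morphisms to the Hilbert scheme -/

theorem exists_hom_of_family {k : Type u} [Field k] {X : Scheme.{u}} (x : X ⟶ Spec (CommRingCat.of k))
    (H : Over (Spec (CommRingCat.of k))) (Z : FGA.HilbSet x H) (hH : FGA.HilbRepresentedBy x H Z)
    (R : Type u) [CommRing R] [IsNoetherianRing R] (σ : k →+* R)
    {W : Scheme.{u}} (w : W ⟶ Spec (CommRingCat.of R)) (j : W ⟶ X) [IsProper w] [Flat w]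
    (hjw : j ≫ x = w ≫ Spec.map (CommRingCat.ofHom σ))
    (hcl : IsClosedImmersion (pullback.lift j w hjw)) :
    ∃ g : Over.mk (Spec.map (CommRingCat.ofHom σ)) ⟶ H,
      ∀ (m : R →+* k) (hm : Spec.map (CommRingCat.ofHom m) ≫ Spec.map (CommRingCat.ofHom σ) =
          𝟙 (Spec (CommRingCat.of k)))
        (W₀ : Scheme.{u}) (w₀ : W₀ ⟶ Spec (CommRingCat.of k)) (e : W₀ ⟶ W)
        (_ : IsPullback e w₀ w (Spec.map (CommRingCat.ofHom m))),
        FGA.hilbPull x ((Over.homMk (Spec.map (CommRingCat.ofHom m)) hm :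
            pt k ⟶ Over.mk (Spec.map (CommRingCat.ofHom σ))) ≫ g) Z.1 =
          (e ≫ j).ker.comap (pullback.fst x (pt k).hom) := by
  sorry

/-! ## R1: rational normal curves -/

theorem exists_isPar {k : Type u} [Field k] [Infinite k] (f : LefPen.Form 4 k 3) {d : ℕ} (hd : 1 ≤ d)
    {c : Fin (d + 1) → Fin 5 → k} (hc : c ∈ Par f d) : ∃ i : CohB1.ProjSpace 1 k ⟶ Xf f, IsPar f d c i := by
  sorry

theorem isClosedImmersion {k : Type u} [Field k] (f : LefPen.Form 4 k 3) {d : ℕ} (hd : 1 ≤ d)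
    {c : Fin (d + 1) → Fin 5 → k} (hc : LinearIndependent k c)
    {i : CohB1.ProjSpace 1 k ⟶ Xf f} (hi : IsPar f d c i) : IsClosedImmersion i := by
  sorry

/-! ## R2: classification of conics and twisted cubics -/

theorem exists_par {k : Type u} [Field k] [IsAlgClosed k] [CharZero k] (f : LefPen.Form 4 k 3) {d : ℕ}
    (hd : d = 2 ∨ d = 3) (i : CohB1.ProjSpace 1 k ⟶ Xf f) [IsClosedImmersion i]
    (hi : i ≫ ps f = CohB1.ProjSpace.toSpec 1 k)
    (hdeg : Nonempty ((Scheme.Modules.pullback (i ≫ emb f)).obj (Twist.twistProjSpace 4 k 1) ≅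
      Twist.twistProjSpace 1 k (d : ℤ))) :
    ∃ c ∈ Par f d, IsPar f d c i := by
  sorry

/-! ## R3: the tautological family of parametrised curves gives morphisms to the Hilbert scheme -/

theorem exists_poly_of_mem_open {k : Type u} [Field k] [IsAlgClosed k] [CharZero k]
    (f : LefPen.Form 4 k 3) (H : Over (Spec (CommRingCat.of k))) (Z : FGA.HilbSet (ps f) H)
    (hH : FGA.HilbRepresentedBy (ps f) H Z) {d : ℕ} (hd : 1 ≤ d) (A : H.left.Opens)
    {c₀ : Fin (d + 1) → Fin 5 → k} (hc₀ : c₀ ∈ Par f d) {x₀ : ↥H.left} (hx₀ : IsClass f H Z d c₀ x₀)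
    (hA : x₀ ∈ A) :
    ∃ G : MvPolynomial (Fin (d + 1) × Fin 5) k, MvPolynomial.eval (fun q => c₀ q.1 q.2) G ≠ 0 ∧
      ∀ c ∈ Par f d, MvPolynomial.eval (fun q => c q.1 q.2) G ≠ 0 →
        ∃ x ∈ A, IsClass f H Z d c x := by
  sorry

/-! ## Conormal sheaves (S16521, S16522) -/

/-- degree of the conormal sheaf (adjunction, S11310 twice) -/
theorem extPow_conormal {k : Type u} [Field k] [IsAlgClosed k] [CharZero k] (f : LefPen.Form 4 k 3) (hf : f ≠ 0)
    [Smooth (ps f)] (i : CohB1.ProjSpace 1 k ⟶ Xf f) [IsClosedImmersion i]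
    (hi : i ≫ ps f = CohB1.ProjSpace.toSpec 1 k) (d : ℕ)
    (hdeg : Nonempty ((Scheme.Modules.pullback (i ≫ emb f)).obj (Twist.twistProjSpace 4 k 1) ≅
      Twist.twistProjSpace 1 k (d : ℤ))) (a : Fin 2 → ℤ)
    (ha : Nonempty (Omega.conormal i ≅ ∐ fun j : Fin 2 => Twist.twistProjSpace 1 k (a j))) :
    a 0 + a 1 = 2 - 2 * (d : ℤ) := by
  sorry

theorem locFree_conormal {k : Type u} [Field k] [IsAlgClosed k] [CharZero k] (f : LefPen.Form 4 k 3) (hf : f ≠ 0)
    [Smooth (ps f)] (i : CohB1.ProjSpace 1 k ⟶ Xf f) [IsClosedImmersion i]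
    (hi : i ≫ ps f = CohB1.ProjSpace.toSpec 1 k) : FlatMod.IsFinLocFreeOfRank 2 (Omega.conormal i) := by
  sorry

theorem hom_conormal_conic {k : Type u} [Field k] [IsAlgClosed k] [CharZero k] (f : LefPen.Form 4 k 3) (hf : f ≠ 0)
    [Smooth (ps f)] (i : CohB1.ProjSpace 1 k ⟶ Xf f) [IsClosedImmersion i]
    (c : Fin 3 → Fin 5 → k) (hc : c ∈ Par f 2) (hi : IsPar f 2 c i)
    (θ : Omega.conormal i ⟶ Twist.twistProjSpace 1 k (-3)) : θ = 0 := by
  sorry

theorem hom_conormal_cubic {k : Type u} [Field k] [IsAlgClosed k] [CharZero k] (f : LefPen.Form 4 k 3) (hf : f ≠ 0)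
    [Smooth (ps f)] (i : CohB1.ProjSpace 1 k ⟶ Xf f) [IsClosedImmersion i]
    (c : Fin 4 → Fin 5 → k) (hc : c ∈ Par f 3) (hi : IsPar f 3 c i)
    (θ : Omega.conormal i ⟶ Twist.twistProjSpace 1 k (-6)) : θ = 0 := by
  sorry

/-! ## Hilbert scheme points -/

theorem regular_of_conormal {k : Type u} [Field k] [IsAlgClosed k] [CharZero k] (f : LefPen.Form 4 k 3) (hf : f ≠ 0)
    [Smooth (ps f)] (H : Over (Spec (CommRingCat.of k))) (Z : FGA.HilbSet (ps f) H)
    (hH : FGA.HilbRepresentedBy (ps f) H Z)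
    (i : CohB1.ProjSpace 1 k ⟶ Xf f) [IsClosedImmersion i]
    (hi : i ≫ ps f = CohB1.ProjSpace.toSpec 1 k)
    (h : pt k ⟶ H) (hh : FGA.hilbPull (ps f) h Z.1 = i.ker.comap (pullback.fst (ps f) (pt k).hom))
    (a : Fin 2 → ℤ) (ha : ∀ j, a j ≤ 1) (n : ℕ) (hn : (n : ℤ) = 2 - a 0 - a 1)
    (e : Nonempty (Omega.conormal i ≅ ∐ fun j : Fin 2 => Twist.twistProjSpace 1 k (a j))) :
    IsRegularLocalRing (H.left.presheaf.stalk (h.left.base (IsLocalRing.closedPoint k))) ∧
      ringKrullDim (H.left.presheaf.stalk (h.left.base (IsLocalRing.closedPoint k))) = n := by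
  sorry

end Groth.Agent.Fano.K714.PlanA
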