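import Groth.Agent.Fano.K714.QuartDef
import Groth.Prelude.Def_Curv2
import Groth.Prelude.Def_DCoh4
import Groth.Prelude.Def_LCI2

/-!
# PLAN (sorried, never import in a shipped proof): elliptic quartics on a cubic threefold, S16527
-/

set_option autoImplicit false
universe u
open CategoryTheory CategoryTheory.Limits AlgebraicGeometry TopologicalSpace Opposite

namespace Groth.Agent.Fano.K714.PlanB

open Groth.Agent.Fano.K714.Rat Groth.Agent.Fano.K714.Quart

variable {k : Type u} [Field k] [IsAlgClosed k] [CharZero k]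

/-! ## QA: classification -/

theorem exists_sol (f : LefPen.Form 4 k 3) (hf : f ≠ 0) [Smooth (ps f)]
    (C : Scheme.{u}) (p : C ⟶ Spec (CommRingCat.of k)) (i : C ⟶ Xf f) (hcl : IsClosedImmersion i)
    (hip : i ≫ ps f = p) (hsm : Smooth p) (hpr : IsProper p) (hint : IsIntegral C)
    (hdim : topologicalKrullDim C = 1) (hg : @Curv2.genus k _ C ⟨p⟩ = 1)
    (hdeg : @Curv2.deg k _ C ⟨p⟩ ((Scheme.Modules.pullback (i ≫ emb f)).obj
      (Twist.twistProjSpace 4 k 1)) 1 = 4) :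
    ∃ q ∈ Sol f, (i ≫ emb f).ker = cI q := by
  sorry

/-! ## QB: converse -/

theorem of_good (f : LefPen.Form 4 k 3) (q : Data k) (hq : q ∈ Sol f) (hgood : Good q) :
    ∃ (i : (cI q).subscheme ⟶ Xf f), i ≫ emb f = (cI q).subschemeι ∧ IsClosedImmersion i ∧
      i.ker = (cI q).comap (emb f) ∧ IsIntegral (cI q).subscheme ∧ IsProper (i ≫ ps f) ∧
      @Curv2.genus k _ (cI q).subscheme ⟨i ≫ ps f⟩ = 1 ∧
      @Curv2.deg k _ (cI q).subscheme ⟨i ≫ ps f⟩ ((Scheme.Modules.pullback (i ≫ emb f)).obj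
        (Twist.twistProjSpace 4 k 1)) 1 = 4 := by
  sorry

/-! ## QC: the family -/

theorem exists_poly_of_mem_openQ (f : LefPen.Form 4 k 3) (H : Over (Spec (CommRingCat.of k)))
    (Z : FGA.HilbSet (ps f) H) (hH : FGA.HilbRepresentedBy (ps f) H Z) (A : H.left.Opens)
    {q₀ : Data k} (hq₀ : q₀ ∈ Sol f) (hgood : Good q₀) {x₀ : ↥H.left} (hx₀ : IsClassQ f H Z q₀ x₀)
    (hA : x₀ ∈ A) :
    ∃ G : MvPolynomial ((Fin 3 × Fin 5) ⊕ (Fin 3 × Fin 5 × Fin 5)) k,
      MvPolynomial.eval (coord q₀) G ≠ 0 ∧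
      ∀ q ∈ Sol f, MvPolynomial.eval (coord q) G ≠ 0 → Good q ∧ ∃ x ∈ A, IsClassQ f H Z q x := by
  sorry

/-! ## QD: regularity -/

theorem regular_quart (f : LefPen.Form 4 k 3) (hf : f ≠ 0) [Smooth (ps f)]
    (H : Over (Spec (CommRingCat.of k))) (Z : FGA.HilbSet (ps f) H)
    (hH : FGA.HilbRepresentedBy (ps f) H Z) (q : Data k) (hq : q ∈ Sol f) (hgood : Good q)
    (x : ↥H.left) (hx : IsClassQ f H Z q x) :
    IsRegularLocalRing (H.left.presheaf.stalk x) ∧ ringKrullDim (H.left.presheaf.stalk x) = 8 := by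
  sorry

/-! ## QE: irreducibility -/

theorem irreducible_sol (f : LefPen.Form 4 k 3) (hf : f ≠ 0) [Smooth (ps f)] :
    (Sol f).Nonempty ∧ ∀ G G' : MvPolynomial ((Fin 3 × Fin 5) ⊕ (Fin 3 × Fin 5 × Fin 5)) k,
      (∃ q ∈ Sol f, MvPolynomial.eval (coord q) G ≠ 0) →
      (∃ q ∈ Sol f, MvPolynomial.eval (coord q) G' ≠ 0) →
      ∃ q ∈ Sol f, MvPolynomial.eval (coord q) G ≠ 0 ∧ MvPolynomial.eval (coord q) G' ≠ 0 := by
  sorry

/-- existence of a smooth member -/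
theorem exists_good (f : LefPen.Form 4 k 3) (hf : f ≠ 0) [Smooth (ps f)] :
    ∃ q ∈ Sol f, Good q := by
  sorry

end Groth.Agent.Fano.K714.PlanB
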