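import Groth.Agent.Fano.K714.SurfGeo
import Groth.Agent.Fano.K714.ConnHyp
import Groth.Agent.Lefpen.H703.Elim

/-!
# Planes through a line of a cubic: factorisation of the residual conic, closedness
-/

set_option autoImplicit false

universe u

namespace K714.PlaneFac

open K656.Trilin Module K714.Surf K714.SurfGeo LefPen Groth.Agent.Lefpen.H703.ZOpen

variable {k : Type u} [Field k]

/-- The six equations saying that the quadratic form with coefficients `α, β, γ, 2δ, 2ε, 2ζ`
(`α x² + β y² + γ z² + 2δ yz + 2ε xz + 2ζ xy`) is the product of the linear forms `m`, `n`. -/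
def QFac (α β γ δ ε ζ : k) (m n : Fin 3 → k) : Prop :=
  α = m 0 * n 0 ∧ β = m 1 * n 1 ∧ γ = m 2 * n 2 ∧ 2 * δ = m 1 * n 2 + m 2 * n 1 ∧
    2 * ε = m 0 * n 2 + m 2 * n 0 ∧ 2 * ζ = m 0 * n 1 + m 1 * n 0

theorem QFac.det [CharZero k] {α β γ δ ε ζ : k} {m n : Fin 3 → k} (h : QFac α β γ δ ε ζ m n) :
    α * β * γ + 2 * δ * ε * ζ - α * δ ^ 2 - β * ε ^ 2 - γ * ζ ^ 2 = 0 := by
  obtain ⟨h1, h2, h3, h4, h5, h6⟩ := h
  have h4' : δ = (m 1 * n 2 + m 2 * n 1) / 2 := by
    rw [eq_div_iff (by norm_num)]; linear_combination h4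
  have h5' : ε = (m 0 * n 2 + m 2 * n 0) / 2 := by
    rw [eq_div_iff (by norm_num)]; linear_combination h5
  have h6' : ζ = (m 0 * n 1 + m 1 * n 0) / 2 := by
    rw [eq_div_iff (by norm_num)]; linear_combination h6
  rw [h1, h2, h3, h4', h5', h6']
  ring

theorem quad_factor_aux [IsAlgClosed k] [CharZero k] {α β γ δ ε ζ : k} (hα : α ≠ 0)
    (h : α * β * γ + 2 * δ * ε * ζ - α * δ ^ 2 - β * ε ^ 2 - γ * ζ ^ 2 = 0) :
    ∃ m n : Fin 3 → k, QFac α β γ δ ε ζ m n := by
  obtain ⟨R, hR⟩ := IsAlgClosed.exists_pow_nat_eq (α * β - ζ ^ 2) (n := 2) (by norm_num)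
  obtain ⟨U, hU, hRU⟩ : ∃ U : k, U ^ 2 = α * γ - ε ^ 2 ∧ R * U = α * δ - ζ * ε := by
    obtain ⟨U, hU⟩ := IsAlgClosed.exists_pow_nat_eq (α * γ - ε ^ 2) (n := 2) (by norm_num)
    have h1 : (R * U) ^ 2 = (α * δ - ζ * ε) ^ 2 := by
      rw [mul_pow, hR, hU]
      linear_combination α * h
    rcases sq_eq_sq_iff_eq_or_eq_neg.1 h1 with h2 | h2
    · exact ⟨U, hU, h2⟩
    · exact ⟨-U, by rw [neg_sq, hU], by linear_combination -h2⟩
  obtain ⟨I, hI⟩ := IsAlgClosed.exists_pow_nat_eq (-1 : k) (n := 2) (by norm_num)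
  refine ⟨![1, (ζ + I * R) / α, (ε + I * U) / α], ![α, ζ - I * R, ε - I * U], ?_, ?_, ?_, ?_, ?_, ?_⟩
  · simp
  · simp only [Matrix.cons_val_one, Matrix.cons_val_zero]
    field_simp
    linear_combination -hR + R ^ 2 * hI
  · simp only [Matrix.cons_val]
    field_simp
    linear_combination -hU + U ^ 2 * hI
  · simp only [Matrix.cons_val_one, Matrix.cons_val_zero, Matrix.cons_val]
    field_simp
    linear_combination -2 * hRU + 2 * R * U * hI
  · simp only [Matrix.cons_val_one, Matrix.cons_val_zero, Matrix.cons_val]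
    field_simp
    ring
  · simp only [Matrix.cons_val_one, Matrix.cons_val_zero, Matrix.cons_val]
    field_simp
    ring

/-- A ternary quadratic form of zero determinant is a product of linear forms. -/
theorem quad_factor [IsAlgClosed k] [CharZero k] {α β γ δ ε ζ : k}
    (h : α * β * γ + 2 * δ * ε * ζ - α * δ ^ 2 - β * ε ^ 2 - γ * ζ ^ 2 = 0) :
    ∃ m n : Fin 3 → k, QFac α β γ δ ε ζ m n := by
  by_cases hα : α = 0
  · by_cases hβ : β = 0
    · by_cases hγ : γ = 0
      · subst hα hβ hγ
        have h1 : δ * (ε * ζ) = 0 := by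
          have : (2 : k) * (δ * (ε * ζ)) = 0 := by linear_combination h
          exact (mul_eq_zero.1 this).resolve_left (by norm_num)
        rcases mul_eq_zero.1 h1 with h2 | h2
        · refine ⟨![1, 0, 0], ![0, 2 * ζ, 2 * ε], ?_⟩
          simp [QFac, h2]
        · rcases mul_eq_zero.1 h2 with h3 | h3
          · refine ⟨![0, 1, 0], ![2 * ζ, 0, 2 * δ], ?_⟩
            simp [QFac, h3]
          · refine ⟨![0, 0, 1], ![2 * ε, 2 * δ, 0], ?_⟩
            simp [QFac, h3]
      · -- `γ ≠ 0`: exchange the first and third coordinates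
        obtain ⟨m, n, h1, h2, h3, h4, h5, h6⟩ := quad_factor_aux (α := γ) (β := β) (γ := α) (δ := ζ)
          (ε := ε) (ζ := δ) hγ (by linear_combination h)
        refine ⟨![m 2, m 1, m 0], ![n 2, n 1, n 0], ?_, ?_, ?_, ?_, ?_, ?_⟩ <;>
          simp only [Matrix.cons_val_one, Matrix.cons_val_zero, Matrix.cons_val]
        · exact h3
        · exact h2
        · exact h1
        · linear_combination h6
        · linear_combination h5
        · linear_combination h4
    · obtain ⟨m, n, h1, h2, h3, h4, h5, h6⟩ := quad_factor_aux (α := β) (β := α) (γ := γ) (δ := ε)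
        (ε := δ) (ζ := ζ) hβ (by linear_combination h)
      refine ⟨![m 1, m 0, m 2], ![n 1, n 0, n 2], ?_, ?_, ?_, ?_, ?_, ?_⟩ <;>
        simp only [Matrix.cons_val_one, Matrix.cons_val_zero, Matrix.cons_val]
      · exact h2
      · exact h1
      · exact h3
      · linear_combination h5
      · linear_combination h4
      · linear_combination h6
  · exact quad_factor_aux hα h

/-- The coefficient vector of a product of two linear forms. -/
def M6 (m n : Fin 3 → k) : Fin 6 → k :=
  ![m 0 * n 0, m 1 * n 1, m 2 * n 2, m 1 * n 2 + m 2 * n 1, m 0 * n 2 + m 2 * n 0,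
    m 0 * n 1 + m 1 * n 0]

/-- The value of a ternary quadratic form given by its coefficient vector. -/
def Q6 (G : Fin 6 → k) (c : Fin 3 → k) : k :=
  G 0 * c 0 ^ 2 + G 1 * c 1 ^ 2 + G 2 * c 2 ^ 2 + G 3 * (c 1 * c 2) + G 4 * (c 0 * c 2) +
    G 5 * (c 0 * c 1)

/-- the linear form with coefficient vector `m` -/
def dot (m : Fin 3 → k) : (Fin 3 → k) →ₗ[k] k :=
  m 0 • LinearMap.proj 0 + m 1 • LinearMap.proj 1 + m 2 • LinearMap.proj 2

theorem dot_apply (m c : Fin 3 → k) : dot m c = m 0 * c 0 + m 1 * c 1 + m 2 * c 2 := by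
  simp [dot]

theorem dot_ne_zero {m : Fin 3 → k} (hm : m ≠ 0) : dot m ≠ 0 := by
  intro h
  apply hm
  funext i
  have h0 := LinearMap.congr_fun h (Pi.single i 1)
  rw [dot_apply] at h0
  fin_cases i <;> simpa [Pi.single_apply] using h0

theorem Q6_M6 (m n c : Fin 3 → k) : Q6 (M6 m n) c = dot m c * dot n c := by
  simp only [Q6, M6, dot_apply, Matrix.cons_val]
  ring

theorem Q6_smul (t : k) (G : Fin 6 → k) (c : Fin 3 → k) : Q6 (t • G) c = t * Q6 G c := by
  simp only [Q6, Pi.smul_apply, smul_eq_mul]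
  ring

theorem Q6_ext [CharZero k] {G G' : Fin 6 → k} (h : ∀ c : Fin 3 → k, c 2 ≠ 0 → Q6 G c = Q6 G' c) :
    G = G' := by
  have h2 : (2 : k) ≠ 0 := by norm_num
  have e : ∀ x y : k, Q6 G ![x, y, 1] = Q6 G' ![x, y, 1] := fun x y => h _ (by simp)
  simp only [Q6, Matrix.cons_val] at e
  have e00 := e 0 0
  have e10 := e 1 0
  have e10' := e (-1) 0
  have e01 := e 0 1
  have e01' := e 0 (-1)
  have e11 := e 1 1
  have g2 : G 2 = G' 2 := by linear_combination e00
  have g0 : G 0 = G' 0 := by
    apply mul_left_cancel₀ h2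
    linear_combination e10 + e10' - 2 * e00
  have g4 : G 4 = G' 4 := by linear_combination e10 - g0 - g2
  have g1 : G 1 = G' 1 := by
    apply mul_left_cancel₀ h2
    linear_combination e01 + e01' - 2 * e00
  have g3 : G 3 = G' 3 := by linear_combination e01 - g1 - g2
  have g5 : G 5 = G' 5 := by linear_combination e11 - g0 - g1 - g2 - g3 - g4
  funext i
  fin_cases i
  · exact g0
  · exact g1
  · exact g2
  · exact g3
  · exact g4
  · exact g5

theorem M6_ne_zero [CharZero k] {m n : Fin 3 → k} (hm : m ≠ 0) (hn : n ≠ 0) : M6 m n ≠ 0 := by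
  have : Infinite k := Infinite.of_injective (Nat.cast : ℕ → k) Nat.cast_injective
  intro h
  have h1 : ∀ c, dot m c * dot n c = 0 := by
    intro c
    rw [← Q6_M6, h]
    simp [Q6]
  obtain ⟨i, hi⟩ := exists_le_of_cover ![LinearMap.ker (dot m), LinearMap.ker (dot n)] ⊤ (fun v _ => by
    rcases mul_eq_zero.1 (h1 v) with h | h
    · exact ⟨0, h⟩
    · exact ⟨1, h⟩)
  fin_cases i
  · exact dot_ne_zero hm (LinearMap.ker_eq_top.1 (top_le_iff.1 hi))
  · exact dot_ne_zero hn (LinearMap.ker_eq_top.1 (top_le_iff.1 hi))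

section Lines

variable {V : Type u} [AddCommGroup V] [Module k V]

/-- The line `{∑ c_i e_i | m · c = 0}`. -/
noncomputable def lineOf (e : Fin 3 → V) (m : Fin 3 → k) : Submodule k V :=
  (LinearMap.ker (dot m)).map (Fintype.linearCombination k e)

theorem mem_lineOf {e : Fin 3 → V} {m : Fin 3 → k} {v : V} :
    v ∈ lineOf e m ↔ ∃ c : Fin 3 → k, dot m c = 0 ∧ c 0 • e 0 + c 1 • e 1 + c 2 • e 2 = v := by
  simp only [lineOf, Submodule.mem_map, LinearMap.mem_ker, Fintype.linearCombination_apply,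
    Fin.sum_univ_three]

theorem comb_mem_lineOf {e : Fin 3 → V} (he : LinearIndependent k e) {m c : Fin 3 → k} :
    c 0 • e 0 + c 1 • e 1 + c 2 • e 2 ∈ lineOf e m ↔ dot m c = 0 := by
  rw [mem_lineOf]
  constructor
  · rintro ⟨c', h1, h2⟩
    have h3 : c' = c := by
      apply (linearIndependent_iff_injective_fintypeLinearCombination.1 he)
      simp only [Fintype.linearCombination_apply, Fin.sum_univ_three]
      exact h2
    rw [← h3]; exact h1
  · intro h; exact ⟨c, h, rfl⟩

theorem finrank_lineOf {e : Fin 3 → V} (he : LinearIndependent k e) {m : Fin 3 → k} (hm : m ≠ 0) :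
    finrank k ↥(lineOf e m) = 2 := by
  have hinj := linearIndependent_iff_injective_fintypeLinearCombination.1 he
  rw [lineOf, ← (Submodule.equivMapOfInjective _ hinj _).finrank_eq]
  have := LinearMap.finrank_range_add_finrank_ker (dot m)
  have hr : finrank k ↥(LinearMap.range (dot m)) = 1 := by
    rw [LinearMap.range_eq_top.mpr (LinearMap.surjective (dot_ne_zero hm)), finrank_top, finrank_self]
  rw [finrank_fin_fun] at this
  omega

theorem lineOf_smul {e : Fin 3 → V} {m : Fin 3 → k} {c : k} (hc : c ≠ 0) :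
    lineOf e (c • m) = lineOf e m := by
  have : LinearMap.ker (dot (c • m)) = LinearMap.ker (dot m) := by
    ext v
    rw [LinearMap.mem_ker, LinearMap.mem_ker, dot_apply, dot_apply]
    simp only [Pi.smul_apply, smul_eq_mul]
    constructor
    · intro h
      have : c * (m 0 * v 0 + m 1 * v 1 + m 2 * v 2) = 0 := by linear_combination h
      exact (mul_eq_zero.1 this).resolve_left hc
    · intro h; linear_combination c * h
  rw [lineOf, lineOf, this]

/-- local frames of `lineOf` -/
def fr (e : Fin 3 → V) (m : Fin 3 → k) (i j : Fin 3) : V := m i • e j - m j • e i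

theorem fr_mem {e : Fin 3 → V} {m : Fin 3 → k} (i j : Fin 3) : fr e m i j ∈ lineOf e m := by
  rw [mem_lineOf]
  refine ⟨m i • Pi.single j 1 - m j • Pi.single i 1, ?_, ?_⟩
  · rw [dot_apply]
    fin_cases i <;> fin_cases j <;> simp <;> ring
  · unfold fr
    fin_cases i <;> fin_cases j <;> simp <;> module

theorem fr_linearIndependent {e : Fin 3 → V} (he : LinearIndependent k e) {m : Fin 3 → k} {i : Fin 3}
    (hm : m i ≠ 0) : LinearIndependent k ![fr e m i (i + 1), fr e m i (i + 2)] := by
  rw [LinearIndependent.pair_iff]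
  intro s t h
  have h1 := Fintype.linearIndependent_iff.1 he
    (s • (m i • Pi.single (i + 1) 1 - m (i + 1) • Pi.single i 1) +
      t • (m i • Pi.single (i + 2) 1 - m (i + 2) • Pi.single i 1)) (by
        rw [← h, Fin.sum_univ_three]
        unfold fr
        fin_cases i <;>
          simp [Pi.single_apply] <;> module)
  have h2 := h1 (i + 1)
  have h3 := h1 (i + 2)
  fin_cases i <;> simp [Pi.single_apply] at h2 h3 hm <;>
    exact ⟨h2.resolve_right hm, h3.resolve_right hm⟩

theorem lineOf_eq_span [FiniteDimensional k V] {e : Fin 3 → V} (he : LinearIndependent k e) {m : Fin 3 → k} {i : Fin 3}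
    (hm : m i ≠ 0) : lineOf e m = Submodule.span k {fr e m i (i + 1), fr e m i (i + 2)} := by
  have hlin := fr_linearIndependent he hm
  have h4 := finrank_span_eq_card hlin
  rw [Matrix.range_cons, Matrix.range_cons, Matrix.range_empty, Set.union_empty,
    Set.singleton_union, Fintype.card_fin] at h4
  symm
  refine Submodule.eq_of_le_of_finrank_eq ?_ ?_
  · rw [Submodule.span_le]
    rintro v (rfl | hv)
    · exact fr_mem _ _
    · rw [Set.mem_singleton_iff.mp hv]; exact fr_mem _ _
  · rw [h4, finrank_lineOf he (by rintro rfl; exact hm rfl)]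

/-- Every plane in the span of `e` is a `lineOf`. -/
theorem exists_lineOf [FiniteDimensional k V] {e : Fin 3 → V} (he : LinearIndependent k e)
    {y : Submodule k V} (hy : finrank k ↥y = 2)
    (hye : ∀ v ∈ y, ∃ c : Fin 3 → k, c 0 • e 0 + c 1 • e 1 + c 2 • e 2 = v) :
    ∃ m : Fin 3 → k, m ≠ 0 ∧ lineOf e m = y := by
  have hinj := linearIndependent_iff_injective_fintypeLinearCombination.1 he
  let y' : Submodule k (Fin 3 → k) := y.comap (Fintype.linearCombination k e)
  have hy' : y'.map (Fintype.linearCombination k e) = y := by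
    rw [Submodule.map_comap_eq, inf_eq_right]
    intro v hv
    obtain ⟨c, hc⟩ := hye v hv
    exact ⟨c, by simp only [Fintype.linearCombination_apply, Fin.sum_univ_three]; exact hc⟩
  have hfin : finrank k ↥y' = 2 := by
    rw [(Submodule.equivMapOfInjective _ hinj y').finrank_eq, hy', hy]
  have hne : y' ≠ ⊤ := by
    intro h
    rw [h, finrank_top, finrank_fin_fun] at hfin
    omega
  obtain ⟨φ, hφ0, hφ⟩ := Submodule.exists_le_ker_of_lt_top y' (lt_top_iff_ne_top.2 hne)
  refine ⟨fun i => φ (Pi.single i 1), ?_, ?_⟩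
  · intro h
    apply hφ0
    refine LinearMap.pi_ext' fun i => ?_
    ext
    simpa using congrFun h i
  · have hdot : dot (fun i => φ (Pi.single i 1)) = φ := by
      refine LinearMap.pi_ext' fun i => ?_
      ext
      rw [LinearMap.comp_apply, LinearMap.comp_apply, dot_apply]
      fin_cases i <;> simp [Pi.single_apply]
    rw [lineOf, hdot]
    have hker : LinearMap.ker φ = y' := by
      symm
      refine Submodule.eq_of_le_of_finrank_eq hφ ?_
      have := LinearMap.finrank_range_add_finrank_ker φ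
      have hr : finrank k ↥(LinearMap.range φ) = 1 := by
        rw [LinearMap.range_eq_top.mpr (LinearMap.surjective hφ0), finrank_top, finrank_self]
      rw [finrank_fin_fun] at this
      omega
    rw [hker, hy']

end Lines

/-- polarization identity for `Q6` -/
theorem Q6_three (G : Fin 6 → k) (u v w : Fin 3 → k) :
    Q6 G (u + v + w) = Q6 G (u + w) + Q6 G (v + w) + Q6 G (u + v) - Q6 G u - Q6 G v - Q6 G w := by
  simp only [Q6, Pi.add_apply]
  ring

theorem Q6_smul_arg (G : Fin 6 → k) (t : k) (u : Fin 3 → k) : Q6 G (t • u) = t ^ 2 * Q6 G u := by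
  simp only [Q6, Pi.smul_apply, smul_eq_mul]
  ring

theorem Q6_add_smul (G : Fin 6 → k) (t : k) (u v : Fin 3 → k) :
    Q6 G (u + t • v) = Q6 G u + t * (Q6 G (u + v) - Q6 G u - Q6 G v) + t ^ 2 * Q6 G v := by
  simp only [Q6, Pi.add_apply, Pi.smul_apply, smul_eq_mul]
  ring

/-- A quadratic form vanishing on two planes is the product of their equations. -/
theorem exists_eq_smul_M6 [CharZero k] {G : Fin 6 → k} {m n : Fin 3 → k}
    (hmn : ¬ LinearMap.ker (dot m) ≤ LinearMap.ker (dot n))
    (hnm : ¬ LinearMap.ker (dot n) ≤ LinearMap.ker (dot m))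
    (hm : ∀ c, dot m c = 0 → Q6 G c = 0) (hn : ∀ c, dot n c = 0 → Q6 G c = 0) :
    ∃ t : k, G = t • M6 m n := by
  obtain ⟨v2, hv2, hv2'⟩ := Set.not_subset.1 hmn
  obtain ⟨v1, hv1, hv1'⟩ := Set.not_subset.1 hnm
  simp only [SetLike.mem_coe, LinearMap.mem_ker] at hv1 hv1' hv2 hv2'
  refine ⟨(Q6 G (v1 + v2)) / (dot m v1 * dot n v2), Q6_ext fun c _ => ?_⟩
  rw [Q6_smul, Q6_M6]
  set x := dot m c / dot m v1 with hx
  set y := dot n c / dot n v2 with hy
  set r := c - x • v1 - y • v2 with hr
  have hc : c = x • v1 + y • v2 + r := by rw [hr]; abel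
  have hrm : dot m r = 0 := by
    rw [hr, map_sub, map_sub, map_smul, map_smul, hv2, hx]
    simp only [smul_eq_mul]
    field_simp
    ring
  have hrn : dot n r = 0 := by
    rw [hr, map_sub, map_sub, map_smul, map_smul, hv1, hy]
    simp only [smul_eq_mul]
    field_simp
    ring
  have e1 : Q6 G (x • v1 + r) = 0 := hn _ (by rw [map_add, map_smul, hv1, hrn]; simp)
  have e2 : Q6 G (y • v2 + r) = 0 := hm _ (by rw [map_add, map_smul, hv2, hrm]; simp)
  have e3 : Q6 G r = 0 := hm _ hrm
  have e4 : Q6 G v1 = 0 := hn _ hv1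
  have e5 : Q6 G v2 = 0 := hm _ hv2
  have e6 : Q6 G (x • v1 + y • v2) = x * y * Q6 G (v1 + v2) := by
    have h1 : Q6 G (x • v1 + y • v2) = Q6 G (x • v1) + y * (Q6 G (x • v1 + v2) - Q6 G (x • v1) -
        Q6 G v2) + y ^ 2 * Q6 G v2 := Q6_add_smul G y (x • v1) v2
    have h2 : Q6 G (x • v1 + v2) = Q6 G v2 + x * (Q6 G (v2 + v1) - Q6 G v2 - Q6 G v1) +
        x ^ 2 * Q6 G v1 := by
      rw [add_comm (x • v1) v2]; exact Q6_add_smul G x v2 v1
    rw [h1, h2, Q6_smul_arg, e4, e5, add_comm v2 v1]
    ring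
  conv_lhs => rw [hc, Q6_three, e1, e2, e3, Q6_smul_arg, Q6_smul_arg, e4, e5, e6]
  rw [hx, hy]
  field_simp
  ring

/-- The factorisation of a product of two linear forms is unique up to order and scalars. -/
theorem factor_unique [CharZero k] {m n m' n' : Fin 3 → k} {c c' : k} (hc : c ≠ 0) (hc' : c' ≠ 0)
    (hm : m ≠ 0) (hn : n ≠ 0) (hm' : m' ≠ 0) (hn' : n' ≠ 0)
    (h : c • M6 m n = c' • M6 m' n') :
    (∃ s t : k, s ≠ 0 ∧ t ≠ 0 ∧ m' = s • m ∧ n' = t • n) ∨
      (∃ s t : k, s ≠ 0 ∧ t ≠ 0 ∧ m' = s • n ∧ n' = t • m) := by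
  have hinf : Infinite k := Infinite.of_injective (Nat.cast : ℕ → k) Nat.cast_injective
  have hval : ∀ v, c * (dot m v * dot n v) = c' * (dot m' v * dot n' v) := by
    intro v
    rw [← Q6_M6, ← Q6_M6, ← Q6_smul, ← Q6_smul, h]
  have hfin : ∀ {m : Fin 3 → k}, m ≠ 0 → finrank k ↥(LinearMap.ker (dot m)) = 2 := by
    intro m hm
    have := LinearMap.finrank_range_add_finrank_ker (dot m)
    have hr : finrank k ↥(LinearMap.range (dot m)) = 1 := by
      rw [LinearMap.range_eq_top.mpr (LinearMap.surjective (dot_ne_zero hm)), finrank_top,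
        finrank_self]
    rw [finrank_fin_fun] at this
    omega
  have hdotinj : ∀ {m n : Fin 3 → k}, dot m = dot n → m = n := by
    intro m n h
    funext i
    have h0 := LinearMap.congr_fun h (Pi.single i 1)
    rw [dot_apply, dot_apply] at h0
    fin_cases i <;> simpa [Pi.single_apply] using h0
  have hdsmul : ∀ (t : k) (m : Fin 3 → k), dot (t • m) = t • dot m := by
    intro t m
    refine LinearMap.ext fun v => ?_
    rw [LinearMap.smul_apply, dot_apply, dot_apply]
    simp only [Pi.smul_apply, smul_eq_mul]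
    ring
  -- proportionality from inclusion of kernels
  have hprop : ∀ {m m' : Fin 3 → k}, m ≠ 0 → m' ≠ 0 → LinearMap.ker (dot m') ≤ LinearMap.ker (dot m) →
      ∃ s : k, s ≠ 0 ∧ m' = s • m := by
    intro m m' hm hm' hle
    have heq := Submodule.eq_of_le_of_finrank_eq hle (by rw [hfin hm, hfin hm'])
    obtain ⟨v, hv⟩ : ∃ v, dot m v ≠ 0 := by
      by_contra hcon
      push Not at hcon
      exact dot_ne_zero hm (LinearMap.ext hcon)
    have hv' : dot m' v ≠ 0 := by
      intro h1
      exact hv (LinearMap.mem_ker.1 (heq.le (LinearMap.mem_ker.2 h1)))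
    refine ⟨dot m' v / dot m v, div_ne_zero hv' hv, hdotinj ?_⟩
    rw [hdsmul]
    refine LinearMap.ext fun w => ?_
    have h1 : w - (dot m w / dot m v) • v ∈ LinearMap.ker (dot m') := by
      rw [heq, LinearMap.mem_ker, map_sub, map_smul, smul_eq_mul]
      field_simp
      ring
    rw [LinearMap.mem_ker, map_sub, map_smul, smul_eq_mul, sub_eq_zero] at h1
    rw [LinearMap.smul_apply, smul_eq_mul, h1]
    field_simp
  -- the second factor
  have hsec : ∀ {m n n' : Fin 3 → k} {c c' : k}, c ≠ 0 → c' ≠ 0 → m ≠ 0 → n' ≠ 0 →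
      (∀ v, c * (dot m v * dot n v) = c' * (dot m v * dot n' v)) → ∃ t : k, t ≠ 0 ∧ n' = t • n := by
    intro m n n' c c' hc hc' hm hn' hval
    refine ⟨c / c', div_ne_zero hc hc', hdotinj ?_⟩
    obtain ⟨v, hv⟩ : ∃ v, dot m v ≠ 0 := by
      by_contra hcon
      push Not at hcon
      exact dot_ne_zero hm (LinearMap.ext hcon)
    have key : ∀ w, dot m w ≠ 0 → dot n' w = (c / c') * dot n w := by
      intro w hw
      have := hval w
      have h2 : dot m w * (c * dot n w) = dot m w * (c' * dot n' w) := by linear_combination this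
      have h3 := mul_left_cancel₀ hw h2
      field_simp
      linear_combination -h3
    rw [hdsmul]
    refine LinearMap.ext fun w => ?_
    rw [LinearMap.smul_apply, smul_eq_mul]
    by_cases hw : dot m w = 0
    · have h1 := key (w + v) (by rw [map_add, hw, zero_add]; exact hv)
      have h2 := key v hv
      rw [map_add, map_add] at h1
      linear_combination h1 - h2
    · exact key w hw
  obtain ⟨i, hi⟩ := exists_le_of_cover ![LinearMap.ker (dot m), LinearMap.ker (dot n)]
    (LinearMap.ker (dot m')) (fun v hv => by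
      have h1 := hval v
      rw [LinearMap.mem_ker.1 hv, zero_mul, mul_zero] at h1
      rcases mul_eq_zero.1 ((mul_eq_zero.1 h1).resolve_left hc) with h2 | h2
      · exact ⟨0, h2⟩
      · exact ⟨1, h2⟩)
  fin_cases i
  · left
    obtain ⟨s, hs, hs'⟩ := hprop hm hm' hi
    obtain ⟨t, ht, ht'⟩ := hsec (m := m) (n := n) (n' := n') (c := c) (c' := c' * s) hc
      (mul_ne_zero hc' hs) hm hn' (fun v => by
        rw [hval v, hs', hdsmul, LinearMap.smul_apply, smul_eq_mul]; ring)
    exact ⟨s, t, hs, ht, hs', ht'⟩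
  · right
    obtain ⟨s, hs, hs'⟩ := hprop hn hm' hi
    obtain ⟨t, ht, ht'⟩ := hsec (m := n) (n := m) (n' := n') (c := c) (c' := c' * s) hc
      (mul_ne_zero hc' hs) hn hn' (fun v => by
        rw [mul_comm (dot n v) (dot m v), hval v, hs', hdsmul, LinearMap.smul_apply, smul_eq_mul]; ring)
    exact ⟨s, t, hs, ht, hs', ht'⟩

end K714.PlaneFac
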