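import Groth.Agent.Fano.K434.HilbFam
import Groth.Agent.Fano.K387.RatNormal
import Groth.Agent.Fano.K387.RatFam
import Groth.Agent.Fano.K475.RatClass
import Groth.Agent.Fano.K560.RegPt
import Groth.Agent.Fano.K714.RatTop
import Groth.Agent.Fano.K714.ConSplit

/-!
# Assembly of S16523 and S16524
-/

set_option autoImplicit false
universe u
open CategoryTheory CategoryTheory.Limits AlgebraicGeometry TopologicalSpace Opposite

namespace Groth.Agent.Fano.K714.RatAsm

open Groth.Agent.Fano.K714.Rat K714.Irr LefPen Groth.Agent.Fano.K714.RatTop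

variable {k : Type u} [Field k]

theorem IsPar.nonempty_iso {f : Form 4 k 3} {d : ℕ} {c : Fin (d + 1) → Fin 5 → k}
    {i : CohB1.ProjSpace 1 k ⟶ Xf f} (h : IsPar f d c i) :
    Nonempty ((Scheme.Modules.pullback (i ≫ emb f)).obj (Twist.twistProjSpace 4 k 1) ≅
      Twist.twistProjSpace 1 k (d : ℤ)) := by
  obtain ⟨-, τ, -⟩ := h
  exact ⟨τ⟩

/-- every parametrised curve has a class -/
theorem exists_isClass [IsAlgClosed k] [CharZero k] (f : Form 4 k 3) (H : Over (Spec (CommRingCat.of k)))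
    (Z : FGA.HilbSet (ps f) H) (hH : FGA.HilbRepresentedBy (ps f) H Z) {d : ℕ} (hd : 1 ≤ d)
    {c : Fin (d + 1) → Fin 5 → k} (hc : c ∈ Par f d) : ∃ x, IsClass f H Z d c x := by
  have hinf : Infinite k := IsAlgClosed.instInfinite
  obtain ⟨i, hi⟩ := K387.RatNormal.exists_isPar f hd hc
  have hcl := K387.RatNormal.isClosedImmersion f hd hc.1 hi
  have hid : Spec.map (CommRingCat.ofHom (RingHom.id k)) = 𝟙 (Spec (CommRingCat.of k)) := Spec.map_id _
  have hw : i ≫ ps f = CohB1.ProjSpace.toSpec 1 k ≫ Spec.map (CommRingCat.ofHom (RingHom.id k)) := by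
    rw [hi.1, hid, Category.comp_id]
  have hcl2 : IsClosedImmersion (pullback.lift i (CohB1.ProjSpace.toSpec 1 k) hw) := by
    have h1 : IsClosedImmersion (pullback.lift i (CohB1.ProjSpace.toSpec 1 k) hw ≫ pullback.fst _ _) := by
      rw [pullback.lift_fst]; exact hcl
    have h2 : IsSeparated (pullback.fst (ps f) (Spec.map (CommRingCat.ofHom (RingHom.id k)))) := inferInstance
    exact IsClosedImmersion.of_comp _ (pullback.fst (ps f) (Spec.map (CommRingCat.ofHom (RingHom.id k))))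
  obtain ⟨g, hg⟩ := Groth.Agent.Fano.K434.HilbFam.exists_hom_of_family (ps f) H Z hH k (RingHom.id k)
    (CohB1.ProjSpace.toSpec 1 k) i hw hcl2
  have hm : Spec.map (CommRingCat.ofHom (RingHom.id k)) ≫ Spec.map (CommRingCat.ofHom (RingHom.id k)) =
      𝟙 (Spec (CommRingCat.of k)) := by rw [hid, Category.comp_id]
  have h3 := hg (RingHom.id k) hm (CohB1.ProjSpace 1 k) (CohB1.ProjSpace.toSpec 1 k) (𝟙 _) (by
    rw [hid]
    exact IsPullback.of_horiz_isIso ⟨by rw [Category.id_comp, Category.comp_id]⟩)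
  rw [Category.id_comp] at h3
  exact ⟨_, _, i, rfl, hi, h3⟩

theorem locus_eq [IsAlgClosed k] [CharZero k] (f : Form 4 k 3) (H : Over (Spec (CommRingCat.of k)))
    (Z : FGA.HilbSet (ps f) H) {d : ℕ} (hd : d = 2 ∨ d = 3) :
    {x | ∃ (h : Over.mk (𝟙 (Spec (CommRingCat.of k))) ⟶ H)
      (i : CohB1.ProjSpace 1 k ⟶ (LefPen.hypIdeal f).subscheme),
      x = h.left.base (IsLocalRing.closedPoint k) ∧ IsClosedImmersion i ∧
      i ≫ (LefPen.hypIdeal f).subschemeι ≫ CohB1.ProjSpace.toSpec 4 k = CohB1.ProjSpace.toSpec 1 k ∧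
      Nonempty ((Scheme.Modules.pullback (i ≫ (LefPen.hypIdeal f).subschemeι)).obj
        (Twist.twistProjSpace 4 k 1) ≅ Twist.twistProjSpace 1 k (d : ℤ)) ∧
      FGA.hilbPull ((LefPen.hypIdeal f).subschemeι ≫ CohB1.ProjSpace.toSpec 4 k) h Z.1 =
        i.ker.comap (pullback.fst ((LefPen.hypIdeal f).subschemeι ≫ CohB1.ProjSpace.toSpec 4 k)
          (Over.mk (𝟙 (Spec (CommRingCat.of k)))).hom)} =
    {x | ∃ c ∈ Par f d, IsClass f H Z d c x} := by
  ext x
  constructor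
  · rintro ⟨h, i, hx, hcl, hi, hdeg, hh⟩
    obtain ⟨c, hc, hp⟩ := K475.RatClass.exists_par f hd i hi hdeg
    exact ⟨c, hc, h, i, hx, hp, hh⟩
  · rintro ⟨c, hc, h, i, hx, hp, hh⟩
    exact ⟨h, i, hx, K387.RatNormal.isClosedImmersion f (by omega) hc.1 hp, hp.1, IsPar.nonempty_iso hp, hh⟩

/-- The locus of rational normal curves of degree `d` in the Hilbert scheme of a smooth cubic threefold. -/
theorem main [IsAlgClosed k] [CharZero k] (f : Form 4 k 3) (hf : f ≠ 0) [Smooth (ps f)]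
    (H : Over (Spec (CommRingCat.of k))) (Z : FGA.HilbSet (ps f) H) (hH : FGA.HilbRepresentedBy (ps f) H Z)
    {d n : ℕ} (hd : d = 2 ∨ d = 3) (hirr : Irr k (Par f d))
    (hsplit : ∀ (i : CohB1.ProjSpace 1 k ⟶ Xf f) (_ : IsClosedImmersion i)
      (_ : i ≫ ps f = CohB1.ProjSpace.toSpec 1 k)
      (_ : Nonempty ((Scheme.Modules.pullback (i ≫ emb f)).obj (Twist.twistProjSpace 4 k 1) ≅
        Twist.twistProjSpace 1 k (d : ℤ))),
      ∃ a : Fin 2 → ℤ, (∀ j, a j ≤ 1) ∧ (n : ℤ) = 2 - a 0 - a 1 ∧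
        Nonempty (Omega.conormal i ≅ ∐ fun j : Fin 2 => Twist.twistProjSpace 1 k (a j)))
    (T : Set ↥H.left)
    (hT : T = {x | ∃ (h : Over.mk (𝟙 (Spec (CommRingCat.of k))) ⟶ H)
      (i : CohB1.ProjSpace 1 k ⟶ (LefPen.hypIdeal f).subscheme),
      x = h.left.base (IsLocalRing.closedPoint k) ∧ IsClosedImmersion i ∧
      i ≫ (LefPen.hypIdeal f).subschemeι ≫ CohB1.ProjSpace.toSpec 4 k = CohB1.ProjSpace.toSpec 1 k ∧
      Nonempty ((Scheme.Modules.pullback (i ≫ (LefPen.hypIdeal f).subschemeι)).obj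
        (Twist.twistProjSpace 4 k 1) ≅ Twist.twistProjSpace 1 k (d : ℤ)) ∧
      FGA.hilbPull ((LefPen.hypIdeal f).subschemeι ≫ CohB1.ProjSpace.toSpec 4 k) h Z.1 =
        i.ker.comap (pullback.fst ((LefPen.hypIdeal f).subschemeι ≫ CohB1.ProjSpace.toSpec 4 k)
          (Over.mk (𝟙 (Spec (CommRingCat.of k)))).hom)}) :
    IsIrreducible T ∧ ∀ x ∈ T, IsRegularLocalRing (H.left.presheaf.stalk x) ∧
      ringKrullDim (H.left.presheaf.stalk x) = n := by
  constructor
  · rw [hT, locus_eq f H Z hd]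
    refine irreducible_par hH hirr (fun c hc => exists_isClass f H Z hH (by omega) hc) ?_
    intro A c₀ hc₀ x₀ hx₀ hA
    exact K387.RatFam.exists_poly_of_mem_open f H Z hH (by omega) A hc₀ hx₀ hA
  · intro x hx
    rw [hT] at hx
    obtain ⟨h, i, rfl, hcl, hi, hdeg, hh⟩ := hx
    obtain ⟨a, ha, hn, e⟩ := hsplit i hcl hi hdeg
    exact K560.RegPt.regular_of_conormal f hf H Z hH i hi h hh a ha n hn e

end Groth.Agent.Fano.K714.RatAsm
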