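import Groth.Agent.Fano.K714.Surf

/-!
# Lines on a smooth cubic surface form a geometry in the sense of `K714.GQ.Geo`
-/

set_option autoImplicit false

universe u v

namespace K714.SurfGeo

open K656.Trilin Module K714.Surf

variable {k : Type u} [Field k] [IsAlgClosed k] [CharZero k]
variable {V : Type v} [AddCommGroup V] [Module k V] [FiniteDimensional k V]
variable {T : V →ₗ[k] V →ₗ[k] V →ₗ[k] k}

/-- Three different lines in one plane. -/
def Tri (x y z : Submodule k V) : Prop :=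
  (x ≠ y ∧ x ≠ z ∧ y ≠ z) ∧ ∃ P : Submodule k V, finrank k ↥P = 3 ∧ x ≤ P ∧ y ≤ P ∧ z ≤ P

omit [IsAlgClosed k] [CharZero k] in
theorem meet_of_le {T : V →ₗ[k] V →ₗ[k] V →ₗ[k] k} {x y P : Submodule k V} (hx : IsLine T x) (hy : IsLine T y)
    (hP : finrank k ↥P = 3) (hxP : x ≤ P) (hyP : y ≤ P) : x ⊓ y ≠ ⊥ := by
  intro h
  have h1 := Submodule.finrank_sup_add_finrank_inf_eq x y
  have h2 := Submodule.finrank_mono (sup_le hxP hyP)
  rw [h, finrank_bot, hx.1, hy.1] at h1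
  omega

omit [IsAlgClosed k] [CharZero k] in
theorem sup_finrank {x y : Submodule k V} (hx : IsLine T x) (hy : IsLine T y) (hxy : x ≠ y)
    (hm : x ⊓ y ≠ ⊥) : finrank k ↥(x ⊔ y) = 3 := by
  obtain ⟨_, _, _, -, -, -, -, h⟩ := exists_basis_of_meet hx.1 hy.1 hxy hm
  exact h

omit [IsAlgClosed k] [CharZero k] in
theorem eq_sup {x y P : Submodule k V} (hx : IsLine T x) (hy : IsLine T y) (hxy : x ≠ y)
    (hP : finrank k ↥P = 3) (hxP : x ≤ P) (hyP : y ≤ P) : P = x ⊔ y := by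
  symm
  refine Submodule.eq_of_le_of_finrank_eq (sup_le hxP hyP) ?_
  rw [hP, sup_finrank hx hy hxy (meet_of_le hx hy hP hxP hyP)]

theorem exists_third' (hT : IsSym3 T) {W : Submodule k V}
    (hW : finrank k ↥W = 4) (hsm : SmoothOn T W) {x y : Submodule k V} (hx : IsLine T x)
    (hy : IsLine T y) (hxW : x ≤ W) (hyW : y ≤ W) (hxy : x ≠ y) (hm : x ⊓ y ≠ ⊥) :
    ∃ z : Submodule k V, IsLine T z ∧ z ≤ W ∧ Tri x y z ∧
      (∀ v ∈ x ⊔ y, T v v v = 0 → v ∈ x ∨ v ∈ y ∨ v ∈ z) ∧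
      ∀ w : Submodule k V, IsLine T w → w ≤ x ⊔ y → w = x ∨ w = y ∨ w = z := by
  have : Infinite k := IsAlgClosed.instInfinite
  obtain ⟨z, hz, hzle, hzx, hzy, hcov⟩ := exists_third hT hW hsm hx hy hxW hyW hxy hm
  refine ⟨z, hz, hzle.trans (sup_le hxW hyW), ⟨⟨hxy, hzx.symm, hzy.symm⟩, x ⊔ y,
    sup_finrank hx hy hxy hm, le_sup_left, le_sup_right, hzle⟩, hcov, ?_⟩
  intro w hw hwle
  obtain ⟨i, hi⟩ := exists_le_of_cover ![x, y, z] w (fun v hv => by
    rcases hcov v (hwle hv) (hw.2 v hv) with h | h | h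
    · exact ⟨0, h⟩
    · exact ⟨1, h⟩
    · exact ⟨2, h⟩)
  fin_cases i
  · exact Or.inl (Submodule.eq_of_le_of_finrank_eq hi (by rw [hw.1]; exact hx.1.symm))
  · exact Or.inr (Or.inl (Submodule.eq_of_le_of_finrank_eq hi (by rw [hw.1]; exact hy.1.symm)))
  · exact Or.inr (Or.inr (Submodule.eq_of_le_of_finrank_eq hi (by rw [hw.1]; exact hz.1.symm)))

omit [IsAlgClosed k] in
/-- A point on three noncoplanar lines is singular. -/
theorem not_three (hT : IsSym3 T) {W : Submodule k V} (hW : finrank k ↥W = 4)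
    (hsm : SmoothOn T W) {x y w : Submodule k V} (hx : IsLine T x)
    (hy : IsLine T y) (hw : IsLine T w) (hxW : x ≤ W) (hyW : y ≤ W) (hwW : w ≤ W) (hxy : x ≠ y)
    (hwxy : ¬ w ≤ x ⊔ y) {v : V} (hv0 : v ≠ 0) (hvx : v ∈ x) (hvy : v ∈ y) (hvw : v ∈ w) : False := by
  have hm : x ⊓ y ≠ ⊥ := by
    intro h
    exact hv0 ((Submodule.mem_bot k).1 (h ▸ ⟨hvx, hvy⟩))
  have h3 := sup_finrank hx hy hxy hm
  have hWle : W ≤ (x ⊔ y) ⊔ w := by
    have hle : (x ⊔ y) ⊔ w ≤ W := sup_le (sup_le hxW hyW) hwW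
    have hlt : x ⊔ y < (x ⊔ y) ⊔ w := by
      refine lt_of_le_of_ne le_sup_left fun h => hwxy ?_
      rw [h]; exact le_sup_right
    have := Submodule.finrank_lt_finrank_of_lt hlt
    exact (Submodule.eq_of_le_of_finrank_le hle (by omega)).symm.le
  obtain ⟨u, hu, hne⟩ := hsm v (hxW hvx) hv0 (hx.2 v hvx)
  apply hne
  obtain ⟨p, hp, q, hq, rfl⟩ := Submodule.mem_sup.1 (hWle hu)
  obtain ⟨p1, hp1, p2, hp2, rfl⟩ := Submodule.mem_sup.1 hp
  rw [map_add, map_add, hT.eq_zero_of_diag _ hx.2 hvx hvx hp1, hT.eq_zero_of_diag _ hy.2 hvy hvy hp2,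
    hT.eq_zero_of_diag _ hw.2 hvw hvw hq]
  ring

omit [IsAlgClosed k] [CharZero k] in
/-- A binary cubic form with five zeros vanishes. -/
theorem binary_cubic_zero (a b c d : k) (s r : Fin 5 → k) (hsr : ∀ i, s i ≠ 0 ∨ r i ≠ 0)
    (hne : ∀ i j, i ≠ j → s i * r j - s j * r i ≠ 0)
    (h0 : ∀ i, a * s i ^ 3 + b * s i ^ 2 * r i + c * s i * r i ^ 2 + d * r i ^ 3 = 0) :
    a = 0 ∧ b = 0 ∧ c = 0 ∧ d = 0 := by
  classical
  let S : Finset (Fin 5) := Finset.univ.filter fun i => r i ≠ 0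
  have hS : 4 ≤ S.card := by
    have h1 : (Finset.univ.filter fun i => ¬ r i ≠ 0).card ≤ 1 := by
      rw [Finset.card_le_one]
      intro i hi j hj
      simp only [ne_eq, not_not, Finset.mem_filter, Finset.mem_univ, true_and] at hi hj
      by_contra hij
      apply hne i j hij
      rw [hi, hj]; ring
    have h2 := Finset.card_filter_add_card_filter_not (s := (Finset.univ : Finset (Fin 5)))
      (fun i => r i ≠ 0)
    rw [Finset.card_univ, Fintype.card_fin] at h2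
    change 4 ≤ (Finset.univ.filter fun i => r i ≠ 0).card
    omega
  let P : Polynomial k := Polynomial.C a * Polynomial.X ^ 3 + Polynomial.C b * Polynomial.X ^ 2 +
    Polynomial.C c * Polynomial.X + Polynomial.C d
  have hinj : Set.InjOn (fun i => s i / r i) S := by
    intro i hi j hj hij
    have hi' : r i ≠ 0 := (Finset.mem_filter.1 hi).2
    have hj' : r j ≠ 0 := (Finset.mem_filter.1 hj).2
    by_contra h
    apply hne i j h
    simp only at hij
    rw [div_eq_div_iff hi' hj'] at hij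
    rw [hij]; ring
  have hP : P = 0 := by
    refine Polynomial.eq_zero_of_natDegree_lt_card_of_eval_eq_zero' P (S.image fun i => s i / r i) ?_ ?_
    · intro x hx
      obtain ⟨i, hi, rfl⟩ := Finset.mem_image.1 hx
      have hi' : r i ≠ 0 := (Finset.mem_filter.1 hi).2
      have := h0 i
      simp only [P, Polynomial.eval_add, Polynomial.eval_mul, Polynomial.eval_C,
        Polynomial.eval_pow, Polynomial.eval_X]
      field_simp
      linear_combination this
    · rw [Finset.card_image_of_injOn hinj]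
      have : P.natDegree ≤ 3 := by
        simp only [P]
        compute_degree
      omega
  have hc : ∀ n, P.coeff n = 0 := fun n => by rw [hP, Polynomial.coeff_zero]
  refine ⟨?_, ?_, ?_, ?_⟩
  · have := hc 3; simpa [P, Polynomial.coeff_X, Polynomial.coeff_C] using this
  · have := hc 2; simpa [P, Polynomial.coeff_X, Polynomial.coeff_C] using this
  · have := hc 1; simpa [P, Polynomial.coeff_X, Polynomial.coeff_C] using this
  · have := hc 0; simpa [P, Polynomial.coeff_X, Polynomial.coeff_C] using this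

omit [IsAlgClosed k] in
/-- Three pairwise disjoint lines with four common transversals do not exist on a smooth cubic surface. -/
theorem few_transversals (hT : IsSym3 T) {W : Submodule k V} (hW : finrank k ↥W = 4)
    (hsm : SmoothOn T W) {x y z : Submodule k V} (hx : IsLine T x)
    (hy : IsLine T y) (hz : IsLine T z) (hxW : x ≤ W) (hyW : y ≤ W) (hzW : z ≤ W)
    (hxy : x ⊓ y = ⊥) (hyz : y ⊓ z = ⊥) (hxz : x ⊓ z = ⊥)
    (t : Fin 5 → Submodule k V) (ht : Function.Injective t) (htl : ∀ i, IsLine T (t i))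
    (h1 : ∀ i, x ⊓ t i ≠ ⊥) (h2 : ∀ i, y ⊓ t i ≠ ⊥) (h3 : ∀ i, z ⊓ t i ≠ ⊥) : False := by
  classical
  -- `W = x ⊔ y`
  have hWe : W = x ⊔ y := by
    symm
    refine Submodule.eq_of_le_of_finrank_eq (sup_le hxW hyW) ?_
    have := Submodule.finrank_sup_add_finrank_inf_eq x y
    rw [hxy, finrank_bot, hx.1, hy.1] at this
    omega
  -- decompose vectors of `z`
  have hdec : ∀ w ∈ z, ∃ p ∈ x, ∃ q ∈ y, w = p + q := by
    intro w hw
    have : w ∈ x ⊔ y := hWe ▸ hzW hw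
    obtain ⟨p, hp, q, hq, h⟩ := Submodule.mem_sup.1 this
    exact ⟨p, hp, q, hq, h.symm⟩
  have huniq : ∀ p ∈ x, ∀ q ∈ y, p + q = 0 → p = 0 ∧ q = 0 := by
    intro p hp q hq h
    have h4 : p = -q := eq_neg_of_add_eq_zero_left h
    have h5 : p ∈ x ⊓ y := ⟨hp, h4 ▸ y.neg_mem hq⟩
    rw [hxy, Submodule.mem_bot] at h5
    exact ⟨h5, by rw [h5, zero_add] at h; exact h⟩
  -- a basis of `z`
  let bz : Basis (Fin 2) k ↥z := finBasisOfFinrankEq k ↥z hz.1
  obtain ⟨e1, he1, f1, hf1, h11⟩ := hdec (bz 0) (bz 0).2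
  obtain ⟨e2, he2, f2, hf2, h22⟩ := hdec (bz 1) (bz 1).2
  have hzc : ∀ w ∈ z, ∃ s t : k, w = s • (e1 + f1) + t • (e2 + f2) := by
    intro w hw
    have := bz.sum_repr ⟨w, hw⟩
    rw [Fin.sum_univ_two] at this
    refine ⟨bz.repr ⟨w, hw⟩ 0, bz.repr ⟨w, hw⟩ 1, ?_⟩
    have h4 := congrArg Subtype.val this
    simp only [Submodule.coe_add, Submodule.coe_smul] at h4
    rw [h11, h22] at h4
    exact h4.symm
  have hz1 : e1 + f1 ∈ z := h11 ▸ (bz 0).2
  have hz2 : e2 + f2 ∈ z := h22 ▸ (bz 1).2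
  -- independence of `e1, e2` and of `f1, f2`
  have hze : ∀ s t : k, s • (e1 + f1) + t • (e2 + f2) = 0 → s = 0 ∧ t = 0 := by
    intro s t h
    have h4 : s • bz 0 + t • bz 1 = 0 := by
      apply Subtype.ext
      simp only [Submodule.coe_add, Submodule.coe_smul, Submodule.coe_zero]
      rw [h11, h22]; exact h
    have h5 := (Fintype.linearIndependent_iff.1 bz.linearIndependent) ![s, t] (by
      rw [Fin.sum_univ_two]; exact h4)
    exact ⟨h5 0, h5 1⟩
  have hei : ∀ s t : k, s • e1 + t • e2 = 0 → s = 0 ∧ t = 0 := by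
    intro s t h
    apply hze
    have h4 : s • (e1 + f1) + t • (e2 + f2) = s • f1 + t • f2 := by
      have : s • (e1 + f1) + t • (e2 + f2) = (s • e1 + t • e2) + (s • f1 + t • f2) := by module
      rw [this, h, zero_add]
    have h5 : s • f1 + t • f2 ∈ y ⊓ z :=
      ⟨y.add_mem (y.smul_mem _ hf1) (y.smul_mem _ hf2), h4 ▸ z.add_mem (z.smul_mem _ hz1)
        (z.smul_mem _ hz2)⟩
    rw [hyz, Submodule.mem_bot] at h5
    rw [h4, h5]
  have hfi : ∀ s t : k, s • f1 + t • f2 = 0 → s = 0 ∧ t = 0 := by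
    intro s t h
    apply hze
    have h4 : s • (e1 + f1) + t • (e2 + f2) = s • e1 + t • e2 := by
      have : s • (e1 + f1) + t • (e2 + f2) = (s • e1 + t • e2) + (s • f1 + t • f2) := by module
      rw [this, h, add_zero]
    have h5 : s • e1 + t • e2 ∈ x ⊓ z :=
      ⟨x.add_mem (x.smul_mem _ he1) (x.smul_mem _ he2), h4 ▸ z.add_mem (z.smul_mem _ hz1)
        (z.smul_mem _ hz2)⟩
    rw [hxz, Submodule.mem_bot] at h5
    rw [h4, h5]
  -- `x` and `y` are spanned
  have hspan : ∀ (w : Submodule k V) (a b : V), finrank k ↥w = 2 → a ∈ w → b ∈ w →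
      (∀ s t : k, s • a + t • b = 0 → s = 0 ∧ t = 0) → ∀ u ∈ w, ∃ s t : k, u = s • a + t • b := by
    intro w a b hw ha hb hab u hu
    have hlin : LinearIndependent k ![a, b] := by
      rw [LinearIndependent.pair_iff]; exact hab
    have h4 := finrank_span_eq_card hlin
    rw [Matrix.range_cons, Matrix.range_cons, Matrix.range_empty, Set.union_empty,
      Set.singleton_union, Fintype.card_fin] at h4
    have h5 : Submodule.span k {a, b} = w := by
      refine Submodule.eq_of_le_of_finrank_eq ?_ (by rw [hw]; exact h4)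
      rw [Submodule.span_le]
      rintro c (rfl | hc)
      · exact ha
      · rw [Set.mem_singleton_iff.mp hc]; exact hb
    rw [← h5] at hu
    obtain ⟨s, t, h⟩ := Submodule.mem_span_pair.1 hu
    exact ⟨s, t, h.symm⟩
  have hxs := hspan x e1 e2 hx.1 he1 he2 hei
  have hys := hspan y f1 f2 hy.1 hf1 hf2 hfi
  -- the transversals
  have htr : ∀ i, ∃ s r : k, (s ≠ 0 ∨ r ≠ 0) ∧ s • e1 + r • e2 ∈ t i ∧ s • f1 + r • f2 ∈ t i := by
    intro i
    obtain ⟨u, hu, hu0⟩ := Submodule.exists_mem_ne_zero_of_ne_bot (h1 i)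
    obtain ⟨v, hv, hv0⟩ := Submodule.exists_mem_ne_zero_of_ne_bot (h2 i)
    obtain ⟨w, hw, hw0⟩ := Submodule.exists_mem_ne_zero_of_ne_bot (h3 i)
    have hti := hspan (t i) u v (htl i).1 hu.2 hv.2 (by
      intro a b hab
      have h6 := huniq _ (x.smul_mem a hu.1) _ (y.smul_mem b hv.1) hab
      exact ⟨(smul_eq_zero.1 h6.1).resolve_right hu0, (smul_eq_zero.1 h6.2).resolve_right hv0⟩)
    obtain ⟨a, b, hab⟩ := hti w hw.2
    obtain ⟨s, r, hsr⟩ := hzc w hw.1
    have h6 := huniq (a • u - (s • e1 + r • e2))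
      (x.sub_mem (x.smul_mem _ hu.1) (x.add_mem (x.smul_mem _ he1) (x.smul_mem _ he2)))
      (b • v - (s • f1 + r • f2))
      (y.sub_mem (y.smul_mem _ hv.1) (y.add_mem (y.smul_mem _ hf1) (y.smul_mem _ hf2))) (by
        have : (a • u + b • v) - (s • (e1 + f1) + r • (e2 + f2)) = 0 := by
          rw [← hab, ← hsr, sub_self]
        rw [← this]; module)
    refine ⟨s, r, ?_, ?_, ?_⟩
    · by_contra hcon
      push Not at hcon
      apply hw0
      rw [hsr, hcon.1, hcon.2]; module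
    · rw [← sub_eq_zero.1 h6.1]; exact (t i).smul_mem _ hu.2
    · rw [← sub_eq_zero.1 h6.2]; exact (t i).smul_mem _ hv.2
  choose s r hsr hte htf using htr
  -- different transversals have different parameters
  have hpar : ∀ i j, i ≠ j → s i * r j - s j * r i ≠ 0 := by
    intro i j hij h
    apply hij
    apply ht
    -- `(s j, r j)` is a multiple of `(s i, r i)`
    obtain ⟨c, hc1, hc2⟩ : ∃ c : k, s j = c * s i ∧ r j = c * r i := by
      by_cases hs : s i = 0
      · have hr := (hsr i).resolve_left (fun h => h hs)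
        refine ⟨r j / r i, ?_, by field_simp⟩
        rw [hs, mul_zero]
        have : s j * r i = 0 := by rw [hs] at h; linear_combination -h
        exact (mul_eq_zero.1 this).resolve_right hr
      · refine ⟨s j / s i, by field_simp, ?_⟩
        field_simp
        linear_combination h
    have hc0 : c ≠ 0 := by
      rintro rfl
      rcases hsr j with h4 | h4
      · exact h4 (by rw [hc1]; ring)
      · exact h4 (by rw [hc2]; ring)
    have he' : s i • e1 + r i • e2 ∈ t j := by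
      have : s i • e1 + r i • e2 = c⁻¹ • (s j • e1 + r j • e2) := by
        rw [hc1, hc2, smul_add, smul_smul, smul_smul, ← mul_assoc, ← mul_assoc,
          inv_mul_cancel₀ hc0, one_mul, one_mul]
      rw [this]; exact (t j).smul_mem _ (hte j)
    have hf' : s i • f1 + r i • f2 ∈ t j := by
      have : s i • f1 + r i • f2 = c⁻¹ • (s j • f1 + r j • f2) := by
        rw [hc1, hc2, smul_add, smul_smul, smul_smul, ← mul_assoc, ← mul_assoc,
          inv_mul_cancel₀ hc0, one_mul, one_mul]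
      rw [this]; exact (t j).smul_mem _ (htf j)
    have hcover := hspan (t i) (s i • e1 + r i • e2) (s i • f1 + r i • f2) (htl i).1 (hte i) (htf i)
      (by
        intro a b hab
        have h6 := huniq _ (x.smul_mem a (x.add_mem (x.smul_mem _ he1) (x.smul_mem _ he2))) _
          (y.smul_mem b (y.add_mem (y.smul_mem _ hf1) (y.smul_mem _ hf2))) hab
        constructor
        · rcases smul_eq_zero.1 h6.1 with h7 | h7
          · exact h7
          · exact absurd (hei _ _ h7) (by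
              rintro ⟨h8, h9⟩
              rcases hsr i with h10 | h10
              · exact h10 h8
              · exact h10 h9)
        · rcases smul_eq_zero.1 h6.2 with h7 | h7
          · exact h7
          · exact absurd (hfi _ _ h7) (by
              rintro ⟨h8, h9⟩
              rcases hsr i with h10 | h10
              · exact h10 h8
              · exact h10 h9))
    refine Submodule.eq_of_le_of_finrank_eq (fun u hu => ?_) (by rw [(htl i).1, (htl j).1])
    obtain ⟨a, b, rfl⟩ := hcover u hu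
    exact (t j).add_mem ((t j).smul_mem _ he') ((t j).smul_mem _ hf')
  -- the binary cubic
  have hcub : ∀ i, T e1 e1 f1 * s i ^ 3 + (T e1 e1 f2 + 2 * T e1 e2 f1) * s i ^ 2 * r i +
      (2 * T e1 e2 f2 + T e2 e2 f1) * s i * r i ^ 2 + T e2 e2 f2 * r i ^ 3 = 0 := by
    intro i
    have h6 := hT.eq_zero_of_diag _ (htl i).2 (hte i) (hte i) (htf i)
    rw [hT.sq_smul_add_smul] at h6
    simp only [map_add, map_smul, smul_eq_mul] at h6
    rw [← h6]; ring
  obtain ⟨ha, hb, hc, hd⟩ := binary_cubic_zero _ _ _ _ s r hsr hpar hcub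
  -- a singular point
  obtain ⟨p, q, hpq, hq⟩ : ∃ p q : k, (p ≠ 0 ∨ q ≠ 0) ∧ 2 * p * T e1 e2 f1 + q * T e2 e2 f1 = 0 := by
    by_cases h : T e2 e2 f1 = 0
    · exact ⟨0, 1, Or.inr one_ne_zero, by rw [h]; ring⟩
    · exact ⟨T e2 e2 f1, - (2 * T e1 e2 f1), Or.inl h, by ring⟩
  have hux : p • e1 + q • e2 ∈ x := x.add_mem (x.smul_mem _ he1) (x.smul_mem _ he2)
  have hu0 : p • e1 + q • e2 ≠ 0 := by
    intro h
    have := hei p q h
    rcases hpq with h7 | h7
    · exact h7 this.1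
    · exact h7 this.2
  obtain ⟨w, hw, hne⟩ := hsm _ (hxW hux) hu0 (hx.2 _ hux)
  apply hne
  rw [hWe] at hw
  obtain ⟨w1, hw1, w2, hw2, rfl⟩ := Submodule.mem_sup.1 hw
  obtain ⟨α, β, rfl⟩ := hys w2 hw2
  rw [map_add, hT.eq_zero_of_diag _ hx.2 hux hux hw1, map_add, map_smul, map_smul,
    hT.sq_smul_add_smul, hT.sq_smul_add_smul]
  simp only [smul_eq_mul]
  linear_combination (α * p ^ 2) * ha + (α * q - β * p) * hq + (β * p ^ 2) * hb + (β * p * q) * hc +
    (β * q ^ 2) * hd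

/-- The lines of the cubic surface cut out by the `4`-dimensional subspace `W`. -/
abbrev Lines (T : V →ₗ[k] V →ₗ[k] V →ₗ[k] k) (W : Submodule k V) : Type v :=
  {U : Submodule k V // IsLine T U ∧ U ≤ W}

/-- incidence is nontrivial intersection -/
theorem inc_iff (hT : IsSym3 T) {W : Submodule k V} (hW : finrank k ↥W = 4) (hsm : SmoothOn T W)
    {x y : Submodule k V} (hx : IsLine T x) (hy : IsLine T y) (hxW : x ≤ W) (hyW : y ≤ W) :
    (∃ u : Submodule k V, (IsLine T u ∧ u ≤ W) ∧ Tri x y u) ↔ x ≠ y ∧ x ⊓ y ≠ ⊥ := by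
  constructor
  · rintro ⟨u, -, h1, P, hP, hxP, hyP, -⟩
    exact ⟨h1.1, meet_of_le hx hy hP hxP hyP⟩
  · rintro ⟨hxy, hm⟩
    obtain ⟨z, hz, hzW, htri, -⟩ := exists_third' hT hW hsm hx hy hxW hyW hxy hm
    exact ⟨z, ⟨hz, hzW⟩, htri⟩

theorem third_unique (hT : IsSym3 T) {W : Submodule k V} (hW : finrank k ↥W = 4)
    (hsm : SmoothOn T W) {x y z w : Submodule k V} (hx : IsLine T x) (hy : IsLine T y)
    (hz : IsLine T z) (hxW : x ≤ W) (hyW : y ≤ W) (h : Tri x y z) (hw : IsLine T w)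
    (hwP : w ≤ x ⊔ y) : w = x ∨ w = y ∨ w = z := by
  obtain ⟨⟨hxy, hxz, hyz⟩, P, hP, hxP, hyP, hzP⟩ := h
  have hPe := eq_sup hx hy hxy hP hxP hyP
  obtain ⟨z', hz', -, -, -, hcov⟩ := exists_third' hT hW hsm hx hy hxW hyW hxy
    (meet_of_le hx hy hP hxP hyP)
  rcases hcov w hw hwP with h | h | h
  · exact Or.inl h
  · exact Or.inr (Or.inl h)
  · rcases hcov z hz (hPe ▸ hzP) with h' | h' | h'
    · exact absurd h'.symm hxz
    · exact absurd h'.symm hyz
    · exact Or.inr (Or.inr (h.trans h'.symm))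

theorem plane_cover (hT : IsSym3 T) {W : Submodule k V} (hW : finrank k ↥W = 4)
    (hsm : SmoothOn T W) {x y z : Submodule k V} (hx : IsLine T x) (hy : IsLine T y)
    (hz : IsLine T z) (hxW : x ≤ W) (hyW : y ≤ W) (h : Tri x y z) {v : V} (hv : v ∈ x ⊔ y)
    (hv0 : T v v v = 0) : v ∈ x ∨ v ∈ y ∨ v ∈ z := by
  obtain ⟨⟨hxy, hxz, hyz⟩, P, hP, hxP, hyP, hzP⟩ := h
  have hPe := eq_sup hx hy hxy hP hxP hyP
  obtain ⟨z', hz', -, -, hcov', hcov⟩ := exists_third' hT hW hsm hx hy hxW hyW hxy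
    (meet_of_le hx hy hP hxP hyP)
  rcases hcov z hz (hPe ▸ hzP) with h' | h' | h'
  · exact absurd h'.symm hxz
  · exact absurd h'.symm hyz
  · rw [h']; exact hcov' v hv hv0

/-- The five-planes axiom for the lines of `T` in `W`. -/
def Five (T : V →ₗ[k] V →ₗ[k] V →ₗ[k] k) (W : Submodule k V) : Prop :=
  ∀ x : Lines T W, ∃ y z : Fin 5 → Lines T W, (∀ i, Tri x.1 (y i).1 (z i).1) ∧
    ∀ i j, i ≠ j → y i ≠ y j ∧ y i ≠ z j

/-- The incidence geometry of the lines on a smooth cubic surface. -/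
def geo (hT : IsSym3 T) {W : Submodule k V} (hW : finrank k ↥W = 4) (hsm : SmoothOn T W)
    (h5 : Five T W) : GQ.Geo (Lines T W) where
  tri x y z := Tri x.1 y.1 z.1
  swap12 := fun {x y z} ⟨⟨h1, h2, h3⟩, P, hP, hx, hy, hz⟩ =>
    ⟨⟨h1.symm, h3, h2⟩, P, hP, hy, hx, hz⟩
  swap23 := fun {x y z} ⟨⟨h1, h2, h3⟩, P, hP, hx, hy, hz⟩ =>
    ⟨⟨h2, h1, h3.symm⟩, P, hP, hx, hz, hy⟩
  ne12 := fun {x y z} h he => h.1.1 (congrArg Subtype.val he)
  third_unique := by
    rintro ⟨x, hx, hxW⟩ ⟨y, hy, hyW⟩ ⟨z, hz, hzW⟩ ⟨z', hz', hzW'⟩ h h'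
    obtain ⟨⟨hxy, hxz, hyz⟩, P, hP, hxP, hyP, hzP⟩ := h'
    have hPe := eq_sup hx hy hxy hP hxP hyP
    rcases third_unique hT hW hsm hx hy hz hxW hyW h hz' (hPe ▸ hzP) with h1 | h1 | h1
    · exact absurd h1.symm hxz
    · exact absurd h1.symm hyz
    · exact Subtype.ext h1.symm
  exists_meet := by
    rintro ⟨x, hx, hxW⟩ ⟨y, hy, hyW⟩ ⟨z, hz, hzW⟩ ⟨w, hw, hwW⟩ h h1 h2 h3
    have h1' : w ≠ x := fun h => h1 (Subtype.ext h)
    have h2' : w ≠ y := fun h => h2 (Subtype.ext h)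
    have h3' : w ≠ z := fun h => h3 (Subtype.ext h)
    have hxy := h.1.1
    obtain ⟨-, P, hP, hxP, hyP, hzP⟩ := id h
    have hPe := eq_sup hx hy hxy hP hxP hyP
    have hm : w ⊓ (x ⊔ y) ≠ ⊥ := by
      intro h4
      have h5 := Submodule.finrank_sup_add_finrank_inf_eq w (x ⊔ y)
      have h6 := Submodule.finrank_mono (sup_le hwW (sup_le hxW hyW))
      rw [h4, finrank_bot, hw.1, ← hPe, hP] at h5
      rw [← hPe] at h6
      omega
    obtain ⟨v, ⟨hvw, hvP⟩, hv0⟩ := Submodule.exists_mem_ne_zero_of_ne_bot hm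
    have hfin : ∀ u : Submodule k V, IsLine T u → u ≤ W → w ≠ u → v ∈ u →
        ∃ z : Lines T W, Tri w u z.1 := by
      intro u hu huW hwu hvu
      obtain ⟨z, hz, ht⟩ := (inc_iff hT hW hsm hw hu hwW huW).2 ⟨hwu, fun h4 =>
        hv0 ((Submodule.mem_bot k).1 (h4 ▸ ⟨hvw, hvu⟩))⟩
      exact ⟨⟨z, hz⟩, ht⟩
    rcases plane_cover hT hW hsm hx hy hz hxW hyW h hvP (hw.2 v hvw) with h4 | h4 | h4
    · exact Or.inl (hfin x hx hxW h1' h4)
    · exact Or.inr (Or.inl (hfin y hy hyW h2' h4))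
    · exact Or.inr (Or.inr (hfin z hz hzW h3' h4))
  meet_unique := by
    rintro ⟨x, hx, hxW⟩ ⟨y, hy, hyW⟩ ⟨z, hz, hzW⟩ ⟨w, hw, hwW⟩ h h1 ⟨⟨u, hu, huW⟩, h2⟩ ⟨⟨u', hu', huW'⟩, h3⟩
    have hxy := h.1.1
    obtain ⟨-, P, hP, hxP, hyP, hzP⟩ := id h
    have hPe := eq_sup hx hy hxy hP hxP hyP
    have hwx := (inc_iff hT hW hsm hw hx hwW hxW).1 ⟨u, ⟨hu, huW⟩, h2⟩
    have hwy := (inc_iff hT hW hsm hw hy hwW hyW).1 ⟨u', ⟨hu', huW'⟩, h3⟩
    by_cases hwP : w ≤ x ⊔ y
    · rcases third_unique hT hW hsm hx hy hz hxW hyW h hw hwP with h4 | h4 | h4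
      · exact hwx.1 h4
      · exact hwy.1 h4
      · exact h1 (Subtype.ext h4)
    · -- the intersection points with `x` and `y` coincide
      obtain ⟨v, ⟨hvw, hvx⟩, hv0⟩ := Submodule.exists_mem_ne_zero_of_ne_bot hwx.2
      obtain ⟨v', ⟨hvw', hvy⟩, hv0'⟩ := Submodule.exists_mem_ne_zero_of_ne_bot hwy.2
      have hlt : w ⊓ (x ⊔ y) < w := lt_of_le_of_ne inf_le_left fun h => hwP (inf_eq_left.1 h)
      have h5 := Submodule.finrank_lt_finrank_of_lt hlt
      rw [hw.1] at h5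
      have hsp : Submodule.span k {v} = w ⊓ (x ⊔ y) := by
        refine Submodule.eq_of_le_of_finrank_le ?_ ?_
        · rw [Submodule.span_singleton_le_iff_mem]
          exact ⟨hvw, Submodule.mem_sup_left hvx⟩
        · rw [finrank_span_singleton hv0]; omega
      have hv' : v' ∈ Submodule.span k {v} := hsp ▸ ⟨hvw', Submodule.mem_sup_right hvy⟩
      obtain ⟨c, rfl⟩ := Submodule.mem_span_singleton.1 hv'
      have hc : c ≠ 0 := by rintro rfl; exact hv0' (zero_smul _ _)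
      have hvy' : v ∈ y := by
        have := y.smul_mem c⁻¹ hvy
        rwa [smul_smul, inv_mul_cancel₀ hc, one_smul] at this
      exact not_three hT hW hsm hx hy hw hxW hyW hwW hxy hwP hv0 hvx hvy' hvw
  five := h5
  few := by
    rintro ⟨x, hx, hxW⟩ ⟨y, hy, hyW⟩ ⟨z, hz, hzW⟩ h1 h2 h3 h4 h5 h6 t ht h7 h8 h9
    have h1' : x ≠ y := fun h => h1 (Subtype.ext h)
    have h2' : y ≠ z := fun h => h2 (Subtype.ext h)
    have h3' : x ≠ z := fun h => h3 (Subtype.ext h)
    have hdis : ∀ {x y : Submodule k V} (hx : IsLine T x) (hy : IsLine T y) (hxW : x ≤ W) (hyW : y ≤ W),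
        x ≠ y → (¬ ∃ u : Lines T W, Tri x y u.1) → x ⊓ y = ⊥ := by
      intro x y hx hy hxW hyW hxy hn
      by_contra hm
      obtain ⟨z, hz, ht⟩ := (inc_iff hT hW hsm hx hy hxW hyW).2 ⟨hxy, hm⟩
      exact hn ⟨⟨z, hz⟩, ht⟩
    refine few_transversals hT hW hsm hx hy hz hxW hyW hzW (hdis hx hy hxW hyW h1' h4)
      (hdis hy hz hyW hzW h2' h5) (hdis hx hz hxW hzW h3' h6) (fun i => (t i).1)
      (fun i j h => ht (Subtype.ext h)) (fun i => (t i).2.1) ?_ ?_ ?_
    · intro i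
      obtain ⟨u, hu⟩ := h7 i
      exact ((inc_iff hT hW hsm hx (t i).2.1 hxW (t i).2.2).1 ⟨u.1, u.2, hu⟩).2
    · intro i
      obtain ⟨u, hu⟩ := h8 i
      exact ((inc_iff hT hW hsm hy (t i).2.1 hyW (t i).2.2).1 ⟨u.1, u.2, hu⟩).2
    · intro i
      obtain ⟨u, hu⟩ := h9 i
      exact ((inc_iff hT hW hsm hz (t i).2.1 hzW (t i).2.2).1 ⟨u.1, u.2, hu⟩).2

/-- **Colourings.** A two-colouring of the lines of a smooth cubic surface such that the colours of the residual
pair in a tritangent plane through a line only depend on the line is constant. -/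
theorem mono (hT : IsSym3 T) {W : Submodule k V} (hW : finrank k ↥W = 4) (hsm : SmoothOn T W)
    (h5 : Five T W) (c : Submodule k V → Prop)
    (hc1 : ∀ {x y z y' z' : Submodule k V}, IsLine T x → IsLine T y → IsLine T z → IsLine T y' →
      IsLine T z' → x ≤ W → y ≤ W → z ≤ W → y' ≤ W → z' ≤ W →
      Tri x y z → Tri x y' z' → c y → c z → (c y' ∧ c z'))
    (hc2 : ∀ {x y z y' z' : Submodule k V}, IsLine T x → IsLine T y → IsLine T z → IsLine T y' →
      IsLine T z' → x ≤ W → y ≤ W → z ≤ W → y' ≤ W → z' ≤ W →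
      Tri x y z → Tri x y' z' → ¬ c y → ¬ c z → (¬ c y' ∧ ¬ c z'))
    {x y : Submodule k V} (hx : IsLine T x) (hy : IsLine T y) (hxW : x ≤ W) (hyW : y ≤ W) :
    c x ↔ c y := by
  refine GQ.mono (G := geo hT hW hsm h5) (fun x => c x.1) ?_ ?_ ⟨x, hx, hxW⟩ ⟨y, hy, hyW⟩
  · rintro ⟨x, hx, hxW⟩ ⟨y, hy, hyW⟩ ⟨z, hz, hzW⟩ ⟨y', hy', hyW'⟩ ⟨z', hz', hzW'⟩ h h' h1 h2
    exact hc1 hx hy hz hy' hz' hxW hyW hzW hyW' hzW' h h' h1 h2
  · rintro ⟨x, hx, hxW⟩ ⟨y, hy, hyW⟩ ⟨z, hz, hzW⟩ ⟨y', hy', hyW'⟩ ⟨z', hz', hzW'⟩ h h' h1 h2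
    exact hc2 hx hy hz hy' hz' hxW hyW hzW hyW' hzW' h h' h1 h2

end K714.SurfGeo
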