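import Groth.Agent.Fano.K714.Codim2
import Groth.Agent.Fano.K714.HypSeq
import Mathlib.Algebra.Polynomial.BigOperators
import Mathlib.Algebra.BigOperators.Intervals

/-!
# Expansion of a form at a point of the chart `x_i = 1`
-/

set_option autoImplicit false

universe u

namespace K714.Taylor

open MvPolynomial LefPen Groth.Agent.Lefpen.H703.ZOpen Groth.Agent.Lefpen.H703.NondegOpen K714.Codim
  K714.HypSeq

variable {k : Type u} [Field k] {m d : ℕ}

/-- The linear form `x_l - v_l x_i`. -/
noncomputable def lin (i : Fin (m + 2)) (v : Fin (m + 1) → k) (l : Fin (m + 1)) :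
    MvPolynomial (Fin (m + 2)) k :=
  X (i.succAbove l) - C (v l) * X i

theorem isHomogeneous_lin (i : Fin (m + 2)) (v : Fin (m + 1) → k) (l : Fin (m + 1)) :
    (lin i v l).IsHomogeneous 1 := by
  refine (isHomogeneous_X k _).sub ?_
  simpa using (isHomogeneous_C _ (v l)).mul (isHomogeneous_X k i)

/-- The form with expansion `(c, F)` at the point `v` of the chart `x_i = 1`. -/
noncomputable def T (i : Fin (m + 2)) (v : Fin (m + 1) → k) :
    (k × Sq k m d) →ₗ[k] MvPolynomial (Fin (m + 2)) k where
  toFun p := p.1 • X i ^ d + ∑ j : Fin d, X i ^ (d - 1 - j.1) * aeval (lin i v) (p.2 j).1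
  map_add' p q := by
    simp only [Prod.fst_add, Prod.snd_add, Pi.add_apply, Submodule.coe_add, map_add, mul_add,
      Finset.sum_add_distrib, add_smul]
    ring
  map_smul' c p := by
    simp only [Prod.smul_fst, Prod.smul_snd, Pi.smul_apply, Submodule.coe_smul, map_smul, mul_smul_comm,
      ← Finset.smul_sum, smul_eq_mul, mul_smul, smul_add, RingHom.id_apply]

theorem isHomogeneous_T (i : Fin (m + 2)) (v : Fin (m + 1) → k) (p : k × Sq k m d) :
    (T i v p).IsHomogeneous d := by
  refine IsHomogeneous.add ?_ (IsHomogeneous.sum _ _ _ fun j _ => ?_)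
  · rw [smul_eq_C_mul]
    simpa using (isHomogeneous_C _ p.1).mul (isHomogeneous_X_pow (R := k) i d)
  · have h1 := (isHomogeneous_X_pow (R := k) i (d - 1 - j.1)).mul
      (((mem_homogeneousSubmodule _ _).1 (p.2 j).2).aeval (lin i v) (isHomogeneous_lin i v))
    have h2 : d - 1 - j.1 + 1 * (j.1 + 1) = d := by have := j.2; omega
    rwa [h2] at h1

theorem eval_T (i : Fin (m + 2)) (v : Fin (m + 1) → k) (p : k × Sq k m d) (x : Fin (m + 2) → k) :
    eval x (T i v p) = p.1 * x i ^ d +
      ∑ j : Fin d, x i ^ (d - 1 - j.1) * eval (fun l => x (i.succAbove l) - v l * x i) (p.2 j).1 := by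
  have h : ∀ F : MvPolynomial (Fin (m + 1)) k,
      eval x (aeval (lin i v) F) = eval (fun l => x (i.succAbove l) - v l * x i) F := by
    intro F
    induction F using MvPolynomial.induction_on with
    | C a => simp
    | add F G hF hG => simp only [map_add, hF, hG]
    | mul_X F l hF => simp only [map_mul, hF]; simp [lin]
  simp only [T, LinearMap.coe_mk, AddHom.coe_mk, map_add, map_sum, map_mul, map_pow, eval_X, h,
    smul_eval]

/-- A polynomial identity in `s` determines the coefficients. -/
theorem coeffs_eq_zero [Infinite k] (c : k) (a : Fin d → k)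
    (h : ∀ s : k, c * s ^ d + ∑ j : Fin d, s ^ (d - 1 - j.1) * a j = 0) : c = 0 ∧ ∀ j, a j = 0 := by
  classical
  let P : Polynomial k := Polynomial.C c * Polynomial.X ^ d +
    ∑ j : Fin d, Polynomial.C (a j) * Polynomial.X ^ (d - 1 - j.1)
  have hP : P = 0 := by
    refine Polynomial.funext fun s => ?_
    simp only [P, Polynomial.eval_add, Polynomial.eval_mul, Polynomial.eval_C, Polynomial.eval_pow,
      Polynomial.eval_X, Polynomial.eval_finsetSum, Polynomial.eval_zero]
    rw [← h s]
    congr 1
    exact Finset.sum_congr rfl fun j _ => mul_comm _ _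
  have hcoef : ∀ n, P.coeff n = (if n = d then c else 0) +
      ∑ j : Fin d, if n = d - 1 - j.1 then a j else 0 := by
    intro n
    simp only [P, Polynomial.coeff_add, Polynomial.coeff_C_mul_X_pow, Polynomial.finsetSum_coeff]
  constructor
  · have h1 := hcoef d
    rw [hP, Polynomial.coeff_zero, if_pos rfl, Finset.sum_eq_zero, add_zero] at h1
    · exact h1.symm
    · intro j _
      rw [if_neg]
      have := j.2
      omega
  · intro j
    have hj := j.2
    have h1 := hcoef (d - 1 - j.1)
    rw [hP, Polynomial.coeff_zero, if_neg (by omega), zero_add, Finset.sum_eq_single j] at h1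
    · simpa using h1.symm
    · intro j' _ hne
      rw [if_neg]
      intro h2
      apply hne
      apply Fin.ext
      have := j'.2
      omega
    · simp

/-- The expansion along a line through the point `v`. -/
theorem eval_T_line (i : Fin (m + 2)) (v : Fin (m + 1) → k) (p : k × Sq k m d) (w : Fin (m + 2) → k) (s : k) :
    eval ((s - w i) • (i.insertNth 1 v : Fin (m + 2) → k) + w) (T i v p) = p.1 * s ^ d +
      ∑ j : Fin d, s ^ (d - 1 - j.1) * eval (fun l => w (i.succAbove l) - v l * w i) (p.2 j).1 := by
  rw [eval_T]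
  have h1 : ((s - w i) • (i.insertNth 1 v : Fin (m + 2) → k) + w) i = s := by
    simp
  have h2 : ∀ l, ((s - w i) • (i.insertNth 1 v : Fin (m + 2) → k) + w) (i.succAbove l) -
      v l * ((s - w i) • (i.insertNth 1 v : Fin (m + 2) → k) + w) i = w (i.succAbove l) - v l * w i := by
    intro l
    rw [h1]
    simp
    ring
  simp only [h2]
  rw [h1]

theorem T_injective [Infinite k] (i : Fin (m + 2)) (v : Fin (m + 1) → k) :
    Function.Injective (T (d := d) i v) := by
  rw [injective_iff_map_eq_zero]
  intro p hp
  have key : ∀ y : Fin (m + 1) → k, p.1 = 0 ∧ ∀ j, eval y (p.2 j).1 = 0 := by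
    intro y
    refine coeffs_eq_zero p.1 _ fun s => ?_
    have h := eval_T_line i v p (i.insertNth 0 y) s
    rw [hp, map_zero] at h
    have h2 : ∀ l, (i.insertNth 0 y : Fin (m + 2) → k) (i.succAbove l) -
        v l * (i.insertNth 0 y : Fin (m + 2) → k) i = y l := by
      intro l; simp
    simp only [h2] at h
    exact h.symm
  refine Prod.ext (key 0).1 ?_
  funext j
  apply Subtype.ext
  refine MvPolynomial.funext fun y => ?_
  rw [(key y).2 j]
  simp

end K714.Taylor
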