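import Groth.Agent.Fano.K714.TwDef
import Groth.Agent.Fano.K714.ConicIrr2

/-!
# Base change of trilinear forms and coefficients of cubes of parametrised curves

* `bT T Ω`: the extension of `T` to `Ω^n`; `bT_apply`, `bT_sym`, `bT_smooth` (smoothness is preserved,
  Nullstellensatz), `aeval_pT`, `bT_map` (compatibility), `deriv_bT` (derivations).
* `cf T c c' c'' w`: the coefficient of `s^(9-w) t^w` in `T (tpt c) (tpt c') (tpt c'')`.
-/

set_option autoImplicit false

universe u

namespace K714.TwBase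

open K656.Trilin Module K714.Surf K714.Tw K714.Frames

variable {k : Type u} [Field k] {n : ℕ}

section Base

variable (T : (Fin n → k) →ₗ[k] (Fin n → k) →ₗ[k] (Fin n → k) →ₗ[k] k) (Ω : Type u) [Field Ω] [Algebra k Ω]

/-- The base change of `T`. -/
noncomputable def bT : (Fin n → Ω) →ₗ[Ω] (Fin n → Ω) →ₗ[Ω] (Fin n → Ω) →ₗ[Ω] Ω :=
  ∑ i, ∑ j, ∑ l, algebraMap k Ω (T (Pi.single i 1) (Pi.single j 1) (Pi.single l 1)) •
    ((LinearMap.proj i : (Fin n → Ω) →ₗ[Ω] Ω).smulRight
      ((LinearMap.proj j : (Fin n → Ω) →ₗ[Ω] Ω).smulRight (LinearMap.proj l : (Fin n → Ω) →ₗ[Ω] Ω)))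

theorem bT_apply (u v w : Fin n → Ω) : bT T Ω u v w =
    ∑ i, ∑ j, ∑ l, algebraMap k Ω (T (Pi.single i 1) (Pi.single j 1) (Pi.single l 1)) * (u i * v j * w l) := by
  simp only [bT, LinearMap.sum_apply, LinearMap.smul_apply, LinearMap.smulRight_apply,
    LinearMap.proj_apply, smul_eq_mul, mul_assoc]

theorem bT_single (u v : Fin n → Ω) (l : Fin n) : bT T Ω u v (Pi.single l 1) =
    ∑ i, ∑ j, algebraMap k Ω (T (Pi.single i 1) (Pi.single j 1) (Pi.single l 1)) * (u i * v j) := by
  rw [bT_apply]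
  refine Finset.sum_congr rfl fun i _ => Finset.sum_congr rfl fun j _ => ?_
  rw [Finset.sum_eq_single l]
  · simp
  · intro m _ hm
    rw [Pi.single_eq_of_ne hm]; simp
  · intro h; exact absurd (Finset.mem_univ l) h

variable {T} in
theorem bT_sym (hT : IsSym3 T) : IsSym3 (bT T Ω) where
  s12 u v w := by
    rw [bT_apply, bT_apply, Finset.sum_comm]
    refine Finset.sum_congr rfl fun i _ => Finset.sum_congr rfl fun j _ => Finset.sum_congr rfl fun l _ => ?_
    rw [hT.s12]; ring
  s23 u v w := by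
    rw [bT_apply, bT_apply]
    refine Finset.sum_congr rfl fun i _ => ?_
    rw [Finset.sum_comm]
    refine Finset.sum_congr rfl fun j _ => Finset.sum_congr rfl fun l _ => ?_
    rw [hT.s23]; ring

/-- the gradient quadrics -/
noncomputable def gq (i : Fin n) : MvPolynomial (Fin n) k :=
  pT T MvPolynomial.X MvPolynomial.X (fun j => MvPolynomial.C (Pi.single (M := fun _ => k) i 1 j))

theorem aeval_pT {σ : Type} (u v w : Fin n → MvPolynomial σ k) (x : σ → Ω) :
    MvPolynomial.aeval x (pT T u v w) =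
      bT T Ω (fun i => MvPolynomial.aeval x (u i)) (fun i => MvPolynomial.aeval x (v i))
        (fun i => MvPolynomial.aeval x (w i)) := by
  rw [bT_apply]
  simp only [pT, map_sum, map_mul, MvPolynomial.aeval_C]

theorem aeval_gq (x : Fin n → Ω) (i : Fin n) :
    MvPolynomial.aeval x (gq T i) = bT T Ω x x (Pi.single i 1) := by
  rw [gq, aeval_pT]
  simp only [MvPolynomial.aeval_X, MvPolynomial.aeval_C]
  congr 1
  funext j
  by_cases h : j = i
  · subst h; simp
  · rw [Pi.single_eq_of_ne h, Pi.single_eq_of_ne h, map_zero]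

theorem eval_gq (x : Fin n → k) (i : Fin n) :
    MvPolynomial.eval x (gq T i) = T x x (Pi.single i 1) := by
  rw [gq, eval_pT]
  simp only [MvPolynomial.eval_X, MvPolynomial.eval_C]

theorem eq_zero_of_singles {K : Type*} [Field K] {f : (Fin n → K) →ₗ[K] K} (h : ∀ i, f (Pi.single i 1) = 0)
    (w : Fin n → K) : f w = 0 := by
  rw [← Finset.univ_sum_single w, map_sum]
  refine Finset.sum_eq_zero fun i _ => ?_
  have : (Pi.single i (w i) : Fin n → K) = w i • Pi.single i 1 := by
    rw [← Pi.single_smul, smul_eq_mul, mul_one]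
  rw [this, map_smul, h, smul_zero]

variable {T} in
theorem bT_smooth [IsAlgClosed k] (hsm : SmoothOn T ⊤) : SmoothOn (bT T Ω) ⊤ := by
  have key : ∀ j : Fin n, ∃ N : ℕ, (MvPolynomial.X j : MvPolynomial (Fin n) k) ^ N ∈
      Ideal.span (Set.range (gq T)) := by
    intro j
    have h1 : (MvPolynomial.X j : MvPolynomial (Fin n) k) ∈
        MvPolynomial.vanishingIdeal k (MvPolynomial.zeroLocus k (Ideal.span (Set.range (gq T)))) := by
      rw [MvPolynomial.mem_vanishingIdeal_iff]
      intro x hx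
      rw [MvPolynomial.mem_zeroLocus_iff] at hx
      have h2 : ∀ i, T x x (Pi.single i 1) = 0 := fun i => by
        rw [← eval_gq]
        have := hx (gq T i) (Ideal.subset_span ⟨i, rfl⟩)
        rwa [MvPolynomial.aeval_eq_eval] at this
      have h3 : x = 0 := by
        by_contra hx0
        obtain ⟨w, -, hw⟩ := hsm x trivial hx0 (eq_zero_of_singles h2 x)
        exact hw (eq_zero_of_singles h2 w)
      rw [h3]; simp
    rw [MvPolynomial.vanishingIdeal_zeroLocus_eq_radical] at h1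
    exact h1
  intro v _ hv _
  by_contra hcon
  push Not at hcon
  apply hv
  have h0 : ∀ p ∈ Ideal.span (Set.range (gq T)), MvPolynomial.aeval v p = 0 := by
    intro p hp
    have hle : Ideal.span (Set.range (gq T)) ≤ RingHom.ker (MvPolynomial.aeval v : MvPolynomial (Fin n) k →ₐ[k] Ω) := by
      rw [Ideal.span_le]
      rintro _ ⟨i, rfl⟩
      change MvPolynomial.aeval v (gq T i) = 0
      rw [aeval_gq]
      exact hcon _ trivial
    exact hle hp
  funext j
  obtain ⟨N, hN⟩ := key j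
  have := h0 _ hN
  rw [map_pow, MvPolynomial.aeval_X] at this
  by_contra hj
  exact pow_ne_zero N hj this

variable {T Ω} in
theorem deriv_bT (δ : Derivation k Ω Ω) (u v w : Fin n → Ω) :
    δ (bT T Ω u v w) = bT T Ω (fun i => δ (u i)) v w + bT T Ω u (fun i => δ (v i)) w +
      bT T Ω u v (fun i => δ (w i)) := by
  simp only [bT_apply, map_sum, ← Finset.sum_add_distrib]
  refine Finset.sum_congr rfl fun i _ => Finset.sum_congr rfl fun j _ => Finset.sum_congr rfl fun l _ => ?_
  rw [Derivation.leibniz, Derivation.leibniz, Derivation.leibniz, Derivation.map_algebraMap]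
  simp only [smul_eq_mul]
  ring

end Base

section Coef

variable {V : Type u} [AddCommGroup V] [Module k V] (S : V →ₗ[k] V →ₗ[k] V →ₗ[k] k)

/-- The coefficient of `s^(9-w) t^w` in `S (tpt c s t) (tpt c' s t) (tpt c'' s t)`. -/
def cf (c c' c'' : Fin 4 → V) (w : ℕ) : k :=
  ∑ i : Fin 4, ∑ j : Fin 4, ∑ l : Fin 4, if (i : ℕ) + j + l = w then S (c i) (c' j) (c'' l) else 0

theorem tpt_eq_sum (c : Fin 4 → V) (s t : k) : tpt c s t = ∑ i : Fin 4, (s ^ (3 - (i : ℕ)) * t ^ (i : ℕ)) • c i := by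
  rw [Fin.sum_univ_four]
  simp [tpt]

theorem tri_sum (x y z : Fin 4 → k) (c c' c'' : Fin 4 → V) :
    S (∑ i, x i • c i) (∑ j, y j • c' j) (∑ l, z l • c'' l) =
      ∑ i, ∑ j, ∑ l, S (c i) (c' j) (c'' l) * (x i * y j * z l) := by
  have h1 : ∀ u v, S (∑ i, x i • c i) u v = ∑ i, x i * S (c i) u v := by
    intro u v
    simp only [map_sum, LinearMap.sum_apply, map_smul, LinearMap.smul_apply, smul_eq_mul]
  have h2 : ∀ u v, S u (∑ j, y j • c' j) v = ∑ j, y j * S u (c' j) v := by
    intro u v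
    simp only [map_sum, LinearMap.sum_apply, map_smul, LinearMap.smul_apply, smul_eq_mul]
  have h3 : ∀ u v, S u v (∑ l, z l • c'' l) = ∑ l, z l * S u v (c'' l) := by
    intro u v
    simp only [map_sum, map_smul, smul_eq_mul]
  rw [h1]
  refine Finset.sum_congr rfl fun i _ => ?_
  rw [h2, Finset.mul_sum]
  refine Finset.sum_congr rfl fun j _ => ?_
  rw [h3, Finset.mul_sum, Finset.mul_sum]
  refine Finset.sum_congr rfl fun l _ => ?_
  ring

theorem cube_tpt (c c' c'' : Fin 4 → V) (s t : k) :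
    S (tpt c s t) (tpt c' s t) (tpt c'' s t) = ∑ w : Fin 10, cf S c c' c'' w * (s ^ (9 - (w : ℕ)) * t ^ (w : ℕ)) := by
  rw [tpt_eq_sum c, tpt_eq_sum c', tpt_eq_sum c'', tri_sum]
  simp only [cf, Finset.sum_mul]
  rw [eq_comm, Finset.sum_comm]
  refine Finset.sum_congr rfl fun i _ => ?_
  rw [Finset.sum_comm]
  refine Finset.sum_congr rfl fun j _ => ?_
  rw [Finset.sum_comm]
  refine Finset.sum_congr rfl fun l _ => ?_
  have hi := i.2
  have hj := j.2
  have hl := l.2
  rw [Finset.sum_eq_single (⟨(i : ℕ) + j + l, by omega⟩ : Fin 10)]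
  · simp only [if_true]
    have e1 : s ^ (9 - ((i : ℕ) + j + l)) = s ^ (3 - (i : ℕ)) * s ^ (3 - (j : ℕ)) * s ^ (3 - (l : ℕ)) := by
      rw [← pow_add, ← pow_add]
      congr 1
      omega
    have e2 : t ^ ((i : ℕ) + j + l) = t ^ (i : ℕ) * t ^ (j : ℕ) * t ^ (l : ℕ) := by
      rw [← pow_add, ← pow_add]
    rw [e1, e2]
    ring
  · intro w _ hw
    rw [if_neg, zero_mul]
    intro h
    exact hw (Fin.ext h.symm)
  · intro h
    exact absurd (Finset.mem_univ _) h

/-- vanishing for all parameters means vanishing of the ten coefficients -/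
theorem cube_tpt_eq_zero_iff [Infinite k] (c c' c'' : Fin 4 → V) :
    (∀ s t : k, S (tpt c s t) (tpt c' s t) (tpt c'' s t) = 0) ↔ ∀ w : Fin 10, cf S c c' c'' w = 0 := by
  constructor
  · intro h w
    refine K714.ConicIrr.coeffs_zero (fun w : Fin 10 => cf S c c' c'' w) (fun t => ?_) w
    have := h 1 t
    rw [cube_tpt] at this
    simpa using this
  · intro h s t
    rw [cube_tpt]
    exact Finset.sum_eq_zero fun w _ => by rw [h w, zero_mul]

/-- `tpt` determines the coefficients. -/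
theorem tpt_injective [Infinite k] {c c' : Fin 4 → V} (h : ∀ s t : k, tpt c s t = tpt c' s t) : c = c' := by
  funext i
  rw [← sub_eq_zero, ← Module.forall_dual_apply_eq_zero_iff k]
  intro φ
  refine K714.ConicIrr.coeffs_zero (fun i : Fin 4 => φ (c i - c' i)) (fun t => ?_) i
  have h1 := congrArg φ (h 1 t)
  rw [tpt_eq_sum, tpt_eq_sum, map_sum, map_sum] at h1
  have h2 : ∑ i : Fin 4, φ (c i - c' i) * t ^ (i : ℕ) =
      ∑ i : Fin 4, φ (((1 : k) ^ (3 - (i : ℕ)) * t ^ (i : ℕ)) • c i) -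
        ∑ i : Fin 4, φ (((1 : k) ^ (3 - (i : ℕ)) * t ^ (i : ℕ)) • c' i) := by
    rw [← Finset.sum_sub_distrib]
    refine Finset.sum_congr rfl fun i _ => ?_
    rw [map_smul, map_smul, map_sub, smul_eq_mul, smul_eq_mul, one_pow]
    ring
  rw [h2, h1, sub_self]

theorem cf_add₃ (c c' σ τ : Fin 4 → V) (w : ℕ) : cf S c c' (σ + τ) w = cf S c c' σ w + cf S c c' τ w := by
  simp only [cf, ← Finset.sum_add_distrib]
  refine Finset.sum_congr rfl fun i _ => Finset.sum_congr rfl fun j _ => Finset.sum_congr rfl fun l _ => ?_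
  split_ifs
  · rw [Pi.add_apply, map_add]
  · rw [add_zero]

theorem cf_smul₃ (c c' σ : Fin 4 → V) (a : k) (w : ℕ) : cf S c c' (a • σ) w = a * cf S c c' σ w := by
  simp only [cf, Finset.mul_sum]
  refine Finset.sum_congr rfl fun i _ => Finset.sum_congr rfl fun j _ => Finset.sum_congr rfl fun l _ => ?_
  split_ifs
  · rw [Pi.smul_apply, map_smul, smul_eq_mul]
  · rw [mul_zero]

/-- `σ ↦ S (tpt c) (tpt c) (tpt σ)` on coefficient vectors. -/
def psiL (c : Fin 4 → V) : (Fin 4 → V) →ₗ[k] (Fin 10 → k) where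
  toFun σ w := cf S c c σ w
  map_add' σ τ := by funext w; exact cf_add₃ S c c σ τ w
  map_smul' a σ := by funext w; exact cf_smul₃ S c c σ a w

theorem mem_ker_psiL [Infinite k] (c σ : Fin 4 → V) :
    σ ∈ LinearMap.ker (psiL S c) ↔ ∀ s t : k, S (tpt c s t) (tpt c s t) (tpt σ s t) = 0 := by
  rw [LinearMap.mem_ker, cube_tpt_eq_zero_iff]
  constructor
  · intro h w
    exact congrFun h w
  · intro h
    funext w
    exact h w

theorem psiL_surjective [Infinite k] {c : Fin 4 → V} (h : ∀ G : Fin 10 → k, ∃ σ : Fin 4 → V, ∀ s t : k,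
    S (tpt c s t) (tpt c s t) (tpt σ s t) = ∑ i : Fin 10, G i * (s ^ (9 - (i : ℕ)) * t ^ (i : ℕ))) :
    Function.Surjective (psiL S c) := by
  intro G
  obtain ⟨σ, hσ⟩ := h G
  refine ⟨σ, ?_⟩
  funext w
  rw [← sub_eq_zero]
  refine K714.ConicIrr.coeffs_zero (fun w : Fin 10 => psiL S c σ w - G w) (fun t => ?_) w
  have h1 := hσ 1 t
  rw [cube_tpt] at h1
  simp only [one_pow, one_mul] at h1
  simp only [sub_mul, Finset.sum_sub_distrib]
  rw [sub_eq_zero]
  exact h1

end Coef

end K714.TwBase
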