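import Groth.Agent.Fano.K714.TwGen
import Groth.Agent.Fano.K925.GenDer

/-!
# Twisted cubics spanning smooth hyperplane sections are dense
-/

set_option autoImplicit false

universe u

namespace K714.TwDense

open K656.Trilin Module K714.Surf K714.Tw K714.Frames K714.TwBase K714.TwDisc K714.TwGen MvPolynomial K714.Comp
  Groth.Agent.Lefpen.H703.ZOpen LefPen

variable {k : Type u} [Field k]

/-- coordinates -/
def xco {K : Type*} (c : Fin 4 → Fin 5 → K) : Fin (4 * 5) → K :=
  fun q => c (finProdFinEquiv.symm q).1 (finProdFinEquiv.symm q).2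

def cox {K : Type*} (x : Fin (4 * 5) → K) : Fin 4 → Fin 5 → K := fun m i => x (finProdFinEquiv (m, i))

theorem cox_xco {K : Type*} (c : Fin 4 → Fin 5 → K) : cox (xco c) = c := by
  funext m i
  simp [cox, xco]

/-- coordinates as a linear equivalence -/
def xcoE (K : Type*) [Field K] : (Fin 4 → Fin 5 → K) ≃ₗ[K] (Fin (4 * 5) → K) where
  toFun := xco
  invFun := cox
  map_add' _ _ := rfl
  map_smul' _ _ := rfl
  left_inv c := cox_xco c
  right_inv x := by
    funext q
    simp only [xco, cox, Prod.mk.eta, Equiv.apply_symm_apply]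

/-- the generic coefficient system -/
noncomputable def Cv (k : Type u) [Field k] : Fin 4 → Fin 5 → MvPolynomial (Fin (4 * 5)) k :=
  fun m i => X (finProdFinEquiv (m, i))

/-- the ten equations -/
noncomputable def eqp (T : (Fin 5 → k) →ₗ[k] (Fin 5 → k) →ₗ[k] (Fin 5 → k) →ₗ[k] k) (w : Fin 10) :
    MvPolynomial (Fin (4 * 5)) k :=
  ∑ i : Fin 4, ∑ j : Fin 4, ∑ l : Fin 4, if (i : ℕ) + j + l = w then pT T (Cv k i) (Cv k j) (Cv k l) else 0

variable {T : (Fin 5 → k) →ₗ[k] (Fin 5 → k) →ₗ[k] (Fin 5 → k) →ₗ[k] k}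

theorem aeval_eqp {Ω : Type u} [Field Ω] [Algebra k Ω] (x : Fin (4 * 5) → Ω) (w : Fin 10) :
    aeval x (eqp T w) = cf (bT T Ω) (cox x) (cox x) (cox x) w := by
  simp only [eqp, cf, map_sum]
  refine Finset.sum_congr rfl fun i _ => Finset.sum_congr rfl fun j _ => Finset.sum_congr rfl fun l _ => ?_
  split_ifs
  · rw [aeval_pT]
    simp only [Cv, aeval_X]
    rfl
  · rw [map_zero]

theorem eval_eqp (x : Fin (4 * 5) → k) (w : Fin 10) :
    eval x (eqp T w) = cf T (cox x) (cox x) (cox x) w := by
  simp only [eqp, cf, map_sum]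
  refine Finset.sum_congr rfl fun i _ => Finset.sum_congr rfl fun j _ => Finset.sum_congr rfl fun l _ => ?_
  split_ifs
  · rw [eval_pT]
    simp only [Cv, eval_X]
    rfl
  · rw [map_zero]

theorem map_hv {R S : Type*} [CommRing R] [CommRing S] (φ : R →+* S) (c : Fin 4 → Fin 5 → R) (i : Fin 5) :
    φ (hv c i) = hv (fun m j => φ (c m j)) i := by
  rw [hv, map_hL, hv]
  congr 1
  funext j
  by_cases h : j = i
  · subst h; simp
  · rw [Pi.single_eq_of_ne h, Pi.single_eq_of_ne h, map_zero]

/-- **Density of the curves spanning a smooth hyperplane section.** -/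
theorem exists_smooth_span [IsAlgClosed k] [CharZero k] (hT : IsSym3 T) (hsm : SmoothOn T ⊤)
    {c : Fin 4 → Fin 5 → k} (hc : c ∈ TC T) {O : Set (Fin 4 → Fin 5 → k)} (hO : IsZOpen k O) (hcO : c ∈ O) :
    ∃ c' ∈ TC T, c' ∈ O ∧ SmoothOn T (Submodule.span k (Set.range c')) := by
  have hinf : Infinite k := IsAlgClosed.instInfinite
  -- the prime of a component through `c`
  let I : Ideal (MvPolynomial (Fin (4 * 5)) k) := Ideal.span (Set.range (eqp T))
  have hIc : I ≤ mx (xco c) := by
    rw [Ideal.span_le]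
    rintro _ ⟨w, rfl⟩
    rw [SetLike.mem_coe, mem_mx, eval_eqp, cox_xco]
    exact (cube_tpt_eq_zero_iff T c c c).1 hc.2 w
  obtain ⟨P, hPmin, hPc⟩ := Ideal.exists_minimalPrimes_le hIc
  have hP : P.IsPrime := hPmin.1.1
  have hIP : I ≤ P := hPmin.1.2
  have hheight : P.height ≤ 10 := by
    classical
    have h1 : P ∈ (Ideal.span ((Finset.univ.image (eqp T) : Finset (MvPolynomial (Fin (4 * 5)) k)) :
        Set (MvPolynomial (Fin (4 * 5)) k))).minimalPrimes := by
      rw [Finset.coe_image, Finset.coe_univ, Set.image_univ]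
      exact hPmin
    refine (Ideal.height_le_card_of_mem_minimalPrimes_span_finset h1).trans ?_
    have h2 : (Finset.univ.image (eqp T)).card ≤ 10 := by
      simpa using Finset.card_image_le (s := Finset.univ) (f := eqp T)
    exact_mod_cast h2
  obtain ⟨Ω, iF, iA, iC, x, hx, δ, hδ⟩ := K925.GenDer.exists_generic (d := 10) P (by
    calc P.height + (10 : ℕ) ≤ 10 + (10 : ℕ) := by gcongr
      _ = ((4 * 5 : ℕ) : ℕ∞) := by norm_num)
  have hcz : CharZero Ω := charZero_of_injective_algebraMap (algebraMap k Ω).injective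
  have hinfΩ : Infinite Ω := IsAlgClosed.instInfinite
  -- the generic curve
  obtain ⟨v, hv'⟩ := exists_hL_ne_zero hc.1
  let L : MvPolynomial (Fin (4 * 5)) k := hL (Cv k) (fun i => C (v i))
  have hLK : ∀ y : Fin (4 * 5) → k, eval y L = hL (cox y) v := by
    intro y
    have h1 := map_hL (eval y) (Cv k) (fun i => C (v i))
    simp only [eval_C, Cv, eval_X] at h1
    exact h1
  have hLP : L ∉ P := by
    intro h
    have := hPc h
    rw [mem_mx, hLK, cox_xco] at this
    exact hv' this
  have hLΩ : aeval x L = hL (cox x) (fun i => algebraMap k Ω (v i)) := by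
    have h1 := map_hL (aeval x : MvPolynomial (Fin (4 * 5)) k →ₐ[k] Ω).toRingHom (Cv k) (fun i => C (v i))
    simp only [AlgHom.toRingHom_eq_coe, RingHom.coe_coe, aeval_C, Cv, aeval_X] at h1
    exact h1
  have hind : LinearIndependent Ω (cox x) := linearIndependent_of_hL (v := fun i => algebraMap k Ω (v i)) (by
    rw [← hLΩ]
    intro h
    exact hLP ((hx L).1 h))
  have hcΩ : cox x ∈ TC (bT T Ω) := by
    refine ⟨hind, (cube_tpt_eq_zero_iff _ _ _ _).2 fun w => ?_⟩
    rw [← aeval_eqp]
    exact (hx _).2 (hIP (Ideal.subset_span ⟨w, rfl⟩))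
  have hδ' : LinearIndependent Ω (fun i => fun m j => δ i (cox x m j)) := by
    have h1 := hδ.map' (xcoE Ω).symm.toLinearMap (LinearEquiv.ker _)
    exact h1
  obtain ⟨d, G, hG, hG0, hGs⟩ := exists_disc hT hsm
  let GG : MvPolynomial (Fin (4 * 5)) k := aeval (hv (Cv k)) G
  have hGG : GG ∉ P := by
    intro h
    have h1 := (hx GG).2 h
    apply hG0
    refine generic_section hT hsm hcΩ δ hδ' d G hG ?_
    rw [← h1]
    have h2 : ∀ i, aeval x (hv (Cv k) i) = hv (cox x) i := by
      intro i
      have h3 := map_hv (aeval x : MvPolynomial (Fin (4 * 5)) k →ₐ[k] Ω).toRingHom (Cv k) i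
      simp only [AlgHom.toRingHom_eq_coe, RingHom.coe_coe, Cv, aeval_X] at h3
      exact h3
    change aeval (hv (cox x)) G = aeval x (aeval (hv (Cv k)) G)
    rw [← AlgHom.comp_apply, comp_aeval]
    congr 2
    funext i
    exact (h2 i).symm
  -- the open set
  obtain ⟨f, hf, hfc, hfO⟩ := hO c hcO
  obtain ⟨F, hF⟩ := exists_eval (xcoE k) hf
  have hFP : F ∉ P := by
    intro h
    have := hPc h
    rw [mem_mx] at this
    exact hfc ((hF c).trans this)
  have hprod : L * GG * F ∉ P := by
    intro h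
    rcases hP.mem_or_mem h with h | h
    · rcases hP.mem_or_mem h with h | h
      · exact hLP h
      · exact hGG h
    · exact hFP h
  obtain ⟨y, hy, hyne⟩ : ∃ y ∈ zeroLocus k P, eval y (L * GG * F) ≠ 0 := by
    by_contra hcon
    push Not at hcon
    apply hprod
    have h1 : L * GG * F ∈ vanishingIdeal k (zeroLocus k P) := by
      rw [mem_vanishingIdeal_iff]
      intro y hy
      rw [aeval_eq_eval]
      exact hcon y hy
    rwa [vanishingIdeal_zeroLocus_eq_radical, hP.radical] at h1
  rw [map_mul, map_mul] at hyne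
  have hy1 := left_ne_zero_of_mul (left_ne_zero_of_mul hyne)
  have hy2 := right_ne_zero_of_mul (left_ne_zero_of_mul hyne)
  have hy3 := right_ne_zero_of_mul hyne
  have hindy : LinearIndependent k (cox y) := linearIndependent_of_hL (v := v) (by rw [← hLK]; exact hy1)
  refine ⟨cox y, ⟨hindy, (cube_tpt_eq_zero_iff _ _ _ _).2 fun w => ?_⟩, hfO _ ?_, ?_⟩
  · rw [← eval_eqp, ← aeval_eq_eval]
    exact (mem_zeroLocus_iff.1 hy) _ (hIP (Ideal.subset_span ⟨w, rfl⟩))
  · rw [hF]
    have : (xcoE k) (cox y) = y := (xcoE k).right_inv y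
    rw [this]
    exact hy3
  · rw [← ker_hL hindy]
    refine hGs (hL (cox y)) ?_
    have h1 : eval (fun i => hL (cox y) (Pi.single i 1)) G = eval y GG := by
      have h2 : ∀ i, eval y (hv (Cv k) i) = hL (cox y) (Pi.single i 1) := by
        intro i
        have h3 := map_hv (eval y) (Cv k) i
        simp only [Cv, eval_X] at h3
        exact h3
      change _ = eval y (aeval (hv (Cv k)) G)
      rw [← aeval_eq_eval, ← aeval_eq_eval, ← AlgHom.comp_apply, comp_aeval]
      congr 2
      funext i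
      rw [aeval_eq_eval]
      exact (h2 i).symm
    rw [h1]
    exact hy2

end K714.TwDense
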