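import Groth.Agent.Fano.K714.TwBase

/-!
# The hyperplane spanned by a twisted cubic, and smooth hyperplane sections

* `hL c`: the linear form `v ↦ det (c_0, c_1, c_2, c_3, v)`; `hL_self`, `hL_ne_zero_iff`, `ker_hL`.
* `exists_disc`: a nonzero homogeneous polynomial in the coefficients of a hyperplane whose non-vanishing
  implies that the hyperplane section is smooth.
-/

set_option autoImplicit false

universe u

namespace K714.TwDisc

open K656.Trilin Module K714.Surf K714.Tw K714.Frames K714.TwBase K714.FanoConn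
  LefPen Groth.Agent.Lefpen.H703.ZOpen

section Det

variable {R : Type*} [CommRing R]

/-- the matrix with rows `c_0, c_1, c_2, c_3, v` -/
def hM (c : Fin 4 → Fin 5 → R) (v : Fin 5 → R) : Matrix (Fin 5) (Fin 5) R :=
  Matrix.of (Fin.snoc (α := fun _ => Fin 5 → R) c v)

omit [CommRing R] in
theorem hM_last (c : Fin 4 → Fin 5 → R) (v : Fin 5 → R) : hM c v (Fin.last 4) = v :=
  Fin.snoc_last (α := fun _ => Fin 5 → R) v c

omit [CommRing R] in
theorem hM_cast (c : Fin 4 → Fin 5 → R) (v : Fin 5 → R) (m : Fin 4) : hM c v m.castSucc = c m :=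
  Fin.snoc_castSucc (α := fun _ => Fin 5 → R) v c m

theorem hM_eq (c : Fin 4 → Fin 5 → R) (v : Fin 5 → R) : hM c v = (hM c 0).updateRow (Fin.last 4) v := by
  ext a i
  refine Fin.lastCases ?_ (fun m => ?_) a
  · rw [Matrix.updateRow_self, hM_last]
  · rw [Matrix.updateRow_ne (Fin.castSucc_lt_last m).ne, hM_cast, hM_cast]

/-- `v ↦ det (c_0, c_1, c_2, c_3, v)` -/
def hL (c : Fin 4 → Fin 5 → R) : (Fin 5 → R) →ₗ[R] R where
  toFun v := (hM c v).det
  map_add' u v := by
    rw [hM_eq c (u + v), hM_eq c u, hM_eq c v, Matrix.det_updateRow_add]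
  map_smul' a v := by
    rw [hM_eq c (a • v), hM_eq c v, Matrix.det_updateRow_smul]
    rfl

theorem hL_apply (c : Fin 4 → Fin 5 → R) (v : Fin 5 → R) : hL c v = (hM c v).det := rfl

theorem hL_self (c : Fin 4 → Fin 5 → R) (m : Fin 4) : hL c (c m) = 0 := by
  rw [hL_apply]
  refine Matrix.det_zero_of_row_eq (i := m.castSucc) (j := Fin.last 4) (Fin.castSucc_lt_last m).ne ?_
  rw [hM_last, hM_cast]

theorem map_hL {S : Type*} [CommRing S] (φ : R →+* S) (c : Fin 4 → Fin 5 → R) (v : Fin 5 → R) :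
    φ (hL c v) = hL (fun m i => φ (c m i)) (fun i => φ (v i)) := by
  rw [hL_apply, hL_apply, RingHom.map_det]
  congr 1
  ext a i
  rw [RingHom.mapMatrix_apply, Matrix.map_apply]
  refine Fin.lastCases ?_ (fun m => ?_) a
  · rw [hM_last, hM_last]
  · rw [hM_cast, hM_cast]

/-- the coefficients of the linear form -/
def hv (c : Fin 4 → Fin 5 → R) (i : Fin 5) : R := hL c (Pi.single i 1)

theorem hL_eq_sum (c : Fin 4 → Fin 5 → R) (v : Fin 5 → R) : hL c v = ∑ i, hv c i * v i := by
  conv_lhs => rw [← Finset.univ_sum_single v, map_sum]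
  refine Finset.sum_congr rfl fun i _ => ?_
  have : (Pi.single i (v i) : Fin 5 → R) = v i • Pi.single i 1 := by
    rw [← Pi.single_smul, smul_eq_mul, mul_one]
  rw [this, map_smul, smul_eq_mul, mul_comm]
  rfl

end Det

section Field

variable {k : Type*} [Field k]

theorem linearIndependent_of_hL {c : Fin 4 → Fin 5 → k} {v : Fin 5 → k} (h : hL c v ≠ 0) :
    LinearIndependent k c := by
  rw [hL_apply] at h
  have h1 : LinearIndependent k (hM c v).row :=
    Matrix.linearIndependent_rows_iff_isUnit.2 ((Matrix.isUnit_iff_isUnit_det _).2 (isUnit_iff_ne_zero.2 h))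
  have h2 := h1.comp (Fin.castSucc : Fin 4 → Fin 5) (Fin.castSucc_injective 4)
  have h3 : (hM c v).row ∘ Fin.castSucc = c := by
    funext m
    exact hM_cast c v m
  rwa [h3] at h2

theorem exists_hL_ne_zero {c : Fin 4 → Fin 5 → k} (h : LinearIndependent k c) : ∃ v, hL c v ≠ 0 := by
  have hlt : finrank k ↥(Submodule.span k (Set.range c)) < finrank k (Fin 5 → k) := by
    rw [finrank_span_eq_card h]; simp
  obtain ⟨v, hv⟩ : ∃ v, v ∉ Submodule.span k (Set.range c) := by
    by_contra hcon
    push Not at hcon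
    have : Submodule.span k (Set.range c) = ⊤ := Submodule.eq_top_iff'.2 hcon
    rw [this, finrank_top] at hlt
    exact lt_irrefl _ hlt
  have h1 : LinearIndependent k (Fin.snoc c v : Fin 5 → Fin 5 → k) := linearIndependent_finSnoc.2 ⟨h, hv⟩
  have h2 : LinearIndependent k (hM c v).row := h1
  refine ⟨v, ?_⟩
  rw [hL_apply]
  exact isUnit_iff_ne_zero.1 ((Matrix.isUnit_iff_isUnit_det _).1 (Matrix.linearIndependent_rows_iff_isUnit.1 h2))

theorem ker_hL {c : Fin 4 → Fin 5 → k} (h : LinearIndependent k c) :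
    LinearMap.ker (hL c) = Submodule.span k (Set.range c) := by
  obtain ⟨v, hv⟩ := exists_hL_ne_zero h
  refine (Submodule.eq_of_le_of_finrank_eq ?_ ?_).symm
  · rw [Submodule.span_le]
    rintro _ ⟨m, rfl⟩
    exact hL_self c m
  · rw [finrank_span_eq_card h, Fintype.card_fin]
    have h1 := LinearMap.finrank_range_add_finrank_ker (hL c)
    have hr : finrank k ↥(LinearMap.range (hL c)) = 1 := by
      rw [LinearMap.range_eq_top.mpr (LinearMap.surjective (fun h0 => hv (by rw [h0]; rfl))), finrank_top,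
        finrank_self]
    have h5 : finrank k (Fin 5 → k) = 5 := by simp
    omega

end Field

section Disc

variable {k : Type u} [Field k] {T : (Fin 5 → k) →ₗ[k] (Fin 5 → k) →ₗ[k] (Fin 5 → k) →ₗ[k] k}

/-- coordinates on the dual space -/
noncomputable def dco (k : Type u) [Field k] : Dual k (Fin 5 → k) ≃ₗ[k] (Fin 5 → k) :=
  (Pi.basisFun k (Fin 5)).dualBasis.equivFun

theorem dco_apply (ξ : Dual k (Fin 5 → k)) (i : Fin 5) : dco k ξ i = ξ (Pi.single i 1) := by
  simp [dco]

open MvPolynomial in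
theorem eval_smul_sum {n : ℕ} (g : MvPolynomial (Fin n) k) (x : Fin n → k) (t : k) :
    eval (t • x) g = ∑ j ∈ Finset.range (g.totalDegree + 1), t ^ j * eval x (homogeneousComponent j g) := by
  conv_lhs => rw [← sum_homogeneousComponent g]
  rw [map_sum]
  refine Finset.sum_congr rfl fun j _ => ?_
  exact Groth.Agent.Lefpen.H703.Elim.eval_smul_of_isHomogeneous (homogeneousComponent_isHomogeneous j g) t x

open MvPolynomial in
theorem exists_disc [IsAlgClosed k] [CharZero k] (hT : IsSym3 T) (hsm : SmoothOn T ⊤) :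
    ∃ (d : ℕ) (G : MvPolynomial (Fin 5) k), G.IsHomogeneous d ∧ G ≠ 0 ∧ ∀ ξ : Dual k (Fin 5 → k),
      eval (fun i => ξ (Pi.single i 1)) G ≠ 0 → SmoothOn T (LinearMap.ker ξ) := by
  have hinf : Infinite k := IsAlgClosed.instInfinite
  have hV : finrank k (Fin 5 → k) = 5 := by simp
  obtain ⟨⟨a, b⟩, hab⟩ := (frames_irr hT hsm).1
  have hl := (isLine_span_iff hT (p := (a, b)) hab.1).2 hab
  obtain ⟨ξ₀, hξ₀, -, hs⟩ := K714.Bertini.exists_smooth_section hT hV hsm hl.1
  obtain ⟨f, hf, hf0, hfO⟩ := isZOpen_smooth T ξ₀ ⟨hξ₀, hs⟩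
  obtain ⟨g, hg⟩ := exists_eval (dco k) hf
  rw [hg] at hf0
  obtain ⟨j, hj⟩ : ∃ j, eval (dco k ξ₀) (homogeneousComponent j g) ≠ 0 := by
    by_contra hcon
    push Not at hcon
    apply hf0
    have := eval_smul_sum g (dco k ξ₀) 1
    rw [one_smul] at this
    rw [this]
    exact Finset.sum_eq_zero fun j _ => by rw [hcon j, mul_zero]
  refine ⟨j, homogeneousComponent j g, homogeneousComponent_isHomogeneous j g, ?_, ?_⟩
  · intro h0
    rw [h0, map_zero] at hj
    exact hj rfl
  · intro ξ hξ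
    have hco : (fun i => ξ (Pi.single i 1)) = dco k ξ := funext fun i => (dco_apply ξ i).symm
    rw [hco] at hξ
    obtain ⟨t, ht⟩ : ∃ t : k, eval (t • dco k ξ) g ≠ 0 := by
      by_contra hcon
      push Not at hcon
      apply hξ
      by_cases hjd : j < g.totalDegree + 1
      · refine K714.ConicIrr.coeffs_zero
          (fun j : Fin (g.totalDegree + 1) => eval (dco k ξ) (homogeneousComponent (j : ℕ) g)) (fun t => ?_)
          ⟨j, hjd⟩
        have h1 := hcon t
        rw [eval_smul_sum, Finset.sum_range] at h1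
        rw [← h1]
        exact Finset.sum_congr rfl fun i _ => mul_comm _ _
      · rw [homogeneousComponent_eq_zero _ _ (by omega), map_zero]
    rw [← map_smul, ← hg] at ht
    obtain ⟨h1, h2⟩ := hfO _ ht
    have ht0 : t ≠ 0 := by
      rintro rfl
      exact h1 (zero_smul _ _)
    rwa [LinearMap.ker_smul _ _ ht0] at h2

end Disc

end K714.TwDisc
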