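import Groth.Agent.Fano.K714.TwDisc
import Groth.Agent.Fano.K354.Gauss
import Groth.Agent.Fano.K798.TwTan

/-!
# The generic twisted cubic of a component spans a generic hyperplane

`generic_section`: if a parametrised twisted cubic `c` over an algebraically closed field `Ω ⊇ k` has ten
`k`-derivations with independent value vectors, then no nonzero homogeneous polynomial over `k` vanishes at the
coefficient vector of the hyperplane spanned by `c`.
-/

set_option autoImplicit false

universe u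

namespace K714.TwGen

open K656.Trilin Module K714.Surf K714.Tw K714.Frames K714.TwBase K714.TwDisc MvPolynomial

section Gen

variable {k : Type u} [Field k] {Ω : Type u} [Field Ω] [Algebra k Ω]

/-- chain rule -/
theorem deriv_aeval {n : ℕ} (δ : Derivation k Ω Ω) (h : Fin n → Ω) (G : MvPolynomial (Fin n) k) :
    δ (aeval h G) = ∑ i, aeval h (pderiv i G) * δ (h i) := by
  induction G using MvPolynomial.induction_on with
  | C a => simp
  | add p q hp hq => simp only [map_add, hp, hq, add_mul, Finset.sum_add_distrib]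
  | mul_X p j hp =>
    have h1 : ∀ i, pderiv i (p * X j) = pderiv i p * X j + p * Pi.single (M := fun _ => MvPolynomial (Fin n) k) i 1 j := by
      intro i
      rw [Derivation.leibniz, pderiv_X]
      simp only [smul_eq_mul]
      ring
    simp only [h1, map_add, map_mul, aeval_X, add_mul, Finset.sum_add_distrib]
    rw [Derivation.leibniz, hp, smul_eq_mul, smul_eq_mul, Finset.mul_sum, add_comm]
    congr 1
    · exact Finset.sum_congr rfl fun i _ => by ring
    · rw [Finset.sum_eq_single j]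
      · simp
      · intro i _ hi
        rw [Pi.single_eq_of_ne hi.symm]; simp
      · intro hj; exact absurd (Finset.mem_univ j) hj

/-- A functional vanishing on the kernel of a nonzero functional is a multiple of it. -/
theorem exists_mul {K : Type*} [Field K] {W : Type*} [AddCommGroup W] [Module K W] {h g : W →ₗ[K] K} {v : W}
    (hv : h v ≠ 0) (hg : ∀ w, h w = 0 → g w = 0) : ∃ μ : K, ∀ w, g w = μ * h w := by
  refine ⟨g v / h v, fun w => ?_⟩
  have h1 : h (w - (h w / h v) • v) = 0 := by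
    rw [map_sub, map_smul, smul_eq_mul, div_mul_cancel₀ _ hv, sub_self]
  have h2 := hg _ h1
  rw [map_sub, map_smul, smul_eq_mul, sub_eq_zero] at h2
  rw [h2]
  field_simp

theorem cf_congr {V : Type u} [AddCommGroup V] [Module Ω V] [Infinite Ω] (S : V →ₗ[Ω] V →ₗ[Ω] V →ₗ[Ω] Ω)
    {a b d a' b' d' : Fin 4 → V} (h : ∀ s t : Ω, S (tpt a s t) (tpt b s t) (tpt d s t) =
      S (tpt a' s t) (tpt b' s t) (tpt d' s t)) (w : Fin 10) : cf S a b d w = cf S a' b' d' w := by
  rw [← sub_eq_zero]
  refine K714.ConicIrr.coeffs_zero (fun w : Fin 10 => cf S a b d w - cf S a' b' d' w) (fun t => ?_) w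
  have h1 := h 1 t
  rw [cube_tpt, cube_tpt] at h1
  simp only [one_pow, one_mul] at h1
  simp only [sub_mul, Finset.sum_sub_distrib]
  rw [sub_eq_zero]
  exact h1

variable {T : (Fin 5 → k) →ₗ[k] (Fin 5 → k) →ₗ[k] (Fin 5 → k) →ₗ[k] k}

theorem deriv_cf (δ : Derivation k Ω Ω) (a b d : Fin 4 → Fin 5 → Ω) (w : ℕ) :
    δ (cf (bT T Ω) a b d w) = cf (bT T Ω) (fun m j => δ (a m j)) b d w + cf (bT T Ω) a (fun m j => δ (b m j)) d w +
      cf (bT T Ω) a b (fun m j => δ (d m j)) w := by
  simp only [cf, map_sum, ← Finset.sum_add_distrib]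
  refine Finset.sum_congr rfl fun i _ => Finset.sum_congr rfl fun j _ => Finset.sum_congr rfl fun l _ => ?_
  split_ifs
  · exact deriv_bT δ _ _ _
  · simp

/-- The value vectors of derivations are first-order deformations. -/
theorem deriv_mem_ker [CharZero Ω] [Infinite Ω] (hT : IsSym3 T) {c : Fin 4 → Fin 5 → Ω}
    (hc : ∀ s t : Ω, bT T Ω (tpt c s t) (tpt c s t) (tpt c s t) = 0) (δ : Derivation k Ω Ω) :
    (fun m j => δ (c m j)) ∈ LinearMap.ker (psiL (bT T Ω) c) := by
  have hS := bT_sym Ω hT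
  rw [LinearMap.mem_ker]
  funext w
  change cf (bT T Ω) c c (fun m j => δ (c m j)) w = 0
  have h1 := (cube_tpt_eq_zero_iff (bT T Ω) c c c).1 hc w
  have h2 := deriv_cf (T := T) δ c c c w
  rw [h1, map_zero] at h2
  have h3 : cf (bT T Ω) (fun m j => δ (c m j)) c c w = cf (bT T Ω) c c (fun m j => δ (c m j)) w :=
    cf_congr _ (fun s t => hS.rot _ _ _) w
  have h4 : cf (bT T Ω) c (fun m j => δ (c m j)) c w = cf (bT T Ω) c c (fun m j => δ (c m j)) w :=
    cf_congr _ (fun s t => hS.s23 _ _ _) w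
  rw [h3, h4] at h2
  have h5 : (3 : Ω) * cf (bT T Ω) c c (fun m j => δ (c m j)) w = 0 := by linear_combination -h2
  exact (mul_eq_zero.1 h5).resolve_left (by norm_num)

theorem tpt_ne_zero {V : Type u} [AddCommGroup V] [Module Ω V] {c : Fin 4 → V} (hc : LinearIndependent Ω c) {s t : Ω} (h : s ≠ 0 ∨ t ≠ 0) :
    tpt c s t ≠ 0 := by
  intro h0
  rw [tpt_eq_sum] at h0
  have h1 := Fintype.linearIndependent_iff.1 hc _ h0
  have h2 := h1 0
  have h3 := h1 3
  simp at h2 h3
  rcases h with h | h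
  · exact h h2
  · exact h h3

/-- With ten independent derivations every first-order deformation is the value vector of a derivation. -/
theorem exists_deriv [IsAlgClosed Ω] [CharZero Ω] (hT : IsSym3 T)
    {c : Fin 4 → Fin 5 → Ω}
    (hc : ∀ s t : Ω, bT T Ω (tpt c s t) (tpt c s t) (tpt c s t) = 0)
    (hsurj : Function.Surjective (psiL (bT T Ω) c))
    (δ : Fin 10 → Derivation k Ω Ω) (hδ : LinearIndependent Ω (fun i => fun m j => δ i (c m j)))
    (σ : Fin 4 → Fin 5 → Ω) (hσ : ∀ s t : Ω, bT T Ω (tpt c s t) (tpt c s t) (tpt σ s t) = 0) :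
    ∃ D : Derivation k Ω Ω, ∀ m j, D (c m j) = σ m j := by
  have hinf : Infinite Ω := IsAlgClosed.instInfinite
  have hker : σ ∈ LinearMap.ker (psiL (bT T Ω) c) := (mem_ker_psiL _ _ _).2 hσ
  have hdim : finrank Ω ↥(LinearMap.ker (psiL (bT T Ω) c)) = 10 := by
    have h1 := LinearMap.finrank_range_add_finrank_ker (psiL (bT T Ω) c)
    rw [LinearMap.range_eq_top.2 hsurj, finrank_top] at h1
    have h2 : finrank Ω (Fin 4 → Fin 5 → Ω) = 20 := by
      rw [finrank_pi_fintype]; simp
    have h3 : finrank Ω (Fin 10 → Ω) = 10 := by simp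
    omega
  have hle : Submodule.span Ω (Set.range (fun i => (fun m j => δ i (c m j) : Fin 4 → Fin 5 → Ω))) ≤
      LinearMap.ker (psiL (bT T Ω) c) := by
    rw [Submodule.span_le]
    rintro _ ⟨i, rfl⟩
    exact deriv_mem_ker hT hc (δ i)
  have heq := Submodule.eq_of_le_of_finrank_eq hle (by
    rw [finrank_span_eq_card hδ, Fintype.card_fin, hdim])
  rw [← heq] at hker
  obtain ⟨ω, hω⟩ := (Submodule.mem_span_range_iff_exists_fun Ω).1 hker
  refine ⟨∑ i, ω i • δ i, fun m j => ?_⟩
  rw [← hω]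
  have h1 : (∑ i, ω i • δ i) (c m j) = ∑ i, (ω i • δ i) (c m j) := by
    have := congrFun (map_sum (Derivation.coeFnAddMonoidHom (R := k) (A := Ω) (M := Ω)) (fun i => ω i • δ i)
      Finset.univ) (c m j)
    rw [Finset.sum_apply] at this
    exact this
  rw [h1]
  simp [Finset.sum_apply]

/-- derivative of the hyperplane -/
theorem deriv_hv {c : Fin 4 → Fin 5 → Ω} (D : Derivation k Ω Ω) (m : Fin 4) :
    ∑ i, D (hv c i) * c m i = - hL c (fun j => D (c m j)) := by
  have h1 : hL c (c m) = 0 := hL_self c m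
  rw [hL_eq_sum] at h1
  have h2 := congrArg D h1
  rw [map_sum, map_zero] at h2
  simp only [Derivation.leibniz, smul_eq_mul, Finset.sum_add_distrib] at h2
  rw [hL_eq_sum, eq_neg_iff_add_eq_zero, ← h2, add_comm]
  congr 1
  exact Finset.sum_congr rfl fun i _ => mul_comm _ _

/-- the functional with given coefficients -/
noncomputable def lf (ξ : Fin 5 → Ω) : (Fin 5 → Ω) →ₗ[Ω] Ω := ∑ i, ξ i • LinearMap.proj i

theorem lf_apply (ξ v : Fin 5 → Ω) : lf ξ v = ∑ i, ξ i * v i := by
  simp [lf]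

/-- functionals agreeing on the twisted cubic differ by a multiple of the hyperplane -/
theorem exists_mul_hv {c : Fin 4 → Fin 5 → Ω} (hc : LinearIndependent Ω c) {g : Fin 5 → Ω}
    (hg : ∀ m, ∑ i, g i * c m i = 0) : ∃ μ : Ω, ∀ i, g i = μ * hv c i := by
  obtain ⟨v, hv'⟩ := exists_hL_ne_zero hc
  obtain ⟨μ, hμ⟩ := exists_mul (h := hL c) (g := lf g) hv' (fun w hw => by
    have h1 : w ∈ Submodule.span Ω (Set.range c) := by
      rw [← ker_hL hc]; exact hw
    have h2 : Submodule.span Ω (Set.range c) ≤ LinearMap.ker (lf g) := by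
      rw [Submodule.span_le]
      rintro _ ⟨m, rfl⟩
      change lf g (c m) = 0
      rw [lf_apply]; exact hg m
    exact h2 h1)
  refine ⟨μ, fun i => ?_⟩
  have := hμ (Pi.single i 1)
  rw [lf_apply, Finset.sum_eq_single i] at this
  · rw [Pi.single_eq_same, mul_one] at this
    exact this
  · intro j _ hj
    rw [Pi.single_eq_of_ne hj, mul_zero]
  · intro h; exact absurd (Finset.mem_univ i) h

/-- derivative of a point of the parametrised curve -/
theorem deriv_tpt (D : Derivation k Ω Ω) (c : Fin 4 → Fin 5 → Ω) (s t : Ω) (j : Fin 5) :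
    D (tpt c s t j) = tpt (fun m j => D (c m j)) s t j + D s * tds c s t j + D t * tdt c s t j := by
  simp only [tpt, tds, tdt, Pi.add_apply, Pi.smul_apply, smul_eq_mul, map_add, Derivation.leibniz,
    Derivation.leibniz_pow, nsmul_eq_mul]
  push_cast
  ring

theorem three_tpt (c : Fin 4 → Fin 5 → Ω) (s t : Ω) :
    (3 : Ω) • tpt c s t = s • tds c s t + t • tdt c s t := by
  simp only [tpt, tds, tdt]
  module

/-- No singular point of the hyperplane section on the generic curve. -/
theorem no_bad [IsAlgClosed k] [CharZero k] [IsAlgClosed Ω] [CharZero Ω] (hT : IsSym3 T) (hsm : SmoothOn T ⊤)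
    {c : Fin 4 → Fin 5 → Ω} (hc : c ∈ TC (bT T Ω))
    (δ : Fin 10 → Derivation k Ω Ω) (hδ : LinearIndependent Ω (fun i => fun m j => δ i (c m j)))
    {s₀ t₀ : Ω} (h0 : s₀ ≠ 0 ∨ t₀ ≠ 0)
    (hx : ∀ w, hL c w = 0 → bT T Ω (tpt c s₀ t₀) (tpt c s₀ t₀) w = 0) : False := by
  have hinf : Infinite Ω := IsAlgClosed.instInfinite
  have hS := bT_sym Ω hT
  have hsmS := bT_smooth Ω hsm
  obtain ⟨v, hv'⟩ := exists_hL_ne_zero hc.1
  have hne : hL c ≠ 0 := fun h => hv' (by rw [h]; rfl)
  have hsurj : Function.Surjective (psiL (bT T Ω) c) :=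
    psiL_surjective _ (K798.TwTan.tangent_surj hS hsmS hc)
  obtain ⟨σ, hσ1, hσ2, hσ3⟩ := K798.TwTan.tangent_bad hS hsmS hc (hL c) hne (hL_self c) h0 hx
  obtain ⟨D, hD⟩ := exists_deriv hT hc.2 hsurj δ hδ σ hσ1
  -- the hyperplane is fixed by `D`
  obtain ⟨μ, hμ⟩ := exists_mul_hv hc.1 (g := fun i => D (hv c i)) (fun m => by
    rw [deriv_hv D m]
    have : (fun j => D (c m j)) = σ m := funext fun j => hD m j
    rw [this, hσ2, neg_zero])
  -- the gradient at the point is a multiple of the hyperplane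
  set x := tpt c s₀ t₀ with hxd
  have hx0 : x ≠ 0 := tpt_ne_zero hc.1 h0
  obtain ⟨ν, hν⟩ := exists_mul (h := hL c) (g := bT T Ω x x) hv' hx
  have hν0 : ν ≠ 0 := by
    rintro rfl
    obtain ⟨w, -, hw⟩ := hsmS x trivial hx0 (hc.2 s₀ t₀)
    exact hw (by rw [hν, zero_mul])
  obtain ⟨j, hj⟩ : ∃ j, hv c j ≠ 0 := by
    by_contra hcon
    push Not at hcon
    apply hv'
    rw [hL_eq_sum]
    exact Finset.sum_eq_zero fun i _ => by rw [hcon i, zero_mul]
  obtain ⟨κ, hκ⟩ := IsAlgClosed.exists_pow_nat_eq (ν * hv c j) (n := 2) (by norm_num)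
  have hκ0 : κ ≠ 0 := by
    rintro rfl
    rw [zero_pow (by norm_num)] at hκ
    exact mul_ne_zero hν0 hj hκ.symm
  -- the normalised point
  have hgc := K354.Gauss.gauss_const (T := T) hsm (fun i => κ⁻¹ * x i) (fun i => hv c i / hv c j) (by
    intro i
    have h1 : bT T Ω x x (Pi.single i 1) = ν * hv c i := hν _
    rw [bT_single] at h1
    have h2 : ∑ a, ∑ b, algebraMap k Ω (T (Pi.single a 1) (Pi.single b 1) (Pi.single i 1)) * (κ⁻¹ * x a) *
        (κ⁻¹ * x b) = (κ⁻¹) ^ 2 * ∑ a, ∑ b, algebraMap k Ω (T (Pi.single a 1) (Pi.single b 1) (Pi.single i 1)) *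
          (x a * x b) := by
      rw [Finset.mul_sum]
      refine Finset.sum_congr rfl fun a _ => ?_
      rw [Finset.mul_sum]
      exact Finset.sum_congr rfl fun b _ => by ring
    rw [h2, h1]
    field_simp
    rw [hκ]
    ring) D (by
    intro i
    have h1 : D (hv c i / hv c j) = (hv c j * D (hv c i) - hv c i * D (hv c j)) / hv c j ^ 2 := by
      rw [Derivation.leibniz_div]
      simp only [smul_eq_mul]
      field_simp
    rw [h1, hμ i, hμ j]
    ring)
  refine hσ3 (D κ * κ⁻¹ * 3⁻¹ * s₀ - D s₀) (D κ * κ⁻¹ * 3⁻¹ * t₀ - D t₀) ?_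
  funext i
  have h1 := hgc i
  rw [Derivation.leibniz, smul_eq_mul, smul_eq_mul] at h1
  have h2 : D (κ⁻¹) = - κ⁻¹ ^ 2 * D κ := by
    rw [Derivation.leibniz_inv]
    simp only [smul_eq_mul]
    try ring
  have h3 : D (x i) = κ⁻¹ * D κ * x i := by
    rw [h2] at h1
    have : κ⁻¹ * (D (x i) - κ⁻¹ * D κ * x i) = 0 := by linear_combination h1
    have h4 := (mul_eq_zero.1 this).resolve_left (inv_ne_zero hκ0)
    linear_combination h4
  have h5 := deriv_tpt D c s₀ t₀ i
  have h6 : (fun m j => D (c m j)) = σ := by funext m j; exact hD m j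
  rw [← hxd, h6, h3] at h5
  have h7 := congrFun (three_tpt c s₀ t₀) i
  simp only [Pi.add_apply, Pi.smul_apply, smul_eq_mul, ← hxd] at h7
  have h8 : x i = 3⁻¹ * (s₀ * tds c s₀ t₀ i + t₀ * tdt c s₀ t₀ i) := by
    rw [← h7, ← mul_assoc, inv_mul_cancel₀ (by norm_num : (3 : Ω) ≠ 0), one_mul]
  rw [h8] at h5
  simp only [Pi.add_apply, Pi.smul_apply, smul_eq_mul]
  linear_combination -h5

/-- **The hyperplane of the generic curve is generic.** -/
theorem generic_section [IsAlgClosed k] [CharZero k] [IsAlgClosed Ω] [CharZero Ω] (hT : IsSym3 T)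
    (hsm : SmoothOn T ⊤) {c : Fin 4 → Fin 5 → Ω} (hc : c ∈ TC (bT T Ω))
    (δ : Fin 10 → Derivation k Ω Ω) (hδ : LinearIndependent Ω (fun i => fun m j => δ i (c m j)))
    (d : ℕ) (G : MvPolynomial (Fin 5) k) (hG : G.IsHomogeneous d) (h0 : aeval (hv c) G = 0) : G = 0 := by
  have hinf : Infinite Ω := IsAlgClosed.instInfinite
  have hS := bT_sym Ω hT
  have hsmS := bT_smooth Ω hsm
  obtain ⟨v, hv'⟩ := exists_hL_ne_zero hc.1
  have hne : hL c ≠ 0 := fun h => hv' (by rw [h]; rfl)
  have hsurj : Function.Surjective (psiL (bT T Ω) c) :=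
    psiL_surjective _ (K798.TwTan.tangent_surj hS hsmS hc)
  have hgood : ∀ s t : Ω, (s ≠ 0 ∨ t ≠ 0) → ∃ w, hL c w = 0 ∧ bT T Ω (tpt c s t) (tpt c s t) w ≠ 0 := by
    intro s t hst
    by_contra hcon
    push Not at hcon
    exact no_bad hT hsm hc δ hδ hst hcon
  -- every functional is a derivative of the hyperplane, up to a multiple of it
  have key : ∀ ξ : Fin 5 → Ω, ∃ (D : Derivation k Ω Ω) (μ : Ω), ∀ i, ξ i = D (hv c i) + μ * hv c i := by
    intro ξ
    obtain ⟨σ, hσ1, hσ2⟩ := K798.TwTan.tangent_good hS hsmS hc (hL c) hne (hL_self c) hgood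
      (fun m => - ∑ i, ξ i * c m i)
    obtain ⟨D, hD⟩ := exists_deriv hT hc.2 hsurj δ hδ σ hσ1
    obtain ⟨μ, hμ⟩ := exists_mul_hv hc.1 (g := fun i => ξ i - D (hv c i)) (fun m => by
      simp only [sub_mul, Finset.sum_sub_distrib]
      rw [deriv_hv D m]
      have : (fun j => D (c m j)) = σ m := funext fun j => hD m j
      rw [this, hσ2]
      ring)
    exact ⟨D, μ, fun i => by rw [← hμ i]; ring⟩
  induction d generalizing G with
  | zero =>
    obtain ⟨a, rfl⟩ : ∃ a, G = C a := ⟨_, (totalDegree_eq_zero_iff_eq_C).1 (hG.totalDegree_le.antisymm (Nat.zero_le _))⟩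
    rw [aeval_C] at h0
    rw [(map_eq_zero_iff _ (algebraMap k Ω).injective).1 h0, C_0]
  | succ d ih =>
    have hE : ∑ i, X i * pderiv i G = (d + 1) • G := hG.sum_X_mul_pderiv
    have hE' : ∑ i, hv c i * aeval (hv c) (pderiv i G) = 0 := by
      have := congrArg (aeval (hv c)) hE
      rw [map_sum, map_nsmul, h0, smul_zero] at this
      simpa using this
    have h1 : ∀ i, aeval (hv c) (pderiv i G) = 0 := by
      intro i
      obtain ⟨D, μ, hDμ⟩ := key (Pi.single i 1)
      have h2 := deriv_aeval D (hv c) G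
      rw [h0, map_zero] at h2
      have h3 : ∑ j, aeval (hv c) (pderiv j G) * (Pi.single i 1 : Fin 5 → Ω) j = 0 := by
        have h4 : ∀ j, aeval (hv c) (pderiv j G) * (Pi.single i 1 : Fin 5 → Ω) j =
            aeval (hv c) (pderiv j G) * D (hv c j) + μ * (hv c j * aeval (hv c) (pderiv j G)) := by
          intro j
          rw [hDμ j]; ring
        simp only [h4, Finset.sum_add_distrib, ← Finset.mul_sum]
        rw [← h2, hE']
        ring
      rw [Finset.sum_eq_single i] at h3
      · rw [Pi.single_eq_same, mul_one] at h3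
        exact h3
      · intro j _ hj
        rw [Pi.single_eq_of_ne hj, mul_zero]
      · intro h; exact absurd (Finset.mem_univ i) h
    have h2 : ∀ i, pderiv i G = 0 := fun i => ih (pderiv i G) (by
      have := hG.pderiv (i := i)
      simpa using this) (h1 i)
    have h3 : (d + 1) • G = 0 := by
      rw [← hE]
      exact Finset.sum_eq_zero fun i _ => by rw [h2 i, mul_zero]
    exact (smul_eq_zero.1 h3).resolve_left (by omega)

end Gen

end K714.TwGen
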