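import Groth.Agent.Fano.K714.TwDense
import Groth.Agent.Fano.K118.TwPhi
import Groth.Agent.Fano.K924.TwEx
import Groth.Agent.Fano.K714.RatTop

/-!
# The parametrised twisted cubics on a smooth cubic threefold form an irreducible set
-/

set_option autoImplicit false
set_option linter.unusedSimpArgs false

universe u

namespace K714.TwIrr

open K656.Trilin Module K714.Surf K714.Tw K714.Frames K714.TwBase K714.Irr K714.FanoConn K714.ConicIrr
  Groth.Agent.Lefpen.H703.ZOpen LefPen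

variable {k : Type u} [Field k]

section Coef

variable {V : Type u} [AddCommGroup V] [Module k V] (T : V →ₗ[k] V →ₗ[k] V →ₗ[k] k)

/-- coefficient vectors of `phipt` -/
def phic (a b p q : V) (l₀ l₁ : k) : Fin 4 → V :=
  ![(T a p p * T a q q - T a p q ^ 2 + l₀ ^ 2) • a -
      (T a q q * T a a p - T a p q * T a a q - l₀ * T a a q) • p -
      (T a p p * T a a q - T a p q * T a a p + l₀ * T a a p) • q,
    (T a p p * T b q q + T b p p * T a q q - 2 * T a p q * T b p q + 2 * l₀ * l₁) • a +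
      (T a p p * T a q q - T a p q ^ 2 + l₀ ^ 2) • b -
      (T b q q * T a a p + 2 * T a q q * T a b p - T b p q * T a a q - 2 * T a p q * T a b q -
        l₁ * T a a q - 2 * l₀ * T a b q) • p -
      (T b p p * T a a q + 2 * T a p p * T a b q - T b p q * T a a p - 2 * T a p q * T a b p +
        l₁ * T a a p + 2 * l₀ * T a b p) • q,
    (T b p p * T b q q - T b p q ^ 2 + l₁ ^ 2) • a +
      (T a p p * T b q q + T b p p * T a q q - 2 * T a p q * T b p q + 2 * l₀ * l₁) • b -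
      (T a q q * T b b p + 2 * T b q q * T a b p - T a p q * T b b q - 2 * T b p q * T a b q -
        l₀ * T b b q - 2 * l₁ * T a b q) • p -
      (T a p p * T b b q + 2 * T b p p * T a b q - T a p q * T b b p - 2 * T b p q * T a b p +
        l₀ * T b b p + 2 * l₁ * T a b p) • q,
    (T b p p * T b q q - T b p q ^ 2 + l₁ ^ 2) • b -
      (T b q q * T b b p - T b p q * T b b q - l₁ * T b b q) • p -
      (T b p p * T b b q - T b p q * T b b p + l₁ * T b b p) • q]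

theorem tpt_phic {T : V →ₗ[k] V →ₗ[k] V →ₗ[k] k} (hT : IsSym3 T) (a b p q : V) (l₀ l₁ s t : k) :
    tpt (phic T a b p q l₀ l₁) s t = phipt T a b p q l₀ l₁ s t := by
  have e1 : T b a p = T a b p := hT.s12 _ _ _
  have e2 : T b a q = T a b q := hT.s12 _ _ _
  simp only [tpt, phic, phipt, Matrix.cons_val, map_add, map_smul, LinearMap.add_apply,
    LinearMap.smul_apply, smul_eq_mul, e1, e2]
  module

end Coef

variable {T : (Fin 5 → k) →ₗ[k] (Fin 5 → k) →ₗ[k] (Fin 5 → k) →ₗ[k] k}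

/-- the ambient parameter space -/
abbrev Par3 (k : Type u) : Type u :=
  (((Fin 5 → k) × (Fin 5 → k)) × ((Fin 5 → k) × (Fin 5 → k))) × ((k × k) × k)

/-- the parametrisation -/
def Phi (T : (Fin 5 → k) →ₗ[k] (Fin 5 → k) →ₗ[k] (Fin 5 → k) →ₗ[k] k) (x : Par3 k) : Fin 4 → Fin 5 → k :=
  x.2.2 • phic T x.1.1.1 x.1.1.2 x.1.2.1 x.1.2.2 x.2.1.1 x.2.1.2

/-- pairs of frames of lines -/
def Ns3 (T : (Fin 5 → k) →ₗ[k] (Fin 5 → k) →ₗ[k] (Fin 5 → k) →ₗ[k] k) : Set (Par3 k) :=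
  {x | x.1.1 ∈ FR T ∧ x.1.2 ∈ FR T}

theorem ns3_irr [IsAlgClosed k] [CharZero k] (hT : IsSym3 T) (hsm : SmoothOn T ⊤) : Irr k (Ns3 T) := by
  have hinf : Infinite k := IsAlgClosed.instInfinite
  exact ((frames_irr hT hsm).prod (frames_irr hT hsm)).prod_univ (W := (k × k) × k)

section Poly

variable {X : Type u} [AddCommGroup X] [Module k X]

theorem pm_phic {a b p q : X → Fin 5 → k} {l₀ l₁ : X → k} (ha : IsPolyMap k a) (hb : IsPolyMap k b)
    (hp : IsPolyMap k p) (hq : IsPolyMap k q) (h0 : IsPolyFun k l₀) (h1 : IsPolyFun k l₁) :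
    IsPolyMap k (fun x => phic T (a x) (b x) (p x) (q x) (l₀ x) (l₁ x)) := by
  have c2 : IsPolyFun k (fun _ : X => (2 : k)) := isPolyFun_const 2
  have app := pf_T (T := T) ha hp hp
  have aqq := pf_T (T := T) ha hq hq
  have apq := pf_T (T := T) ha hp hq
  have bpp := pf_T (T := T) hb hp hp
  have bqq := pf_T (T := T) hb hq hq
  have bpq := pf_T (T := T) hb hp hq
  have aap := pf_T (T := T) ha ha hp
  have aaq := pf_T (T := T) ha ha hq
  have abp := pf_T (T := T) ha hb hp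
  have abq := pf_T (T := T) ha hb hq
  have bbp := pf_T (T := T) hb hb hp
  have bbq := pf_T (T := T) hb hb hq
  have E0 := pf_add (pf_sub (pf_mul app aqq) (pf_pow apq 2)) (pf_pow h0 2)
  have E1 := pf_add (pf_sub (pf_add (pf_mul app bqq) (pf_mul bpp aqq)) (pf_mul (pf_mul c2 apq) bpq))
    (pf_mul (pf_mul c2 h0) h1)
  have E2 := pf_add (pf_sub (pf_mul bpp bqq) (pf_pow bpq 2)) (pf_pow h1 2)
  refine pm_pi fun i => ?_
  fin_cases i
  · exact pm_sub (pm_sub (pm_smul E0 ha)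
      (pm_smul (pf_sub (pf_sub (pf_mul aqq aap) (pf_mul apq aaq)) (pf_mul h0 aaq)) hp))
      (pm_smul (pf_add (pf_sub (pf_mul app aaq) (pf_mul apq aap)) (pf_mul h0 aap)) hq)
  · exact pm_sub (pm_sub (pm_add (pm_smul E1 ha) (pm_smul E0 hb))
      (pm_smul (pf_sub (pf_sub (pf_sub (pf_sub (pf_add (pf_mul bqq aap) (pf_mul (pf_mul c2 aqq) abp))
        (pf_mul bpq aaq)) (pf_mul (pf_mul c2 apq) abq)) (pf_mul h1 aaq)) (pf_mul (pf_mul c2 h0) abq)) hp))
      (pm_smul (pf_add (pf_add (pf_sub (pf_sub (pf_add (pf_mul bpp aaq) (pf_mul (pf_mul c2 app) abq))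
        (pf_mul bpq aap)) (pf_mul (pf_mul c2 apq) abp)) (pf_mul h1 aap)) (pf_mul (pf_mul c2 h0) abp)) hq)
  · exact pm_sub (pm_sub (pm_add (pm_smul E2 ha) (pm_smul E1 hb))
      (pm_smul (pf_sub (pf_sub (pf_sub (pf_sub (pf_add (pf_mul aqq bbp) (pf_mul (pf_mul c2 bqq) abp))
        (pf_mul apq bbq)) (pf_mul (pf_mul c2 bpq) abq)) (pf_mul h0 bbq)) (pf_mul (pf_mul c2 h1) abq)) hp))
      (pm_smul (pf_add (pf_add (pf_sub (pf_sub (pf_add (pf_mul app bbq) (pf_mul (pf_mul c2 bpp) abq))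
        (pf_mul apq bbp)) (pf_mul (pf_mul c2 bpq) abp)) (pf_mul h0 bbp)) (pf_mul (pf_mul c2 h1) abp)) hq)
  · exact pm_sub (pm_sub (pm_smul E2 hb)
      (pm_smul (pf_sub (pf_sub (pf_mul bqq bbp) (pf_mul bpq bbq)) (pf_mul h1 bbq)) hp))
      (pm_smul (pf_add (pf_sub (pf_mul bpp bbq) (pf_mul bpq bbp)) (pf_mul h1 bbp)) hq)

end Poly

theorem pm_Phi : IsPolyMap k (Phi T) := by
  have hV : ∀ {A B : Type u} [AddCommGroup A] [Module k A] [AddCommGroup B] [Module k B],
      IsPolyMap k (fun x : A × B => x.1) := fun {A B} _ _ _ _ => isPolyMap_fst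
  have h1 : IsPolyMap k (fun x : Par3 k => x.1) := isPolyMap_fst
  have h2 : IsPolyMap k (fun x : Par3 k => x.2) := isPolyMap_snd
  have h11 : IsPolyMap k (fun x : Par3 k => x.1.1) := pm_comp isPolyMap_fst h1
  have h12 : IsPolyMap k (fun x : Par3 k => x.1.2) := pm_comp isPolyMap_snd h1
  have h111 : IsPolyMap k (fun x : Par3 k => x.1.1.1) := pm_comp isPolyMap_fst h11
  have h112 : IsPolyMap k (fun x : Par3 k => x.1.1.2) := pm_comp isPolyMap_snd h11
  have h121 : IsPolyMap k (fun x : Par3 k => x.1.2.1) := pm_comp isPolyMap_fst h12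
  have h122 : IsPolyMap k (fun x : Par3 k => x.1.2.2) := pm_comp isPolyMap_snd h12
  have h21 : IsPolyMap k (fun x : Par3 k => x.2.1) := pm_comp isPolyMap_fst h2
  have h211 : IsPolyFun k (fun x : Par3 k => x.2.1.1) := isPolyMap_iff_isPolyFun.1 (pm_comp isPolyMap_fst h21)
  have h212 : IsPolyFun k (fun x : Par3 k => x.2.1.2) := isPolyMap_iff_isPolyFun.1 (pm_comp isPolyMap_snd h21)
  have h22 : IsPolyFun k (fun x : Par3 k => x.2.2) := isPolyMap_iff_isPolyFun.1 (pm_comp isPolyMap_snd h2)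
  exact pm_smul h22 (pm_phic h111 h112 h121 h122 h211 h212)

theorem Phi_vanish [CharZero k] (hT : IsSym3 T) {x : Par3 k} (hx : x ∈ Ns3 T) (s t : k) :
    T (tpt (Phi T x) s t) (tpt (Phi T x) s t) (tpt (Phi T x) s t) = 0 := by
  obtain ⟨⟨⟨a, b⟩, ⟨p, q⟩⟩, ⟨l₀, l₁⟩, r⟩ := x
  obtain ⟨hab, hpq⟩ := hx
  have h6 : tpt (Phi T (((a, b), (p, q)), ((l₀, l₁), r))) s t = r • phipt T a b p q l₀ l₁ s t := by
    rw [← tpt_phic hT]
    simp only [tpt, Phi, Pi.smul_apply]
    module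
  have h7 := cube_phipt hT
    (fun s t => ((isLine_span_iff hT (p := (a, b)) hab.1).2 hab).2 _ (Submodule.mem_span_pair.2 ⟨s, t, rfl⟩))
    (fun s t => ((isLine_span_iff hT (p := (p, q)) hpq.1).2 hpq).2 _ (Submodule.mem_span_pair.2 ⟨s, t, rfl⟩))
    l₀ l₁ s t
  rw [h6]
  simp only [map_smul, LinearMap.smul_apply, smul_eq_mul, h7]
  ring

/-- **The parametrised twisted cubics form an irreducible set.** -/
theorem tc_irr [IsAlgClosed k] [CharZero k] (hT : IsSym3 T) (hsm : SmoothOn T ⊤) : Irr k (TC T) := by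
  have hinf : Infinite k := IsAlgClosed.instInfinite
  have hsub : Phi T '' Ns3 T ∩ {c | LinearIndependent k c} ⊆ TC T := by
    rintro _ ⟨⟨x, hx, rfl⟩, hli⟩
    exact ⟨hli, Phi_vanish hT hx⟩
  have hmem : ∀ c ∈ TC T, SmoothOn T (Submodule.span k (Set.range c)) →
      c ∈ Phi T '' Ns3 T ∩ {c | LinearIndependent k c} := by
    intro c hc hs
    obtain ⟨a, b, p, q, l₀, l₁, r, hab, hpq, h⟩ := K118.TwPhi.exists_phi hT hsm hc hs
    refine ⟨⟨(((a, b), (p, q)), ((l₀, l₁), r)), ⟨hab, hpq⟩, ?_⟩, hc.1⟩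
    refine tpt_injective (k := k) fun s t => ?_
    rw [h s t, ← tpt_phic hT]
    simp only [tpt, Phi, Pi.smul_apply]
    module
  have hdense : ∀ c ∈ TC T, ∀ O : Set (Fin 4 → Fin 5 → k), IsZOpen k O → c ∈ O →
      ((Phi T '' Ns3 T ∩ {c | LinearIndependent k c}) ∩ O).Nonempty := by
    intro c hc O hO hcO
    obtain ⟨c', hc', hc'O, hs⟩ := K714.TwDense.exists_smooth_span hT hsm hc hO hcO
    exact ⟨c', hmem c' hc' hs, hc'O⟩
  refine Irr.of_dense (((ns3_irr hT hsm).image pm_Phi).inter_open isZOpen_indepN ?_) hsub hdense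
  obtain ⟨c, hc⟩ := K924.TwEx.tc_nonempty hT hsm
  obtain ⟨c', hc', -⟩ := hdense c hc Set.univ isZOpen_univ trivial
  exact ⟨c', hc'⟩

section Bridge

open Groth.Agent.Fano.K714.Rat

theorem cpt_three (c : Fin 4 → Fin 5 → k) (s t : k) : cpt (d := 3) c s t = tpt c s t := by
  have h := Fin.sum_univ_four fun m : Fin 4 => (s ^ (3 - (m : ℕ)) * t ^ (m : ℕ)) • c m
  refine h.trans ?_
  simp [tpt]

theorem par_three [CharZero k] (f : LefPen.Form 4 k 3) : Par f 3 = TC (K656.Trilin.tri f.1) := by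
  ext c
  refine and_congr Iff.rfl ?_
  refine forall₂_congr fun s t => ?_
  rw [cpt_three, K656.Trilin.tri_diag f.2]

theorem par3_irr [IsAlgClosed k] [CharZero k] (f : LefPen.Form 4 k 3) (hf : f ≠ 0)
    [hs : AlgebraicGeometry.Smooth (ps f)] : Irr k (Par f 3) := by
  rw [par_three]
  exact tc_irr (K656.Trilin.tri_sym f.1) (Groth.Agent.Fano.K714.JacSm.smoothOn_tri f hf hs)

end Bridge

end K714.TwIrr
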